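import Groth.Prelude.Def_LambdaSp
import Mathlib.RingTheory.PowerSeries.Substitution
import Mathlib.RingTheory.PowerSeries.WellKnown

/-! Basic calculus of pre-λ-rings: the series λ_t, γ_t, Adams operations, splitting. -/

universe u

open PowerSeries Finset LambdaRing

namespace Groth.Agent.H27Lambda

variable {K : Type u} [CommRing K] [LambdaOps K]

lemma coeff_lamSeries (n : ℕ) (x : K) :
    coeff n (lamSeries x) = LambdaOps.lam n x := by simp [lamSeries]

lemma constantCoeff_lamSeries (x : K) : constantCoeff (lamSeries x) = 1 := by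
  rw [← coeff_zero_eq_constantCoeff_apply, coeff_lamSeries, LambdaOps.lam_zero]

lemma lamSeries_add (x y : K) : lamSeries (x + y) = lamSeries x * lamSeries y := by
  ext n
  rw [coeff_lamSeries, coeff_mul, Finset.Nat.sum_antidiagonal_eq_sum_range_succ_mk,
    LambdaOps.lam_add]
  simp [coeff_lamSeries]

lemma isUnit_lamSeries (x : K) : IsUnit (lamSeries x) := by
  rw [isUnit_iff_constantCoeff, constantCoeff_lamSeries]
  exact isUnit_one

lemma lamSeries_zero : lamSeries (0 : K) = 1 := by
  have h := lamSeries_add (0 : K) 0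
  rw [add_zero] at h
  exact ((isUnit_lamSeries (0 : K)).mul_left_cancel (a := lamSeries (0 : K))
    (by rw [mul_one]; exact h.symm))

lemma lam_zero_of_pos {n : ℕ} (hn : 0 < n) : LambdaOps.lam n (0 : K) = 0 := by
  rw [← coeff_lamSeries, lamSeries_zero, coeff_one, if_neg (by omega)]

/-- λ_t as a monoid homomorphism from the additive group. -/
noncomputable def lamHom : Multiplicative K →* PowerSeries K where
  toFun x := lamSeries x.toAdd
  map_one' := lamSeries_zero
  map_mul' x y := lamSeries_add x.toAdd y.toAdd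

lemma lamSeries_sum {ι : Type*} (s : Finset ι) (f : ι → K) :
    lamSeries (∑ i ∈ s, f i) = ∏ i ∈ s, lamSeries (f i) := by
  classical
  induction s using Finset.induction with
  | empty => simp [lamSeries_zero]
  | insert a s ha ih => rw [sum_insert ha, prod_insert ha, lamSeries_add, ih]

lemma lamSeries_multiset_sum (s : Multiset K) :
    lamSeries s.sum = (s.map lamSeries).prod := by
  induction s using Multiset.induction with
  | empty => simp [lamSeries_zero]
  | cons a s ih => simp [lamSeries_add, ih]

lemma lamSeries_natCast (n : ℕ) : lamSeries (n : K) = lamSeries (1 : K) ^ n := by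
  induction n with
  | zero => simp [lamSeries_zero]
  | succ n ih => rw [Nat.cast_succ, lamSeries_add, ih, pow_succ]

lemma lamSeries_of_linear {u : K} (hu : ∀ k : ℕ, 2 ≤ k → LambdaOps.lam k u = 0) :
    lamSeries u = 1 + C u * X := by
  ext n
  rw [coeff_lamSeries]
  match n with
  | 0 => simp [LambdaOps.lam_zero]
  | 1 => simp [LambdaOps.lam_one]
  | n + 2 => simp [hu (n + 2) (by omega), coeff_one]

lemma lamSeries_one (h1 : ∀ k : ℕ, 2 ≤ k → LambdaOps.lam k (1 : K) = 0) :
    lamSeries (1 : K) = 1 + X := by
  rw [lamSeries_of_linear h1, map_one, one_mul]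

lemma lamSeries_natCast' (h1 : ∀ k : ℕ, 2 ≤ k → LambdaOps.lam k (1 : K) = 0) (n : ℕ) :
    lamSeries (n : K) = (1 + X) ^ n := by
  rw [lamSeries_natCast, lamSeries_one h1]

/-! ### γ -/

/-- The series X/(1-X). -/
noncomputable def sX : PowerSeries K := X * (PowerSeries.mk 1)

omit [LambdaOps K] in
lemma constantCoeff_sX : constantCoeff (sX (K := K)) = 0 := by simp [sX]

omit [LambdaOps K] in
lemma hasSubst_sX : HasSubst (sX (K := K)) :=
  HasSubst.of_constantCoeff_zero' constantCoeff_sX

/-- γ_t(x). -/
noncomputable def gammaSeries (x : K) : PowerSeries K :=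
  PowerSeries.mk fun k => LambdaRing.gamma k x

lemma coeff_gammaSeries (n : ℕ) (x : K) :
    coeff n (gammaSeries x) = LambdaRing.gamma n x := by simp [gammaSeries]

omit [LambdaOps K] in
lemma coeff_sX_pow_succ (n d : ℕ) :
    coeff n (sX (K := K) ^ (d + 1)) = if d + 1 ≤ n then ((n - 1).choose d : K) else 0 := by
  rw [sX, mul_pow, coeff_X_pow_mul']
  split_ifs with h
  · rw [PowerSeries.mk_one_pow_eq_mk_choose_add, coeff_mk]
    congr 2
    omega
  · rfl

lemma gammaSeries_eq_subst (x : K) : gammaSeries x = (lamSeries x).subst sX := by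
  ext n
  rw [coeff_gammaSeries, coeff_subst' hasSubst_sX]
  rw [finsum_eq_sum_of_support_subset _ (s := range (n + 1)) ?_]
  · simp only [coeff_lamSeries, smul_eq_mul]
    match n with
    | 0 => simp [LambdaRing.gamma, LambdaOps.lam_zero]
    | n + 1 =>
      rw [LambdaRing.gamma, if_neg (by omega), sum_range_succ' _ (n + 1),
        sum_range_succ' _ (n + 1)]
      rw [if_pos rfl, mul_zero, add_zero, pow_zero, coeff_one, if_neg (by omega), mul_zero,
        add_zero]
      refine sum_congr rfl fun j hj => ?_
      rw [coeff_sX_pow_succ, if_neg (Nat.succ_ne_zero j),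
        if_pos (show j + 1 ≤ n + 1 by simp at hj; omega)]
      rw [Nat.add_sub_cancel, Nat.add_sub_cancel, mul_comm]
  · intro j hj
    by_contra hjn
    apply hj
    simp only [coe_range, Set.mem_Iio, not_lt] at hjn
    obtain ⟨d, rfl⟩ : ∃ d, j = d + 1 := ⟨j - 1, by omega⟩
    simp only
    rw [coeff_sX_pow_succ, if_neg (by omega), smul_zero]

lemma gamma_zero (x : K) : LambdaRing.gamma 0 x = 1 := by simp [LambdaRing.gamma]

lemma gamma_one (x : K) : LambdaRing.gamma 1 x = x := by
  simp [LambdaRing.gamma, sum_range_succ, LambdaOps.lam_one]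

lemma gammaSeries_add (x y : K) : gammaSeries (x + y) = gammaSeries x * gammaSeries y := by
  rw [gammaSeries_eq_subst, gammaSeries_eq_subst, gammaSeries_eq_subst, lamSeries_add,
    subst_mul hasSubst_sX]

lemma gammaSeries_zero : gammaSeries (0 : K) = 1 := by
  rw [gammaSeries_eq_subst, lamSeries_zero, ← coe_substAlgHom hasSubst_sX, map_one]

lemma gammaSeries_sum {ι : Type*} (s : Finset ι) (f : ι → K) :
    gammaSeries (∑ i ∈ s, f i) = ∏ i ∈ s, gammaSeries (f i) := by
  classical
  induction s using Finset.induction with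
  | empty => simp [gammaSeries_zero]
  | insert a s ha ih => rw [sum_insert ha, prod_insert ha, gammaSeries_add, ih]

lemma gammaSeries_sub_one {u : K} (h1 : ∀ k : ℕ, 2 ≤ k → LambdaOps.lam k (1 : K) = 0)
    (hu : ∀ k : ℕ, 2 ≤ k → LambdaOps.lam k u = 0) :
    gammaSeries (u - 1) = 1 + C (u - 1) * X := by
  have hu' : gammaSeries u = 1 + C u * sX := by
    rw [gammaSeries_eq_subst, lamSeries_of_linear hu, ← coe_substAlgHom hasSubst_sX, map_add,
      map_mul, map_one, substAlgHom_X hasSubst_sX]
    rw [coe_substAlgHom, subst_C]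
    rfl
  have h1' : gammaSeries (1 : K) = 1 + sX := by
    rw [gammaSeries_eq_subst, lamSeries_one h1, ← coe_substAlgHom hasSubst_sX, map_add,
      map_one, substAlgHom_X hasSubst_sX]
  have hg : gammaSeries (u - 1) * gammaSeries 1 = gammaSeries u := by
    rw [← gammaSeries_add, sub_add_cancel]
  have hm : PowerSeries.mk (1 : ℕ → K) * (1 - X) = 1 := mk_one_mul_one_sub_eq_one K
  have hs : (1 + sX (K := K)) * (1 - X) = 1 := by
    rw [sX, add_mul, mul_assoc, hm]; ring
  have hs' : sX (K := K) * (1 - X) = X := by rw [sX, mul_assoc, hm, mul_one]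
  calc gammaSeries (u - 1) = gammaSeries (u - 1) * ((1 + sX) * (1 - X)) := by rw [hs, mul_one]
    _ = (1 + C u * sX) * (1 - X) := by rw [← mul_assoc, ← h1', hg, hu']
    _ = (1 - X) + C u * X := by rw [add_mul, one_mul, mul_assoc, hs']
    _ = _ := by rw [map_sub, map_one]; ring

/-! ### Adams operations -/

omit [LambdaOps K] in
lemma invOfUnit_one_mul {f g : PowerSeries K} (hf : constantCoeff f = 1)
    (hg : constantCoeff g = 1) :
    (f * g).invOfUnit 1 = f.invOfUnit 1 * g.invOfUnit 1 := by
  have hfg : constantCoeff (f * g) = ((1 : Kˣ) : K) := by simp [hf, hg]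
  have hu : IsUnit (f * g) := by rw [isUnit_iff_constantCoeff, hfg]; exact isUnit_one
  apply hu.mul_left_cancel
  rw [mul_invOfUnit _ _ hfg,
    show f * g * (f.invOfUnit 1 * g.invOfUnit 1)
      = (f * f.invOfUnit 1) * (g * g.invOfUnit 1) by ring,
    mul_invOfUnit _ _ (by simpa using hf), mul_invOfUnit _ _ (by simpa using hg), one_mul]

omit [LambdaOps K] in
lemma constantCoeff_rescale (a : K) (f : PowerSeries K) :
    constantCoeff (rescale a f) = constantCoeff f := by
  rw [← coeff_zero_eq_constantCoeff_apply, coeff_rescale]; simp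

omit [LambdaOps K] in
lemma invOfUnit_one_eq {f g : PowerSeries K} (hf : constantCoeff f = 1) (h : f * g = 1) :
    f.invOfUnit 1 = g := by
  have hu : IsUnit f := by rw [isUnit_iff_constantCoeff, hf]; exact isUnit_one
  apply hu.mul_left_cancel
  rw [mul_invOfUnit _ _ (by simpa using hf), h]

omit [LambdaOps K] in
lemma dlog_mul {f g : PowerSeries K} (hf : constantCoeff f = 1) (hg : constantCoeff g = 1) :
    d⁄dX K (f * g) * (f * g).invOfUnit 1 =
      d⁄dX K f * f.invOfUnit 1 + d⁄dX K g * g.invOfUnit 1 := by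
  rw [invOfUnit_one_mul hf hg, Derivation.leibniz, smul_eq_mul, smul_eq_mul]
  have hf' := mul_invOfUnit f (1 : Kˣ) (by simpa using hf)
  have hg' := mul_invOfUnit g (1 : Kˣ) (by simpa using hg)
  linear_combination (d⁄dX K g * g.invOfUnit 1) * hf' + (d⁄dX K f * f.invOfUnit 1) * hg'

lemma adamsSeries_add (P : PosStructure K) (x y : K) :
    adamsSeries P (x + y) = adamsSeries P x + adamsSeries P y := by
  have h := dlog_mul (f := rescale (-1 : K) (lamSeries x)) (g := rescale (-1 : K) (lamSeries y))
    (by rw [constantCoeff_rescale, constantCoeff_lamSeries])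
    (by rw [constantCoeff_rescale, constantCoeff_lamSeries])
  simp only [adamsSeries, lamSeries_add, map_mul, map_add, Int.cast_add, mul_assoc, h]
  ring

/-- The Adams operation as an additive map. -/
noncomputable def adamsHom (P : PosStructure K) (j : ℕ) : K →+ K :=
  AddMonoidHom.mk' (adams P j) fun x y => by simp [adams, adamsSeries_add]

lemma adamsHom_apply (P : PosStructure K) (j : ℕ) (x : K) : adamsHom P j x = adams P j x := rfl

lemma lam_eq_zero_of_line {P : PosStructure K} {u : K} (hu : P.IsLine u) :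
    ∀ k : ℕ, 2 ≤ k → LambdaOps.lam k u = 0 := fun k hk =>
  P.lam_eq_zero u hu.1 k (by rw [hu.2]; omega)

lemma isLine_one (P : PosStructure K) : P.IsLine 1 :=
  ⟨by simpa using P.natCast_mem 1 one_pos, map_one P.aug⟩

lemma lam_one_eq_zero (P : PosStructure K) : ∀ k : ℕ, 2 ≤ k → LambdaOps.lam k (1 : K) = 0 :=
  lam_eq_zero_of_line (isLine_one P)

lemma isLine_mul {P : PosStructure K} {u v : K} (hu : P.IsLine u) (hv : P.IsLine v) :
    P.IsLine (u * v) := ⟨P.mul_mem u v hu.1 hv.1, by rw [map_mul, hu.2, hv.2, one_mul]⟩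

lemma isLine_pow {P : PosStructure K} {u : K} (hu : P.IsLine u) (n : ℕ) : P.IsLine (u ^ n) := by
  induction n with
  | zero => rw [pow_zero]; exact isLine_one P
  | succ n ih => rw [pow_succ]; exact isLine_mul ih hu

omit [LambdaOps K] in
lemma invOfUnit_one_sub (u : K) :
    (1 - C u * X).invOfUnit 1 = PowerSeries.mk fun n => u ^ n := by
  apply invOfUnit_one_eq (by simp)
  rw [show (PowerSeries.mk fun n => u ^ n) = rescale u (PowerSeries.mk (1 : ℕ → K)) by
      ext n; simp,
    show (1 - C u * X) = rescale u (1 - X : PowerSeries K) by rw [map_sub, map_one, rescale_X],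
    ← map_mul, mul_comm, mk_one_mul_one_sub_eq_one, map_one]

lemma adams_line (P : PosStructure K) {u : K} (hu : P.IsLine u) (j : ℕ) :
    adams P j u = u ^ j := by
  rw [adams, adamsSeries, lamSeries_of_linear (lam_eq_zero_of_line hu), map_add, map_one, map_mul,
    rescale_neg_one_X, show rescale (-1 : K) (C u) = C u by
      ext n; rw [coeff_rescale]; cases n <;> simp [coeff_C],
    mul_neg, ← sub_eq_add_neg, invOfUnit_one_sub, hu.2]
  have hd : d⁄dX K (1 - C u * X : PowerSeries K) = -C u := by
    rw [map_sub, Derivation.map_one_eq_zero, zero_sub, Derivation.leibniz, derivative_X,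
      derivative_C]
    simp
  rw [hd]
  rw [show (C : K →+* _) ((1 : ℤ) : K) - X * -C u * PowerSeries.mk (fun n => u ^ n)
      = 1 + X * (C u * PowerSeries.mk fun n => u ^ n) by rw [Int.cast_one, map_one]; ring]
  cases j with
  | zero => simp
  | succ j => simp [pow_succ, coeff_one, mul_comm]

/-! ### Maps -/

variable {K' : Type u} [CommRing K'] [LambdaOps K']

lemma map_lamSeries {f : K →+* K'} (hf : IsLambdaHom f) (x : K) :
    PowerSeries.map f (lamSeries x) = lamSeries (f x) := by
  ext n; simp [coeff_lamSeries, hf n x]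

lemma map_gamma {f : K →+* K'} (hf : IsLambdaHom f) (n : ℕ) (x : K) :
    f (LambdaRing.gamma n x) = LambdaRing.gamma n (f x) := by
  rw [LambdaRing.gamma, LambdaRing.gamma]
  split_ifs
  · exact map_one f
  · rw [map_sum]
    refine sum_congr rfl fun j _ => ?_
    split_ifs <;> simp [hf j x]

omit [LambdaOps K] [LambdaOps K'] in
lemma map_invOfUnit (f : K →+* K') {g : PowerSeries K} (hg : constantCoeff g = 1) :
    PowerSeries.map f (g.invOfUnit 1) = (PowerSeries.map f g).invOfUnit 1 := by
  rw [invOfUnit_one_eq (f := PowerSeries.map f g) (g := PowerSeries.map f (g.invOfUnit 1))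
    (by rw [← coeff_zero_eq_constantCoeff_apply, coeff_map,
      coeff_zero_eq_constantCoeff_apply, hg, map_one])
    (by rw [← map_mul, mul_invOfUnit _ _ (by simpa using hg), map_one])]

omit [LambdaOps K] [LambdaOps K'] in
lemma map_derivative (f : K →+* K') (g : PowerSeries K) :
    PowerSeries.map f (d⁄dX K g) = d⁄dX K' (PowerSeries.map f g) := by
  ext n; simp [coeff_derivative]

lemma map_adams {f : K →+* K'} (hf : IsLambdaHom f) {P : PosStructure K} {P' : PosStructure K'}
    (ha : ∀ x, P'.aug (f x) = P.aug x) (j : ℕ) (x : K) :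
    f (adams P j x) = adams P' j (f x) := by
  rw [adams, adams, ← coeff_map, adamsSeries, adamsSeries]
  congr 1
  rw [map_sub, map_mul, map_mul, map_C, map_X, map_intCast, ha, map_invOfUnit f
    (by rw [constantCoeff_rescale, constantCoeff_lamSeries]), map_derivative,
    ← rescale_map, map_neg, map_one, map_lamSeries hf]

lemma IsExtension.isLine {P : PosStructure K} {P' : PosStructure K'} {f : K →+* K'}
    (hf : IsExtension P P' f) {u : K} (hu : P.IsLine u) : P'.IsLine (f u) :=
  ⟨hf.pos_subset u hu.1, by rw [hf.aug_comp]; exact hu.2⟩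

lemma IsExtension.comp {K'' : Type u} [CommRing K''] [LambdaOps K''] {P : PosStructure K}
    {P' : PosStructure K'} {P'' : PosStructure K''} {f : K →+* K'} {g : K' →+* K''}
    (hf : IsExtension P P' f) (hg : IsExtension P' P'' g) : IsExtension P P'' (g.comp f) where
  isLambdaHom i x := by
    rw [RingHom.comp_apply, RingHom.comp_apply, hf.isLambdaHom, hg.isLambdaHom]
  injective := hg.injective.comp hf.injective
  aug_comp x := by rw [RingHom.comp_apply, hg.aug_comp, hf.aug_comp]
  pos_subset e he := hg.pos_subset _ (hf.pos_subset e he)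

/-- Finitely many positive elements split into lines in a common extension. -/
theorem exists_split {P : PosStructure K} (hK : HasSplitting K P) (l : List K)
    (hl : ∀ e ∈ l, e ∈ P.pos) :
    ∃ (L : Type u) (_ : CommRing L) (_ : LambdaOps L) (Q : PosStructure L) (f : K →+* L),
      IsExtension P Q f ∧
      ∀ e ∈ l, ∃ s : Multiset L, (∀ v ∈ s, Q.IsLine v) ∧ s.sum = f e := by
  obtain ⟨C, hC, hsplit⟩ := hK
  suffices h : ∃ L ∈ C, ∃ f : K →+* L.carrier, IsExtension P L.posStr f ∧
      ∀ e ∈ l, ∃ s : Multiset L.carrier, (∀ v ∈ s, L.posStr.IsLine v) ∧ s.sum = f e by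
    obtain ⟨L, -, f, hf, hs⟩ := h
    exact ⟨L.carrier, L.commRing, L.lambdaOps, L.posStr, f, hf, hs⟩
  induction l with
  | nil =>
    exact ⟨_, hC, RingHom.id K, ⟨fun _ _ => rfl, Function.injective_id, fun _ => rfl,
      fun _ h => h⟩, by simp⟩
  | cons e l ih =>
    obtain ⟨L, hL, f, hf, hs⟩ := ih fun e' he' => hl e' (List.mem_cons_of_mem _ he')
    obtain ⟨L', hL', g, hg, s, hs1, hs2⟩ :=
      hsplit L hL (f e) (hf.pos_subset e (hl e List.mem_cons_self))
    refine ⟨L', hL', g.comp f, IsExtension.comp hf hg, fun e' he' => ?_⟩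
    rcases List.mem_cons.1 he' with rfl | he'
    · exact ⟨s, hs1, hs2⟩
    · obtain ⟨t, ht1, ht2⟩ := hs e' he'
      refine ⟨t.map g, fun v hv => ?_, ?_⟩
      · obtain ⟨w, hw, rfl⟩ := Multiset.mem_map.1 hv
        exact IsExtension.isLine hg (ht1 w hw)
      · rw [← map_multiset_sum, ht2, RingHom.comp_apply]

lemma aug_sum_lines {P : PosStructure K} {s : Multiset K} (hs : ∀ v ∈ s, P.IsLine v) :
    P.aug s.sum = Multiset.card s := by
  induction s using Multiset.induction with
  | empty => simp
  | cons a s ih =>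
    rw [Multiset.sum_cons, map_add, ih fun v hv => hs v (Multiset.mem_cons_of_mem hv),
      (hs a (Multiset.mem_cons_self a s)).2, Multiset.card_cons]
    push_cast; ring

lemma adams_mul_line (P : PosStructure K) {u v : K} (hu : P.IsLine u) (hv : P.IsLine v) (j : ℕ) :
    adams P j (u * v) = adams P j u * adams P j v := by
  rw [adams_line P (isLine_mul hu hv), adams_line P hu, adams_line P hv, mul_pow]

lemma adams_mul_sum_lines (P : PosStructure K) (j : ℕ) {s t : Multiset K}
    (hs : ∀ v ∈ s, P.IsLine v) (ht : ∀ v ∈ t, P.IsLine v) :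
    adams P j (s.sum * t.sum) = adams P j s.sum * adams P j t.sum := by
  simp only [← adamsHom_apply]
  induction s using Multiset.induction with
  | empty => simp
  | cons a s ih =>
    rw [Multiset.sum_cons, add_mul, map_add, map_add, add_mul,
      ih fun v hv => hs v (Multiset.mem_cons_of_mem hv)]
    congr 1
    clear ih
    induction t using Multiset.induction with
    | empty => simp
    | cons b t iht =>
      rw [Multiset.sum_cons, mul_add, map_add, map_add, mul_add,
        iht fun v hv => ht v (Multiset.mem_cons_of_mem hv)]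
      congr 1
      exact adams_mul_line P (hs a (Multiset.mem_cons_self a s))
        (ht b (Multiset.mem_cons_self b t)) j

theorem adams_mul {P : PosStructure K} (hK : HasSplitting K P) (j : ℕ) (x y : K) :
    adams P j (x * y) = adams P j x * adams P j y := by
  have key : ∀ e ∈ P.pos, ∀ f ∈ P.pos, adams P j (e * f) = adams P j e * adams P j f := by
    intro e he f hf
    obtain ⟨L, _, _, Q, φ, hφ, hs⟩ := exists_split hK [e, f] (by simp [he, hf])
    obtain ⟨s, hs1, hs2⟩ := hs e (by simp)
    obtain ⟨t, ht1, ht2⟩ := hs f (by simp)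
    apply hφ.injective
    rw [map_adams hφ.isLambdaHom hφ.aug_comp, map_mul, map_mul,
      map_adams hφ.isLambdaHom hφ.aug_comp, map_adams hφ.isLambdaHom hφ.aug_comp, ← hs2, ← ht2,
      adams_mul_sum_lines Q j hs1 ht1]
  obtain ⟨a, b, ha, hb, rfl⟩ := P.exists_sub x
  obtain ⟨c, d, hc, hd, rfl⟩ := P.exists_sub y
  simp only [← adamsHom_apply] at key ⊢
  simp only [sub_mul, mul_sub, map_sub, key a ha c hc, key a ha d hd, key b hb c hc, key b hb d hd]

lemma adams_one (P : PosStructure K) (j : ℕ) : adams P j 1 = 1 := by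
  rw [adams_line P (isLine_one P), one_pow]

/-- The Adams operation as a ring map, given splitting. -/
noncomputable def adamsRingHom {P : PosStructure K} (hK : HasSplitting K P) (j : ℕ) : K →+* K :=
  { adamsHom P j with
    map_one' := adams_one P j
    map_mul' := adams_mul hK j }

end Groth.Agent.H27Lambda
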