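import Groth.Agent.H27Lambda.Free
import Mathlib.RingTheory.MvPolynomial.Ideal

/-! γ-operations on the ring of line elements, with the filtration by degree. -/

universe u v

open Finset LambdaRing

noncomputable section

namespace Groth.Agent.H27Lambda

/-! ### Series lemmas -/

section Series

variable {R : Type u} [CommRing R]

/-- The series X/(1+X). -/
def rX : PowerSeries R := PowerSeries.X * PowerSeries.mk fun n => (-1 : R) ^ n

lemma constantCoeff_rX : PowerSeries.constantCoeff (rX (R := R)) = 0 := by simp [rX]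

lemma hasSubst_rX : PowerSeries.HasSubst (rX (R := R)) :=
  PowerSeries.HasSubst.of_constantCoeff_zero' constantCoeff_rX

lemma rX_mul : rX * (1 + PowerSeries.X) = (PowerSeries.X : PowerSeries R) := by
  have h := PowerSeries.invOfUnit_mul (1 + PowerSeries.X : PowerSeries R) 1 (by simp)
  have h' := invOfUnit_one_sub (-1 : R)
  simp only [map_neg, map_one, neg_mul, one_mul, sub_neg_eq_add] at h'
  rw [h'] at h
  rw [rX, mul_assoc, h, mul_one]

lemma sX_mul : sX * (1 - PowerSeries.X) = (PowerSeries.X : PowerSeries R) := by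
  rw [sX, mul_assoc, PowerSeries.mk_one_mul_one_sub_eq_one, mul_one]

lemma subst_rX_sX : (sX : PowerSeries R).subst rX = (PowerSeries.X : PowerSeries R) := by
  have h := congrArg (PowerSeries.substAlgHom (R := R) (hasSubst_rX (R := R))) (sX_mul (R := R))
  rw [map_mul, map_sub, map_one, PowerSeries.substAlgHom_X hasSubst_rX, PowerSeries.coe_substAlgHom] at h
  have hu : IsUnit (1 - rX : PowerSeries R) := by
    rw [PowerSeries.isUnit_iff_constantCoeff]; simp [constantCoeff_rX]
  apply hu.mul_right_cancel
  refine h.trans ?_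
  calc (rX : PowerSeries R) = rX * ((1 + PowerSeries.X) - PowerSeries.X) := by ring
    _ = _ := by rw [mul_sub, rX_mul]; ring

lemma map_sX {S : Type v} [CommRing S] (f : R →+* S) :
    PowerSeries.map f (sX : PowerSeries R) = sX := by
  rw [sX, sX, map_mul, PowerSeries.map_X]
  congr 1
  ext n; simp

lemma map_rX {S : Type v} [CommRing S] (f : R →+* S) :
    PowerSeries.map f (rX : PowerSeries R) = rX := by
  rw [rX, rX, map_mul, PowerSeries.map_X]
  congr 1
  ext n; simp

variable [LambdaOps R]

lemma lamSeries_eq_subst (x : R) : lamSeries x = (gammaSeries x).subst rX := by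
  rw [gammaSeries_eq_subst, PowerSeries.subst_comp_subst_apply hasSubst_sX hasSubst_rX,
    subst_rX_sX, PowerSeries.X_subst]

omit [LambdaOps R] in
lemma ghost_rescale {f : PowerSeries R} (hf : PowerSeries.constantCoeff f = 1) (u : R) (k : ℕ) :
    ghost k (PowerSeries.rescale u f) = u ^ (k + 1) * ghost k f := by
  have hc : PowerSeries.constantCoeff (PowerSeries.rescale u f) = 1 := by
    rw [constantCoeff_rescale, hf]
  have h : dlog (PowerSeries.rescale u f) =
      PowerSeries.C u * PowerSeries.rescale u (dlog f) := by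
    have hu : IsUnit (PowerSeries.rescale u f) := by
      rw [PowerSeries.isUnit_iff_constantCoeff, hc]; exact isUnit_one
    apply hu.mul_left_cancel
    rw [self_mul_dlog hc, mul_left_comm, ← map_mul, self_mul_dlog hf]
    ext n
    simp only [PowerSeries.coeff_derivative, PowerSeries.coeff_C_mul, PowerSeries.coeff_rescale]
    ring
  rw [ghost, ghost, h, PowerSeries.coeff_C_mul, PowerSeries.coeff_rescale]
  ring

omit [LambdaOps R] in
lemma mulSer_linear [IsAddTorsionFree R] {f : PowerSeries R}
    (hf : PowerSeries.constantCoeff f = 1) (u : R) :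
    mulSer (1 + PowerSeries.C u * PowerSeries.X) f = PowerSeries.rescale u f :=
  series_eq_of_ghost (constantCoeff_mulSer _ _) (by rw [constantCoeff_rescale, hf]) fun k => by
    rw [ghost_mulSer (by simp) hf, ghost_linear, ghost_rescale hf]

omit [LambdaOps R] in
lemma hasSubst_sub_one {f : PowerSeries R} (hf : PowerSeries.constantCoeff f = 1) :
    PowerSeries.HasSubst (f - 1) :=
  PowerSeries.HasSubst.of_constantCoeff_zero' (by simp [hf])

omit [LambdaOps R] in
lemma constantCoeff_subst' {a : PowerSeries R} (ha : PowerSeries.constantCoeff a = 0)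
    (f : PowerSeries R) :
    PowerSeries.constantCoeff (f.subst a) = PowerSeries.constantCoeff f := by
  have hs : PowerSeries.HasSubst a := PowerSeries.HasSubst.of_constantCoeff_zero' ha
  rw [← PowerSeries.coeff_zero_eq_constantCoeff_apply, PowerSeries.coeff_subst' hs,
    finsum_eq_single _ 0 fun d hd => by simp [map_pow, ha, zero_pow hd]]
  simp

end Series

/-- The series f^c = (1 + (f - 1))^c. -/
def binPow {R : Type v} [CommRing R] (B f : PowerSeries R) : PowerSeries R := B.subst (f - 1)

lemma constantCoeff_binPow {R : Type v} [CommRing R] {B f : PowerSeries R}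
    (hB : PowerSeries.constantCoeff B = 1) (hf : PowerSeries.constantCoeff f = 1) :
    PowerSeries.constantCoeff (binPow B f) = 1 := by
  rw [binPow, constantCoeff_subst' (by simp [hf]), hB]

lemma ghost_binPow {R : Type v} [CommRing R] {B f : PowerSeries R} {c : R}
    (hB : PowerSeries.constantCoeff B = 1)
    (hD : PowerSeries.derivative R B * (1 + PowerSeries.X) = PowerSeries.C c * B)
    (hf : PowerSeries.constantCoeff f = 1) (k : ℕ) :
    ghost k (binPow B f) = c * ghost k f := by
  have hs := hasSubst_sub_one hf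
  have h := congrArg (PowerSeries.substAlgHom (R := R) hs) hD
  rw [map_mul, map_mul, map_add, map_one, PowerSeries.substAlgHom_X hs,
    PowerSeries.coe_substAlgHom, PowerSeries.subst_C, add_sub_cancel] at h
  have hd : dlog (binPow B f) = PowerSeries.C c * dlog f := by
    have hu : IsUnit (binPow B f * f) := by
      rw [PowerSeries.isUnit_iff_constantCoeff, map_mul, constantCoeff_binPow hB hf, hf, one_mul]
      exact isUnit_one
    apply hu.mul_left_cancel
    rw [mul_right_comm (binPow B f) f, self_mul_dlog (constantCoeff_binPow hB hf), binPow,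
      PowerSeries.derivative_subst hs, map_sub, Derivation.map_one_eq_zero, sub_zero,
      mul_right_comm, h]
    have : PowerSeries.derivative R f = f * dlog f := (self_mul_dlog hf).symm
    rw [this]
    show MvPowerSeries.C c * _ * _ = _ * _ * (MvPowerSeries.C c * _)
    ring
  rw [ghost, ghost, hd, PowerSeries.coeff_C_mul]
  ring

/-! ### The line ring -/

section Line

variable (K : Type u) [CommRing K] [BinomialRing K] (σ : Type v)

/-- The degree filtration. -/
abbrev degId : Ideal (MvPolynomial σ K) := MvPolynomial.idealOfVars σ K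

local notation "L" => MvPolynomial σ K
local notation "M" => degId K σ

instance instTorsionFreeLine : IsAddTorsionFree (MvPolynomial σ K) :=
  isAddTorsionFree_mvPolynomial K σ

/-- The λ-structure with all 1 + z_a line elements. -/
@[reducible] def lineOps : LambdaOps (MvPolynomial σ K) := (lineData K σ).ops

attribute [local instance] lineOps

lemma line_special : IsSpecial (MvPolynomial σ K) := (lineData K σ).isSpecial

open MvPolynomial

lemma line_lamSeries_C (c : K) : lamSeries (C c : L) = PowerSeries.map C (binSer K c) := by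
  refine (lineData K σ).series_eq_of_ghost_eq
    (constantCoeff_map_one _ (constantCoeff_binSer K c)) fun k => ?_
  rw [← map_ghost _ (constantCoeff_binSer K c), ghost_binSer]
  simp [lineData]

lemma line_lamSeries_u (a : σ) :
    lamSeries (1 + X a : L) = 1 + PowerSeries.C (1 + X a) * PowerSeries.X := by
  refine (lineData K σ).series_eq_of_ghost_eq (by simp) fun k => ?_
  rw [ghost_linear]; simp [lineData]

lemma line_gammaSeries_X (a : σ) :
    gammaSeries (X a : L) = 1 + PowerSeries.C (X a) * PowerSeries.X := by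
  have hlin : ∀ k : ℕ, 2 ≤ k → LambdaOps.lam k (1 + X a : L) = 0 := fun k hk => by
    rw [← coeff_lamSeries, line_lamSeries_u, map_add, PowerSeries.coeff_C_mul]
    simp [PowerSeries.coeff_one, PowerSeries.coeff_X, show k ≠ 1 by omega, show k ≠ 0 by omega]
  have h := gammaSeries_sub_one (line_special K σ).lam_one_eq_zero hlin
  simpa using h

lemma X_mem (a : σ) : (X a : L) ∈ M := Ideal.subset_span ⟨a, rfl⟩

lemma degId_le {a b : ℕ} (h : a ≤ b) : M ^ b ≤ M ^ a := Ideal.pow_le_pow_right h

lemma mul_degId {a b c : ℕ} {x y : L} (hx : x ∈ M ^ a) (hy : y ∈ M ^ b) (h : c ≤ a + b) :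
    x * y ∈ M ^ c := degId_le K σ h (by rw [pow_add]; exact Ideal.mul_mem_mul hx hy)

/-- The constant (-1)^(m-1) (m-1)!. -/
def leadC (R : Type*) [CommRing R] (m : ℕ) : R := (-1) ^ (m - 1) * ((m - 1).factorial : R)

lemma map_leadC {R S : Type*} [CommRing R] [CommRing S] (f : R →+* S) (m : ℕ) :
    f (leadC R m) = leadC S m := by simp [leadC]

/-- The series g behaves like the γ-series of an element w of degree ≥ m. -/
structure GoodSer (m : ℕ) (w : MvPolynomial σ K) (g : PowerSeries (MvPolynomial σ K)) : Prop where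
  c0 : PowerSeries.constantCoeff g = 1
  mem : ∀ i, 1 ≤ i → PowerSeries.coeff i g ∈ degId K σ ^ max i m
  elem : w ∈ degId K σ ^ m
  lead : PowerSeries.coeff m g - leadC _ m * w ∈ degId K σ ^ (m + 1)

variable {K σ}

lemma GoodSer.mem' {m : ℕ} {w : L} {g : PowerSeries L} (h : GoodSer K σ m w g) (i : ℕ) :
    PowerSeries.coeff i g ∈ M ^ i := by
  rcases Nat.eq_zero_or_pos i with rfl | hi
  · simp
  · exact degId_le K σ (le_max_left _ _) (h.mem i hi)

lemma coeff_mul_mem {g h : PowerSeries L} (hg : PowerSeries.constantCoeff g = 1)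
    (hh : PowerSeries.constantCoeff h = 1) {m i : ℕ} (hi : 1 ≤ i)
    (hgm : ∀ j, 1 ≤ j → j < i → PowerSeries.coeff j g ∈ M ^ max j m)
    (hhm : ∀ j, 1 ≤ j → j < i → PowerSeries.coeff j h ∈ M ^ max j m) :
    PowerSeries.coeff i (g * h) - PowerSeries.coeff i g - PowerSeries.coeff i h ∈
      M ^ max i (2 * m) := by
  obtain ⟨i, rfl⟩ : ∃ n, i = n + 1 := ⟨i - 1, by omega⟩
  rw [PowerSeries.coeff_mul, Finset.Nat.sum_antidiagonal_eq_sum_range_succ_mk,
    Finset.sum_range_succ, Finset.sum_range_succ']
  simp only [Nat.sub_self, PowerSeries.coeff_zero_eq_constantCoeff, hg, hh, mul_one, one_mul,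
    Nat.sub_zero]
  have e : ∀ S a b : L, S + a + b - b - a = S := fun S a b => by ring
  rw [e]
  refine Submodule.sum_mem _ fun j hj => ?_
  rw [mem_range] at hj
  exact mul_degId K σ (hgm (j + 1) (by omega) (by omega))
    (hhm (i + 1 - (j + 1)) (by omega) (by omega)) (by omega)

lemma GoodSer.mul {m : ℕ} (hm : 1 ≤ m) {w w' : L} {g g' : PowerSeries L}
    (h : GoodSer K σ m w g) (h' : GoodSer K σ m w' g') : GoodSer K σ m (w + w') (g * g') where
  c0 := by simp [h.c0, h'.c0]
  mem i hi := by
    have := degId_le K σ (show max i m ≤ max i (2 * m) by omega)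
      (coeff_mul_mem h.c0 h'.c0 hi (fun j hj _ => h.mem j hj) (fun j hj _ => h'.mem j hj))
    have h3 := add_mem (add_mem this (h'.mem i hi)) (h.mem i hi)
    simpa using h3
  elem := add_mem h.elem h'.elem
  lead := by
    have := degId_le K σ (show m + 1 ≤ max m (2 * m) by omega)
      (coeff_mul_mem h.c0 h'.c0 hm (fun j hj _ => h.mem j hj) (fun j hj _ => h'.mem j hj))
    have h3 := add_mem (add_mem this h'.lead) h.lead
    convert h3 using 1
    ring

lemma GoodSer.one {m : ℕ} (hm : 1 ≤ m) : GoodSer K σ m 0 1 where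
  c0 := map_one _
  mem i hi := by simp [PowerSeries.coeff_one, show i ≠ 0 by omega]
  elem := zero_mem _
  lead := by simp [PowerSeries.coeff_one, show m ≠ 0 by omega]

lemma GoodSer.succ {m : ℕ} (hm : 1 ≤ m) {w : L} {g : PowerSeries L}
    (h : GoodSer K σ (m + 1) w g) : GoodSer K σ m w g where
  c0 := h.c0
  mem i hi := degId_le K σ (by omega) (h.mem i hi)
  elem := degId_le K σ (Nat.le_succ m) h.elem
  lead := sub_mem (degId_le K σ (by omega) (h.mem m hm))
    (Ideal.mul_mem_left _ _ h.elem)

lemma GoodSer.of_le {m n : ℕ} (hm : 1 ≤ m) (hn : m ≤ n) {w : L} {g : PowerSeries L}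
    (h : GoodSer K σ n w g) : GoodSer K σ m w g := by
  induction hn with
  | refl => exact h
  | step hn ih => exact ih (h.succ (le_trans hm hn))

lemma GoodSer.binPow {m : ℕ} (hm : 1 ≤ m) {w : L} {g : PowerSeries L} (h : GoodSer K σ m w g)
    (c : K) : GoodSer K σ m (C c * w) (H27Lambda.binPow (PowerSeries.map C (binSer K c)) g) := by
  set B := PowerSeries.map (C : K →+* L) (binSer K c) with hB
  have hh : ∀ d i, 1 ≤ i → PowerSeries.coeff i ((g - 1) ^ (d + 1)) ∈ M ^ max i ((d + 1) * m) := by
    intro d
    induction d with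
    | zero =>
      intro i hi
      simpa [PowerSeries.coeff_one, show i ≠ 0 by omega] using h.mem i hi
    | succ d ih =>
      intro i hi
      rw [pow_succ, PowerSeries.coeff_mul]
      refine Submodule.sum_mem _ fun x hx => ?_
      rw [Finset.HasAntidiagonal.mem_antidiagonal] at hx
      rcases Nat.eq_zero_or_pos x.1 with h1 | h1
      · rw [h1, PowerSeries.coeff_zero_eq_constantCoeff_apply, map_pow]
        simp [h.c0]
      rcases Nat.eq_zero_or_pos x.2 with h2 | h2
      · simp [h2, h.c0]
      refine mul_degId K σ (ih x.1 h1) (b := max x.2 m) ?_ ?_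
      · simpa [PowerSeries.coeff_one, show x.2 ≠ 0 by omega] using h.mem x.2 h2
      · have : (d + 1 + 1) * m = (d + 1) * m + m := by ring
        omega
  have key : ∀ i, 1 ≤ i → PowerSeries.coeff i (H27Lambda.binPow B g) - C c * PowerSeries.coeff i g ∈
      M ^ max i (2 * m) := by
    intro i hi
    rw [H27Lambda.binPow, PowerSeries.coeff_subst' (hasSubst_sub_one h.c0)]
    rw [finsum_eq_sum_of_support_subset _ (s := range (i + 1)) ?_]
    · rw [sum_range_succ']
      obtain ⟨i, rfl⟩ : ∃ n, i = n + 1 := ⟨i - 1, by omega⟩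
      rw [sum_range_succ']
      simp only [pow_zero, PowerSeries.coeff_one, if_neg (Nat.succ_ne_zero i), smul_zero, add_zero,
        zero_add, pow_one, smul_eq_mul, map_sub, sub_zero, hB, PowerSeries.coeff_map, binSer,
        PowerSeries.coeff_mk, Ring.choose_one_right, mul_zero, add_zero]
      rw [add_sub_cancel_right]
      refine Submodule.sum_mem _ fun d _ => Ideal.mul_mem_left _ _ ?_
      refine degId_le K σ ?_ (hh (d + 1) (i + 1) (by omega))
      have : (d + 1 + 1) * m = d * m + 2 * m := by ring
      omega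
    · intro d hd
      by_contra hdi
      simp only [coe_range, Set.mem_Iio, not_lt] at hdi
      apply hd
      simp only
      rw [PowerSeries.coeff_of_lt_order i ?_, smul_zero]
      refine lt_of_lt_of_le ?_ (PowerSeries.le_order_pow_of_constantCoeff_eq_zero d (by simp [h.c0]))
      exact_mod_cast hdi
  refine ⟨constantCoeff_binPow (constantCoeff_map_one _ (constantCoeff_binSer K c)) h.c0,
    fun i hi => ?_, Ideal.mul_mem_left _ _ h.elem, ?_⟩
  · have h3 := add_mem (degId_le K σ (show max i m ≤ max i (2 * m) by omega) (key i hi))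
      (Ideal.mul_mem_left _ (C c) (h.mem i hi))
    simpa using h3
  · have h3 := add_mem (degId_le K σ (show m + 1 ≤ max m (2 * m) by omega) (key m hm))
      (Ideal.mul_mem_left _ (C c) h.lead)
    convert h3 using 1
    ring

lemma line_gammaSeries_C_mul (c : K) (w : L) :
    gammaSeries (C c * w) = binPow (PowerSeries.map C (binSer K c)) (gammaSeries w) := by
  have hB : PowerSeries.constantCoeff (PowerSeries.map (C : K →+* L) (binSer K c)) = 1 :=
    constantCoeff_map_one _ (constantCoeff_binSer K c)
  have hD : PowerSeries.derivative L (PowerSeries.map C (binSer K c)) * (1 + PowerSeries.X) =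
      PowerSeries.C (C c : L) * PowerSeries.map C (binSer K c) := by
    have e : PowerSeries.derivative L (PowerSeries.map C (binSer K c)) =
        PowerSeries.map C (PowerSeries.derivative K (binSer K c)) := by
      ext n : 1; simp [PowerSeries.coeff_derivative]
    have := congrArg (PowerSeries.map (C : K →+* L)) (derivative_binSer K c)
    simpa [e] using this
  have hl : lamSeries (C c * w) = binPow (PowerSeries.map C (binSer K c)) (lamSeries w) := by
    refine (lineData K σ).series_eq_of_ghost_eq
      (constantCoeff_binPow hB (constantCoeff_lamSeries w)) fun k => ?_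
    rw [ghost_binPow hB hD (constantCoeff_lamSeries w), (lineData K σ).ghost_lamSeries, map_mul]
    simp [lineData]
  rw [gammaSeries_eq_subst, hl, binPow, binPow,
    PowerSeries.subst_comp_subst_apply (hasSubst_sub_one (constantCoeff_lamSeries w)) hasSubst_sX]
  congr 1
  rw [PowerSeries.subst_sub hasSubst_sX, ← gammaSeries_eq_subst,
    ← PowerSeries.coe_substAlgHom hasSubst_sX, map_one]

lemma line_gammaSeries_mul_u (a : σ) (w : L) :
    gammaSeries (w * (1 + X a)) = (gammaSeries w).subst
      (PowerSeries.C (1 + X a) * (PowerSeries.X * PowerSeries.mk fun n => (-X a : L) ^ n)) := by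
  set u : L := 1 + X a
  set T : PowerSeries L := PowerSeries.C u * (PowerSeries.X * PowerSeries.mk fun n => (-X a : L) ^ n)
  have hT : PowerSeries.HasSubst T := PowerSeries.HasSubst.of_constantCoeff_zero' (by simp [T])
  have hcu : PowerSeries.HasSubst (PowerSeries.C u * PowerSeries.X) :=
    PowerSeries.HasSubst.of_constantCoeff_zero' (by simp)
  have hr : PowerSeries.HasSubst
      (PowerSeries.subst (PowerSeries.C u * PowerSeries.X) (rX : PowerSeries L)) :=
    PowerSeries.HasSubst.of_constantCoeff_zero' (by
      rw [constantCoeff_subst' (a := PowerSeries.C u * PowerSeries.X) (by simp), constantCoeff_rX])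
  rw [gammaSeries_eq_subst, mul_comm w, lamSeries_mul_of_special (line_special K σ),
    line_lamSeries_u, mulSer_linear (constantCoeff_lamSeries w), lamSeries_eq_subst w,
    PowerSeries.rescale_eq_subst, PowerSeries.smul_eq_C_mul,
    PowerSeries.subst_comp_subst_apply hasSubst_rX hcu,
    PowerSeries.subst_comp_subst_apply hr hasSubst_sX]
  congr 1
  set τ := PowerSeries.subst (sX : PowerSeries L) (PowerSeries.subst (PowerSeries.C u * PowerSeries.X) (rX : PowerSeries L))
  have h1 : τ * (1 + PowerSeries.C u * sX) = PowerSeries.C u * sX := by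
    have h := congrArg (fun q => PowerSeries.substAlgHom (R := L) (hasSubst_sX (K := L))
      (PowerSeries.substAlgHom (R := L) hcu q)) (rX_mul (R := L))
    simp only [map_mul, map_add, map_one, PowerSeries.substAlgHom_X hcu,
      PowerSeries.substAlgHom_X hasSubst_sX] at h
    rw [PowerSeries.coe_substAlgHom hasSubst_sX, PowerSeries.coe_substAlgHom hcu,
      PowerSeries.subst_C] at h
    exact h
  have h2 : τ * (1 + PowerSeries.C (X a : L) * PowerSeries.X) = PowerSeries.C u * PowerSeries.X := by
    have := congrArg (· * (1 - PowerSeries.X)) h1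
    simp only [mul_assoc, add_mul, one_mul, sX_mul] at this
    rw [← this]
    simp only [u, map_add, map_one]
    ring
  have h3 : T * (1 + PowerSeries.C (X a : L) * PowerSeries.X) = PowerSeries.C u * PowerSeries.X := by
    have h := PowerSeries.invOfUnit_mul (1 + PowerSeries.C (X a : L) * PowerSeries.X) 1 (by simp)
    have h' := invOfUnit_one_sub (-X a : L)
    simp only [map_neg, neg_mul, sub_neg_eq_add] at h'
    rw [h'] at h
    simp only [T, mul_assoc, h, mul_one]
  have hu : IsUnit (1 + PowerSeries.C (X a : L) * PowerSeries.X) := by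
    rw [PowerSeries.isUnit_iff_constantCoeff]; simp
  exact hu.mul_right_cancel (h2.trans h3.symm)

lemma GoodSer.mulX {m : ℕ} (hm : 1 ≤ m) {w : L} (h : GoodSer K σ m w (gammaSeries w)) (a : σ) :
    GoodSer K σ (m + 1) (w * X a) (gammaSeries (w * X a)) := by
  set g := gammaSeries w with hg
  set z : L := X a with hz
  set u : L := 1 + z with hu
  set G := gammaSeries (w * X a) with hG
  have hGg : G * g = gammaSeries (w * u) := by
    rw [hG, hg, ← gammaSeries_add, hu, hz]
    congr 1
    ring
  set T : PowerSeries L := PowerSeries.C u * (PowerSeries.X * PowerSeries.mk fun n => (-z : L) ^ n)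
  have hT : PowerSeries.HasSubst T := PowerSeries.HasSubst.of_constantCoeff_zero' (by simp [T])
  have hTpow : ∀ d i, PowerSeries.coeff i (T ^ (d + 1)) =
      if d + 1 ≤ i then u ^ (d + 1) * (((i - 1).choose d : L) * (-z) ^ (i - (d + 1))) else 0 := by
    intro d i
    simp only [T, mul_pow, ← map_pow, PowerSeries.coeff_C_mul, PowerSeries.coeff_X_pow_mul']
    split_ifs with hdi
    · rw [show (PowerSeries.mk fun n => (-z : L) ^ n) =
          PowerSeries.rescale (-z) (PowerSeries.mk 1) by ext n; simp,
        ← map_pow, PowerSeries.mk_one_pow_eq_mk_choose_add, PowerSeries.coeff_rescale,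
        PowerSeries.coeff_mk, show d + (i - (d + 1)) = i - 1 by omega]
      ring
    · rw [mul_zero]
  have hexp : ∀ i, PowerSeries.coeff (i + 1) (G * g) = ∑ d ∈ range (i + 1),
      PowerSeries.coeff (d + 1) g * (u ^ (d + 1) * ((i.choose d : L) * (-z) ^ (i - d))) := by
    intro i
    rw [hGg, hu, hz, line_gammaSeries_mul_u, ← hz, ← hu, ← hg, PowerSeries.coeff_subst' hT,
      finsum_eq_sum_of_support_subset _ (s := range (i + 1 + 1)) ?_, sum_range_succ']
    · simp only [pow_zero, PowerSeries.coeff_one, if_neg (Nat.succ_ne_zero i),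
        smul_eq_mul, mul_zero, add_zero, hTpow]
      refine Finset.sum_congr rfl fun d hd => ?_
      rw [mem_range] at hd
      rw [if_pos (by omega), Nat.add_sub_cancel, Nat.add_sub_add_right]
    · intro d hd
      by_contra hdi
      simp only [coe_range, Set.mem_Iio, not_lt] at hdi
      obtain ⟨d, rfl⟩ : ∃ e, d = e + 1 := ⟨d - 1, by omega⟩
      apply hd
      simp only
      rw [hTpow, if_neg (by omega), smul_zero]
  have huu : ∀ n, u ^ n - 1 ∈ M ^ 1 := by
    intro n
    rw [pow_one]
    refine Ideal.mem_of_dvd _ ?_ (X_mem K σ a)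
    have := sub_dvd_pow_sub_pow u 1 n
    simpa [hu] using this
  have hz1 : ∀ n, (-z : L) ^ n ∈ M ^ n := fun n =>
    Ideal.pow_mem_pow (neg_mem (X_mem K σ a)) n
  have hD : ∀ i, 1 ≤ i → PowerSeries.coeff i (G * g) - PowerSeries.coeff i g ∈
      M ^ max i (m + 1) := by
    intro i hi
    obtain ⟨i, rfl⟩ : ∃ n, i = n + 1 := ⟨i - 1, by omega⟩
    rw [hexp, sum_range_succ]
    simp only [Nat.choose_self, Nat.cast_one, Nat.sub_self, pow_zero, mul_one]
    rw [add_sub_assoc, ← mul_sub_one]
    refine add_mem (Submodule.sum_mem _ fun d hd => ?_)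
      (mul_degId K σ (h.mem (i + 1) (by omega)) (huu _) (by omega))
    rw [mem_range] at hd
    exact mul_degId K σ (h.mem (d + 1) (by omega))
      (Ideal.mul_mem_left _ _ (Ideal.mul_mem_left _ _ (hz1 (i - d)))) (by omega)
  have hc0 : PowerSeries.constantCoeff G = 1 := by
    rw [hG, ← PowerSeries.coeff_zero_eq_constantCoeff_apply, coeff_gammaSeries, gamma_zero]
  -- G_i = (G g)_i - g_i - (inner terms)
  have hsplit : ∀ i, 1 ≤ i → PowerSeries.coeff i (G * g) - PowerSeries.coeff i g =
      PowerSeries.coeff i G + ∑ j ∈ range (i - 1),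
        PowerSeries.coeff (j + 1) G * PowerSeries.coeff (i - (j + 1)) g := by
    intro i hi
    obtain ⟨i, rfl⟩ : ∃ n, i = n + 1 := ⟨i - 1, by omega⟩
    rw [PowerSeries.coeff_mul, Finset.Nat.sum_antidiagonal_eq_sum_range_succ_mk,
      Finset.sum_range_succ, Finset.sum_range_succ']
    simp only [Nat.sub_self, PowerSeries.coeff_zero_eq_constantCoeff, h.c0, hc0, mul_one, one_mul,
      Nat.sub_zero, Nat.add_sub_cancel]
    ring
  have hmem : ∀ i, 1 ≤ i → PowerSeries.coeff i G ∈ M ^ max i (m + 1) := by
    intro i
    induction i using Nat.strong_induction_on with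
    | _ i ih =>
      intro hi
      have e := hsplit i hi
      rw [show PowerSeries.coeff i G = (PowerSeries.coeff i (G * g) - PowerSeries.coeff i g) -
        ∑ j ∈ range (i - 1), PowerSeries.coeff (j + 1) G * PowerSeries.coeff (i - (j + 1)) g by
        rw [e]; ring]
      refine sub_mem (hD i hi) (Submodule.sum_mem _ fun j hj => ?_)
      rw [mem_range] at hj
      exact mul_degId K σ (ih (j + 1) (by omega) (by omega)) (h.mem' _) (by omega)
  refine ⟨hc0, hmem, mul_degId K σ h.elem (by rw [pow_one]; exact X_mem K σ a) le_rfl, ?_⟩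
  have e := hsplit (m + 1) (by omega)
  rw [show PowerSeries.coeff (m + 1) G =
      (PowerSeries.coeff (m + 1) (G * g) - PowerSeries.coeff (m + 1) g) -
        ∑ j ∈ range (m + 1 - 1), PowerSeries.coeff (j + 1) G * PowerSeries.coeff (m + 1 - (j + 1)) g by
      rw [e]; ring, hexp, sum_range_succ]
  obtain ⟨m, rfl⟩ : ∃ n, m = n + 1 := ⟨m - 1, by omega⟩
  rw [sum_range_succ (n := m)]
  simp only [Nat.choose_self, Nat.cast_one, Nat.sub_self, pow_zero, mul_one, Nat.choose_succ_self_right,
    Nat.add_sub_cancel, Nat.add_sub_cancel_left, pow_one]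
  have hc : leadC L (m + 1 + 1) = -((m + 1 : ℕ) : L) * leadC L (m + 1) := by
    simp only [leadC, Nat.add_sub_cancel, Nat.factorial_succ, pow_succ]
    push_cast
    ring
  rw [hc]
  have t1 : ∑ d ∈ range m, PowerSeries.coeff (d + 1) g *
      (u ^ (d + 1) * (((m + 1).choose d : L) * (-z) ^ (m + 1 - d))) ∈ M ^ (m + 1 + 1 + 1) := by
    refine Submodule.sum_mem _ fun d hd => ?_
    rw [mem_range] at hd
    exact mul_degId K σ (h.mem (d + 1) (by omega))
      (Ideal.mul_mem_left _ _ (Ideal.mul_mem_left _ _ (hz1 (m + 1 - d)))) (by omega)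
  have t2 : PowerSeries.coeff (m + 1 + 1) g * (u ^ (m + 1 + 1) - 1) ∈ M ^ (m + 1 + 1 + 1) :=
    mul_degId K σ (h.mem _ (by omega)) (huu _) (by omega)
  have t3 : ∑ j ∈ range (m + 1), PowerSeries.coeff (j + 1) G *
      PowerSeries.coeff (m + 1 + 1 - (j + 1)) g ∈ M ^ (m + 1 + 1 + 1) := by
    refine Submodule.sum_mem _ fun j hj => ?_
    rw [mem_range] at hj
    exact mul_degId K σ (hmem (j + 1) (by omega)) (h.mem' _) (by omega)
  have t4 : ((PowerSeries.coeff (m + 1) g - leadC L (m + 1) * w) * u ^ (m + 1) +
      leadC L (m + 1) * w * (u ^ (m + 1) - 1)) * (((m + 1 : ℕ) : L) * -z) ∈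
      M ^ (m + 1 + 1 + 1) := by
    refine mul_degId K σ (a := m + 1 + 1) (b := 1) ?_ ?_ le_rfl
    · exact add_mem (Ideal.mul_mem_right _ _ h.lead)
        (mul_degId K σ (Ideal.mul_mem_left _ _ h.elem) (huu _) le_rfl)
    · rw [pow_one]; exact Ideal.mul_mem_left _ _ (neg_mem (X_mem K σ a))
  have := sub_mem (add_mem (add_mem t1 t2) t4) t3
  convert this using 1
  push_cast
  simp only [hz, hu]
  ring

lemma goodSer_monomial {m : ℕ} (hm : 1 ≤ m) : ∀ d : σ →₀ ℕ, d.degree = m →
    GoodSer K σ m (monomial d (1 : K)) (gammaSeries (monomial d (1 : K))) := by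
  induction m, hm using Nat.le_induction with
  | base =>
    intro d hd
    obtain ⟨a, rfl⟩ : ∃ a, d = Finsupp.single a 1 := by
      obtain ⟨a, ha⟩ : d.support.Nonempty := by
        rw [Finsupp.support_nonempty_iff]
        rintro rfl
        simp at hd
      refine ⟨a, ?_⟩
      have hle : Finsupp.single a 1 ≤ d := Finsupp.single_le_iff.2
        (Nat.one_le_iff_ne_zero.2 (Finsupp.mem_support_iff.1 ha))
      obtain ⟨e, rfl⟩ := le_iff_exists_add.1 hle
      have : e.degree = 0 := by rw [map_add, Finsupp.degree_single] at hd; omega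
      rw [(Finsupp.degree_eq_zero_iff _).1 this, add_zero]
    rw [show monomial (Finsupp.single a 1) (1 : K) = X a from rfl, line_gammaSeries_X]
    refine ⟨by simp, fun i hi => ?_, by rw [pow_one]; exact X_mem K σ a, ?_⟩
    · rw [map_add, PowerSeries.coeff_C_mul, PowerSeries.coeff_one, if_neg (by omega),
        PowerSeries.coeff_X, zero_add]
      split_ifs with h1
      · subst h1; rw [mul_one, max_self, pow_one]; exact X_mem K σ a
      · simp
    · simp [leadC, PowerSeries.coeff_X, PowerSeries.coeff_one]
  | succ m hm ih =>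
    intro d hd
    obtain ⟨a, ha⟩ : d.support.Nonempty := by
      rw [Finsupp.support_nonempty_iff]
      rintro rfl
      simp at hd
    have hle : Finsupp.single a 1 ≤ d := Finsupp.single_le_iff.2
      (Nat.one_le_iff_ne_zero.2 (Finsupp.mem_support_iff.1 ha))
    obtain ⟨e, rfl⟩ := le_iff_exists_add.1 hle
    have he : e.degree = m := by rw [map_add, Finsupp.degree_single] at hd; omega
    rw [show monomial (Finsupp.single a 1 + e) (1 : K) = monomial e (1 : K) * X a by
      rw [X, monomial_mul, mul_one, add_comm]]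
    exact (ih e he).mulX hm a

/-- γ on an element of degree ≥ m. -/
theorem goodSer_of_mem {m : ℕ} (hm : 1 ≤ m) {w : L} (hw : w ∈ M ^ m) :
    GoodSer K σ m w (gammaSeries w) := by
  classical
  rw [w.as_sum]
  rw [mem_pow_idealOfVars_iff] at hw
  have : ∀ s ⊆ w.support, GoodSer K σ m (∑ v ∈ s, monomial v (coeff v w))
      (gammaSeries (∑ v ∈ s, monomial v (coeff v w))) := by
    intro s
    induction s using Finset.induction with
    | empty => intro _; rw [sum_empty, gammaSeries_zero]; exact GoodSer.one hm
    | insert d s hd ih =>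
      intro hs
      rw [sum_insert hd, gammaSeries_add]
      refine GoodSer.mul hm ?_ (ih fun x hx => hs (mem_insert_of_mem hx))
      have hdeg : m ≤ d.degree := hw d (hs (mem_insert_self d s))
      rw [show monomial d (coeff d w) = C (coeff d w) * monomial d (1 : K) by
        rw [C_mul_monomial, mul_one], line_gammaSeries_C_mul]
      exact ((goodSer_monomial (le_trans hm hdeg) d rfl).of_le hm hdeg).binPow hm _
  exact this _ subset_rfl

end Line

end Groth.Agent.H27Lambda
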