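import Groth.Agent.H27Lambda.Transfer

/-! A λ-ring with positive structure and splitting is special. -/

universe u v

open Finset LambdaRing

noncomputable section

namespace Groth.Agent.H27Lambda

attribute [local instance] lineOps

variable {K : Type u} [CommRing K] [LambdaOps K]

/-- The type of line elements. -/
abbrev Lines (P : PosStructure K) : Type u := {v : K // P.IsLine v}

/-- The universal map ℤ[z] → K, z_v ↦ v - 1. -/
def lineEval (P : PosStructure K) : MvPolynomial (Lines P) ℤ →+* K :=
  MvPolynomial.eval₂Hom (Int.castRingHom K) fun v : Lines P => (v : K) - 1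

lemma lineEval_u (P : PosStructure K) (v : Lines P) :
    lineEval P (1 + MvPolynomial.X v) = (v : K) := by simp [lineEval]

open MvPolynomial in
lemma commutes_lineEval (P : PosStructure K) : Commutes (lineEval P) := by
  refine commutes_of_addClosure _
    (Submonoid.closure (Set.range fun v : Lines P => (1 + X v : MvPolynomial (Lines P) ℤ)) : Set _)
    (eq_top_iff.2 fun p hp => ?_) fun w hw => ?_
  · clear hp
    rw [← Subring.mem_closure_iff]
    induction p using MvPolynomial.induction_on with
    | C a => rw [eq_intCast (C : ℤ →+* MvPolynomial (Lines P) ℤ) a]; exact intCast_mem _ a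
    | add p q hp hq => exact add_mem hp hq
    | mul_X p v hp =>
      refine mul_mem hp ?_
      have h1 : (1 + X v : MvPolynomial (Lines P) ℤ) ∈
          Subring.closure (Set.range fun v : Lines P => (1 + X v : MvPolynomial (Lines P) ℤ)) :=
        Subring.subset_closure ⟨v, rfl⟩
      simpa using sub_mem h1 (one_mem _)
  · have h : lamSeries w = 1 + PowerSeries.C w * PowerSeries.X ∧ P.IsLine (lineEval P w) := by
      induction hw using Submonoid.closure_induction with
      | mem y hy =>
        obtain ⟨v, rfl⟩ := hy
        exact ⟨line_lamSeries_u ℤ _ v, by rw [lineEval_u]; exact v.2⟩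
      | one =>
        exact ⟨by rw [map_one, one_mul]; exact lamSeries_one (line_special ℤ _).lam_one_eq_zero,
          by rw [map_one]; exact isLine_one P⟩
      | mul a b _ _ iha ihb =>
        refine ⟨?_, by rw [map_mul]; exact isLine_mul iha.2 ihb.2⟩
        rw [lamSeries_mul_of_special (line_special ℤ _), iha.1, ihb.1,
          mulSer_linear (by simp), map_add, map_one, map_mul, PowerSeries.rescale_X,
          show PowerSeries.rescale a (PowerSeries.C b) = PowerSeries.C b by
            ext n; rw [PowerSeries.coeff_rescale]; cases n <;> simp [PowerSeries.coeff_C],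
          map_mul]
        ring
    rw [h.1, lamSeries_of_linear (lam_eq_zero_of_line h.2)]
    simp

lemma sum_lines_mem_range (P : PosStructure K) {s : Multiset K} (hs : ∀ v ∈ s, P.IsLine v) :
    s.sum ∈ (lineEval P).range := by
  refine Subring.multiset_sum_mem _ _ fun v hv => ?_
  exact ⟨1 + MvPolynomial.X (⟨v, hs v hv⟩ : Lines P), lineEval_u P _⟩

/-- Any finitely many elements lift to the ring of lines of some extension. -/
theorem exists_line_model {P : PosStructure K} (hK : HasSplitting K P) (xs : List K) :
    ∃ (K' : Type u) (_ : CommRing K') (_ : LambdaOps K') (Q : PosStructure K') (f : K →+* K'),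
      IsExtension P Q f ∧ ∀ x ∈ xs, f x ∈ (lineEval Q).range := by
  choose e g he hg hx using P.exists_sub
  obtain ⟨K', _, _, Q, f, hf, hs⟩ := exists_split hK (xs.map e ++ xs.map g) (by
    intro y hy
    rcases List.mem_append.1 hy with h | h <;> obtain ⟨x, -, rfl⟩ := List.mem_map.1 h
    exacts [he x, hg x])
  refine ⟨K', _, _, Q, f, hf, fun x hxs => ?_⟩
  obtain ⟨s, hs1, hs2⟩ := hs (e x) (List.mem_append_left _ (List.mem_map_of_mem hxs))
  obtain ⟨t, ht1, ht2⟩ := hs (g x) (List.mem_append_right _ (List.mem_map_of_mem hxs))
  rw [hx x, map_sub, ← hs2, ← ht2]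
  exact sub_mem (sum_lines_mem_range Q hs1) (sum_lines_mem_range Q ht1)

theorem isSpecial_of_hasSplitting {P : PosStructure K} (hK : HasSplitting K P) : IsSpecial K := by
  refine ⟨lam_one_eq_zero P, fun n Pn hP x y => ?_, fun i j Qij hQ x => ?_⟩
  · obtain ⟨K', _, _, Q, f, hf, hr⟩ := exists_line_model hK [x, y]
    obtain ⟨a, ha⟩ := hr x (by simp)
    obtain ⟨b, hb⟩ := hr y (by simp)
    have hφ := commutes_lineEval Q
    apply hf.injective
    rw [hf.isLambdaHom, map_mul, ← ha, ← hb, ← map_mul, ← Commutes.lam hφ,
      (line_special ℤ _).lam_mul n Pn hP a b, aeval_int_map, aeval_int_map]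
    congr 2
    funext k
    rcases k with k | k <;>
      simp only [Sum.elim_inl, Sum.elim_inr, Commutes.lam hφ, hf.isLambdaHom _ _, ha, hb]
  · obtain ⟨K', _, _, Q, f, hf, hr⟩ := exists_line_model hK [x]
    obtain ⟨a, ha⟩ := hr x (by simp)
    have hφ := commutes_lineEval Q
    apply hf.injective
    rw [hf.isLambdaHom, hf.isLambdaHom, ← ha, ← Commutes.lam hφ, ← Commutes.lam hφ,
      (line_special ℤ _).lam_lam i j Qij hQ a, aeval_int_map, aeval_int_map]
    congr 2
    funext k
    rw [Commutes.lam hφ, hf.isLambdaHom, ha]

lemma lamSeries_natCast_eq_binSer {P : PosStructure K} (n : ℕ) :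
    lamSeries (n : K) = PowerSeries.map (Int.castRingHom K) (binSer ℤ (n : ℤ)) := by
  rw [lamSeries_natCast' (lam_one_eq_zero P),
    show ((1 + PowerSeries.X : PowerSeries K) ^ n) =
      (((1 + Polynomial.X) ^ n : Polynomial K) : PowerSeries K) by simp]
  ext i
  rw [Polynomial.coeff_coe, Polynomial.coeff_one_add_X_pow, PowerSeries.coeff_map, binSer,
    PowerSeries.coeff_mk, Ring.choose_natCast]
  simp

/-- λ_t of an integer. -/
theorem lamSeries_intCast (P : PosStructure K) (c : ℤ) :
    PowerSeries.map (Int.castRingHom K) (binSer ℤ c) = lamSeries (Int.castRingHom K c) := by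
  have hadd : ∀ a b : ℤ, binSer ℤ (a + b) = binSer ℤ a * binSer ℤ b := fun a b => by
    ext n
    simp only [binSer, PowerSeries.coeff_mk, PowerSeries.coeff_mul,
      Ring.add_choose_eq n (Commute.all a b)]
  obtain ⟨n, rfl | rfl⟩ := c.eq_nat_or_neg
  · simp [lamSeries_natCast_eq_binSer (P := P)]
  · rw [eq_intCast, Int.cast_neg, Int.cast_natCast]
    apply (isUnit_lamSeries (n : K)).mul_left_cancel
    rw [← lamSeries_add, add_neg_cancel, lamSeries_zero,
      lamSeries_natCast_eq_binSer (P := P), ← map_mul, ← hadd, add_neg_cancel,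
      show binSer ℤ (0 : ℤ) = 1 by
        ext i; cases i <;> simp [binSer, PowerSeries.coeff_one, Ring.choose_zero_succ],
      map_one]

theorem adams_succ_eq_ghost (P : PosStructure K) (k : ℕ) (x : K) :
    adams P (k + 1) x = ghost k (lamSeries x) := by
  rw [adams, adamsSeries, map_sub, PowerSeries.coeff_C, if_neg (Nat.succ_ne_zero k), zero_sub,
    mul_assoc, PowerSeries.coeff_succ_X_mul]
  change -PowerSeries.coeff k (dlog (PowerSeries.rescale (-1 : K) (lamSeries x))) = _
  rw [coeff_dlog, ghost_rescale (constantCoeff_lamSeries x), ← mul_assoc, pow_succ, ← mul_assoc,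
    ← mul_pow]
  simp

theorem lamSeries_aug (P : PosStructure K) (hK : HasSplitting K P) (x : K) :
    PowerSeries.map P.aug (lamSeries x) = binSer ℤ (P.aug x) := by
  have hadd : ∀ a b : ℤ, binSer ℤ (a + b) = binSer ℤ a * binSer ℤ b := fun a b => by
    ext n
    simp only [binSer, PowerSeries.coeff_mk, PowerSeries.coeff_mul,
      Ring.add_choose_eq n (Commute.all a b)]
  have hpos : ∀ e ∈ P.pos, PowerSeries.map P.aug (lamSeries e) = binSer ℤ (P.aug e) := by
    intro e he
    obtain ⟨L, _, _, Q, f, hf, hs⟩ := exists_split hK [e] (by simp [he])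
    obtain ⟨s, hs1, hs2⟩ := hs e (by simp)
    have h0 : P.aug = Q.aug.comp f := RingHom.ext fun y => (hf.aug_comp y).symm
    rw [h0, PowerSeries.map_comp, RingHom.comp_apply, RingHom.comp_apply,
      map_lamSeries hf.isLambdaHom, ← hs2]
    clear hs2
    induction s using Multiset.induction with
    | empty =>
      ext i
      cases i <;> simp [lamSeries_zero, binSer, PowerSeries.coeff_one, Ring.choose_zero_succ]
    | cons a t iht =>
      have ha := hs1 a (Multiset.mem_cons_self a t)
      rw [Multiset.sum_cons, lamSeries_add, map_mul, map_add, hadd,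
        iht fun v hv => hs1 v (Multiset.mem_cons_of_mem hv), lamSeries_of_linear (lam_eq_zero_of_line ha),
        map_add, map_one, map_mul, PowerSeries.map_C, PowerSeries.map_X, ha.2, map_one, one_mul]
      congr 1
      ext i
      simp only [binSer, map_add, PowerSeries.coeff_one, PowerSeries.coeff_X, PowerSeries.coeff_mk]
      rw [show (1 : ℤ) = ((1 : ℕ) : ℤ) from rfl, Ring.choose_natCast]
      match i with
      | 0 => simp
      | 1 => simp
      | i + 2 => simp [Nat.choose_eq_zero_of_lt (show 1 < i + 2 by omega)]
  obtain ⟨a, b, ha, hb, rfl⟩ := P.exists_sub x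
  have hu : IsUnit (binSer ℤ (P.aug b)) := by
    rw [PowerSeries.isUnit_iff_constantCoeff, constantCoeff_binSer]; exact isUnit_one
  apply hu.mul_right_cancel
  conv_lhs => rw [← hpos b hb, ← map_mul, ← lamSeries_add, sub_add_cancel, hpos a ha]
  rw [← hadd, ← map_add, sub_add_cancel]

theorem gammaFiltration_eq (P : PosStructure K) (n : ℕ) (y : K) :
    y ∈ gammaFiltration P n ↔ y ∈ gammaFil P.aug n := by
  rcases eq_or_ne n 0 with rfl | hn
  · simp [gammaFiltration, gammaFil_zero]
  constructor
  · intro h
    rw [gammaFiltration, if_neg hn] at h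
    induction h using AddSubgroup.closure_induction with
    | mem z hz => exact Ideal.subset_span hz
    | zero => exact zero_mem _
    | add a b _ _ iha ihb => exact add_mem iha ihb
    | neg a _ iha => exact neg_mem iha
  · intro h
    suffices ∀ a : K, a * y ∈ gammaFiltration P n by simpa using this 1
    induction h using Submodule.span_induction with
    | mem z hz =>
      obtain ⟨l, hl1, hl2, rfl⟩ := hz
      intro a
      rw [gammaFiltration, if_neg hn, show a * (l.map fun p => gamma p.1 p.2).prod =
        (((1, a - (P.aug a : K)) :: l).map fun p => gamma p.1 p.2).prod +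
          P.aug a • (l.map fun p => gamma p.1 p.2).prod by
        simp [gamma_one, zsmul_eq_mul]; ring]
      refine add_mem ?_ (zsmul_mem ?_ _)
      rotate_left
      · exact AddSubgroup.subset_closure ⟨l, hl1, hl2, rfl⟩
      refine AddSubgroup.subset_closure ⟨_, ?_, ?_, rfl⟩
      · intro p hp
        rcases List.mem_cons.1 hp with rfl | hp
        · simp
        · exact hl1 p hp
      · simp; omega
    | zero => intro a; simp
    | add u w _ _ hu hw => intro a; rw [mul_add]; exact add_mem (hu a) (hw a)
    | smul b u _ hu => intro a; rw [smul_eq_mul, ← mul_assoc]; exact hu (a * b)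

end Groth.Agent.H27Lambda
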