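import Groth.Agent.H27Lambda.Line
import Mathlib.Data.Finsupp.Weight

/-! Transfer from the ring of line elements to the γ-filtration of a special λ-ring. -/

universe u v

open Finset LambdaRing

noncomputable section

namespace Groth.Agent.H27Lambda

/-! ### The γ-filtration -/

section GammaFil

variable {A : Type u} {R : Type v} [CommRing A] [LambdaOps A] [CommRing R] (ε : A →+* R)

lemma gammaFil_zero : gammaFil ε 0 = ⊤ :=
  (Ideal.eq_top_iff_one _).2 (Ideal.subset_span ⟨[], by simp, by simp, by simp⟩)

lemma gammaFil_antitone {m n : ℕ} (h : m ≤ n) : gammaFil ε n ≤ gammaFil ε m :=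
  Ideal.span_mono fun _ ⟨l, h1, h2, h3⟩ => ⟨l, h1, h.trans h2, h3⟩

lemma gamma_mem_gammaFil (i : ℕ) {x : A} (hx : ε x = 0) : gamma i x ∈ gammaFil ε i :=
  Ideal.subset_span ⟨[(i, x)], by simp [hx], by simp, by simp⟩

lemma gammaFil_mul_mem {m n k : ℕ} {x y : A} (hx : x ∈ gammaFil ε m) (hy : y ∈ gammaFil ε n)
    (h : k ≤ m + n) : x * y ∈ gammaFil ε k := by
  refine gammaFil_antitone ε h ?_
  suffices gammaFil ε m * gammaFil ε n ≤ gammaFil ε (m + n) from this (Ideal.mul_mem_mul hx hy)
  rw [gammaFil, gammaFil, Ideal.span_mul_span', Ideal.span_le]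
  rintro _ ⟨a, ⟨l, hl1, hl2, rfl⟩, b, ⟨l', hl1', hl2', rfl⟩, rfl⟩
  refine Ideal.subset_span ⟨l ++ l', fun p hp => ?_, by simp; omega, by simp⟩
  rcases List.mem_append.1 hp with hp | hp
  exacts [hl1 p hp, hl1' p hp]

lemma gammaFil_pow_mem {m : ℕ} {x : A} (hx : x ∈ gammaFil ε m) (e : ℕ) :
    x ^ e ∈ gammaFil ε (e * m) := by
  induction e with
  | zero => simp [gammaFil_zero]
  | succ e ih => rw [pow_succ]; exact gammaFil_mul_mem ε ih hx (by rw [Nat.succ_mul])

lemma gammaFil_prod_mem {ι : Type*} (s : Finset ι) (f : ι → A) (w : ι → ℕ)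
    (h : ∀ i ∈ s, f i ∈ gammaFil ε (w i)) : ∏ i ∈ s, f i ∈ gammaFil ε (∑ i ∈ s, w i) := by
  classical
  induction s using Finset.induction with
  | empty => simp [gammaFil_zero]
  | insert a s ha ih =>
    rw [prod_insert ha, sum_insert ha]
    exact gammaFil_mul_mem ε (h a (mem_insert_self a s))
      (ih fun i hi => h i (mem_insert_of_mem hi)) le_rfl

end GammaFil

lemma map_gammaSeries {A : Type u} {B : Type v} [CommRing A] [LambdaOps A] [CommRing B]
    [LambdaOps B] {f : A →+* B} (hf : Commutes f) (x : A) :
    PowerSeries.map f (gammaSeries x) = gammaSeries (f x) := by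
  rw [gammaSeries_eq_subst, gammaSeries_eq_subst]
  refine (PowerSeries.map_subst hasSubst_sX _).trans ?_
  rw [hf x]
  exact congrArg (fun a => PowerSeries.subst a _) (map_sX f)

lemma Commutes.gamma {A : Type u} {B : Type v} [CommRing A] [LambdaOps A] [CommRing B]
    [LambdaOps B] {f : A →+* B} (hf : Commutes f) (i : ℕ) (x : A) :
    f (LambdaRing.gamma i x) = LambdaRing.gamma i (f x) := by
  rw [← coeff_gammaSeries, ← coeff_gammaSeries, ← PowerSeries.coeff_map, map_gammaSeries hf]

/-! ### Injectivity of the substitution of elementary symmetric functions -/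

open MvPolynomial in
/-- The substitution X_(j,k) ↦ e_(k+1)(z_j). -/
def eMulti (R : Type u) [CommRing R] (r N : ℕ) :
    MvPolynomial (Fin r × Fin N) R →ₐ[R] MvPolynomial (Fin r × Fin N) R :=
  aeval fun x => rename (fun a => (x.1, a)) (esymm (Fin N) R ((x.2 : ℕ) + 1))

/-- Splitting off the first family. -/
def famEquiv (r N : ℕ) : Fin (r + 1) × Fin N ≃ Fin N ⊕ (Fin r × Fin N) where
  toFun x := Fin.cases (Sum.inl x.2) (fun j => Sum.inr (j, x.2)) x.1
  invFun := Sum.elim (fun a => (0, a)) (fun y => (y.1.succ, y.2))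
  left_inv := by rintro ⟨j, a⟩; cases j using Fin.cases <;> rfl
  right_inv := by rintro (a | ⟨j, a⟩) <;> rfl

open MvPolynomial in
lemma eMulti_injective (R : Type u) [CommRing R] (r N : ℕ) :
    Function.Injective (eMulti R r N) := by
  induction r with
  | zero =>
    have : eMulti R 0 N = AlgHom.id R _ := MvPolynomial.algHom_ext fun x => x.1.elim0
    rw [this]; exact Function.injective_id
  | succ r ih =>
    let Φ : MvPolynomial (Fin (r + 1) × Fin N) R ≃ₐ[R]
        MvPolynomial (Fin N) (MvPolynomial (Fin r × Fin N) R) :=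
      (renameEquiv R (famEquiv r N)).trans (sumAlgEquiv R (Fin N) (Fin r × Fin N))
    have key : ∀ P, Φ (eMulti R (r + 1) N P) =
        esHom (MvPolynomial (Fin r × Fin N) R) N
          (MvPolynomial.map (eMulti R r N).toRingHom (Φ P)) := by
      intro P
      induction P using MvPolynomial.induction_on with
      | C a => simp [Φ, eMulti]
      | add p q hp hq => simp only [map_add, hp, hq]
      | mul_X p x hp =>
        simp only [map_mul, hp]
        congr 1
        obtain ⟨j, k⟩ := x
        cases j using Fin.cases with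
        | zero =>
          have h := AlgHom.congr_fun (sumAlgEquiv_comp_rename_inl (R := R) (S₁ := Fin N)
            (S₂ := Fin r × Fin N)) (esymm (Fin N) R ((k : ℕ) + 1))
          simp only [AlgHom.comp_apply] at h
          simp only [Φ, eMulti, aeval_X, AlgEquiv.trans_apply, renameEquiv_apply, rename_rename,
            rename_X]
          simp only [Function.comp_def, famEquiv, Equiv.coe_fn_mk, Fin.cases_zero,
            sumAlgEquiv_X_inl, map_X, aeval_X]
          exact h.trans (map_esymm (Fin N) R _ _)
        | succ j =>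
          have h := AlgHom.congr_fun (sumAlgEquiv_comp_rename_inr (R := R) (S₁ := Fin N)
            (S₂ := Fin r × Fin N)) (rename (fun a => (j, a)) (esymm (Fin N) R ((k : ℕ) + 1)))
          simp only [AlgHom.comp_apply, rename_rename] at h
          simp only [Φ, eMulti, aeval_X, AlgEquiv.trans_apply, renameEquiv_apply, rename_rename,
            rename_X]
          simp only [Function.comp_def, famEquiv, Equiv.coe_fn_mk, Fin.cases_succ,
            sumAlgEquiv_X_inr, map_C]
          exact h.trans (by simp)
    intro p q h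
    have h' := congrArg Φ h
    rw [key, key] at h'
    exact Φ.injective (MvPolynomial.map_injective _ ih (esHom_injective N h'))

/-! ### Evaluation maps -/

section Eval

open MvPolynomial

variable {K : Type u} [CommRing K] [BinomialRing K] {J : Type}

instance instTorsionFreeFree : IsAddTorsionFree (MvPolynomial (J × ℕ) K) :=
  isAddTorsionFree_mvPolynomial K (J × ℕ)

/-- The free λ-structure. -/
@[reducible] def freeOps (K : Type u) [CommRing K] [BinomialRing K] (J : Type) :
    LambdaOps (MvPolynomial (J × ℕ) K) := (freeData K J).ops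

variable {A : Type v} [CommRing A] [LambdaOps A] (φ : K →+* A) (x : J → A)

/-- Evaluation of the free λ-ring at x. -/
def evalFree : MvPolynomial (J × ℕ) K →+* A :=
  eval₂Hom φ fun q => LambdaOps.lam (q.2 + 1) (x q.1)

/-- Evaluation in γ-coordinates. -/
def evalGamma : MvPolynomial (J × ℕ) K →+* A :=
  eval₂Hom φ fun q => LambdaRing.gamma (q.2 + 1) (x q.1)

lemma evalFree_gen (j : J) : evalFree φ x (X (j, 0)) = x j := by
  simp [evalFree, LambdaOps.lam_one]

lemma map_evalFree_freeGen (j : J) :
    PowerSeries.map (evalFree φ x) (freeGen K j) = lamSeries (x j) := by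
  ext n
  cases n with
  | zero => simp [freeGen, coeff_lamSeries, LambdaOps.lam_zero]
  | succ n => simp [freeGen, evalFree, coeff_lamSeries]

lemma commutes_evalFree (hA : IsSpecial A)
    (hφ : ∀ c, PowerSeries.map φ (binSer K c) = lamSeries (φ c)) :
    letI := freeOps K J
    Commutes (evalFree φ x) := by
  letI := freeOps K J
  refine commutes_of_ringClosure (freeData K J).isSpecial hA _ (Set.range C ∪ Set.range X)
    (closure_C_union K _ fun a => Subring.subset_closure (Or.inr ⟨a, rfl⟩)) ?_
  rintro _ (⟨c, rfl⟩ | ⟨q, rfl⟩)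
  · have h : lamSeries (C c : MvPolynomial (J × ℕ) K) = PowerSeries.map C (binSer K c) := by
      refine (freeData K J).series_eq_of_ghost_eq
        (constantCoeff_map_one _ (constantCoeff_binSer K c)) fun k => ?_
      rw [← map_ghost _ (constantCoeff_binSer K c), ghost_binSer]
      simp [freeData]
    rw [h, show evalFree φ x (C c) = φ c by simp [evalFree], ← hφ]
    ext n
    simp [evalFree]
  · rw [free_lamSeries_X, map_compSer, map_evalFree_freeGen,
      ← lamSeries_lam_of_special hA]
    simp [evalFree]

/-- The change to γ-coordinates. -/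
def toGamma : MvPolynomial (J × ℕ) K →+* MvPolynomial (J × ℕ) K :=
  eval₂Hom C fun q => PowerSeries.coeff (q.2 + 1) ((freeGen K q.1).subst rX)

lemma evalGamma_toGamma (y : MvPolynomial (J × ℕ) K) :
    evalGamma φ x (toGamma y) = evalFree φ x y := by
  refine RingHom.congr_fun (f := (evalGamma φ x).comp toGamma) (g := evalFree φ x)
    (MvPolynomial.ringHom_ext (fun c => by simp [toGamma, evalGamma, evalFree]) fun q => ?_) y
  have h : PowerSeries.map (evalGamma φ x) (freeGen K q.1) = gammaSeries (x q.1) := by
    ext n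
    cases n with
    | zero => simp [freeGen, coeff_gammaSeries, gamma_zero]
    | succ n => simp [freeGen, evalGamma, coeff_gammaSeries]
  rw [RingHom.comp_apply]
  simp only [toGamma, eval₂Hom_X']
  rw [← PowerSeries.coeff_map]
  have h2 : PowerSeries.map (evalGamma φ x) ((freeGen K q.1).subst rX) =
      (gammaSeries (x q.1)).subst rX := by
    refine (PowerSeries.map_subst hasSubst_rX _).trans ?_
    rw [h]
    exact congrArg (fun a => PowerSeries.subst a _) (map_rX _)
  rw [h2, ← lamSeries_eq_subst]
  simp [evalFree, coeff_lamSeries]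

end Eval

/-! ### The transfer theorem -/

section Transfer

open MvPolynomial

variable {K : Type u} [CommRing K] [BinomialRing K] {r : ℕ}

/-- The generic element x_j = Σ_a z_(j,a). -/
def lineX (K : Type u) [CommRing K] (r N : ℕ) (j : Fin r) : MvPolynomial (Fin r × Fin N) K :=
  ∑ a : Fin N, X (j, a)

attribute [local instance] lineOps

lemma line_hφ (N : ℕ) (c : K) :
    PowerSeries.map (C : K →+* MvPolynomial (Fin r × Fin N) K) (binSer K c) = lamSeries (C c) :=
  (line_lamSeries_C K _ c).symm

lemma gamma_lineX (N : ℕ) (j : Fin r) (i : ℕ) :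
    LambdaRing.gamma i (lineX K r N j) =
      rename (fun a => (j, a)) (esymm (Fin N) K i) := by
  have h : rename (fun a => (j, a)) (esymm (Fin N) K i) = PowerSeries.coeff i
      (eSer ((univ : Finset (Fin N)).val.map fun a => (X (j, a) : MvPolynomial (Fin r × Fin N) K))) := by
    rw [coeff_eSer, ← aeval_esymm_eq_multiset_esymm (Fin N) K]
    have : rename (R := K) (fun a : Fin N => (j, a)) = aeval (fun a => X (j, a)) := by ext; simp
    rw [this]
  rw [h, ← coeff_gammaSeries, lineX, gammaSeries_sum, eSer_univ]
  congr 1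
  exact Finset.prod_congr rfl fun a _ => line_gammaSeries_X K _ (j, a)

lemma lineX_mem (N : ℕ) (j : Fin r) : lineX K r N j ∈ degId K (Fin r × Fin N) :=
  Submodule.sum_mem _ fun a _ => X_mem K _ (j, a)

theorem mem_gammaFil_of_line {A : Type v} [CommRing A] [LambdaOps A] {R : Type*} [CommRing R]
    (φ : K →+* A) (ε : A →+* R) (x : Fin r → A) (hx : ∀ j, ε (x j) = 0)
    (y : MvPolynomial (Fin r × ℕ) K) (n : ℕ)
    (h : ∀ N, evalFree (C : K →+* MvPolynomial (Fin r × Fin N) K) (lineX K r N) y ∈
      degId K (Fin r × Fin N) ^ n) :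
    evalFree φ x y ∈ gammaFil ε n := by
  classical
  rw [← evalGamma_toGamma]
  set P := toGamma y with hP
  set N := (P.vars.sup fun q => q.2) + 1 with hN
  obtain ⟨P', hP'⟩ := exists_rename_eq_of_vars_subset_range P
    (Prod.map (id : Fin r → Fin r) (Fin.val : Fin N → ℕ))
    (Function.injective_id.prodMap Fin.val_injective) (fun q hq =>
      ⟨(q.1, ⟨q.2, by
        have : q.2 ≤ P.vars.sup fun q => q.2 := Finset.le_sup (f := fun q : Fin r × ℕ => q.2) hq
        omega⟩), rfl⟩)
  have hline : eMulti K r N P' ∈ degId K (Fin r × Fin N) ^ n := by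
    have h1 := h N
    rw [← evalGamma_toGamma, ← hP, ← hP'] at h1
    convert h1 using 1
    rw [evalGamma, coe_eval₂Hom, eval₂_rename, eMulti, aeval_def, algebraMap_eq]
    congr 1
    funext q
    exact (gamma_lineX N q.1 ((q.2 : ℕ) + 1)).symm
  set w : Fin r × Fin N → ℕ := fun q => (q.2 : ℕ) + 1 with hw
  have hwd : ∀ d ∈ P'.support, n ≤ Finsupp.weight w d := by
    intro d hd
    by_contra hlt
    push Not at hlt
    have hcomp : weightedHomogeneousComponent w (Finsupp.weight w d) P' = 0 := by
      apply eMulti_injective K r N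
      rw [map_zero, eMulti, ← component_aeval (w' := fun _ : Fin r × Fin N => (1 : ℕ))]
      · ext e
        rw [coeff_weightedHomogeneousComponent, coeff_zero]
        split_ifs with he
        · rw [mem_pow_idealOfVars_iff'] at hline
          refine hline e ?_
          rw [Finsupp.degree_eq_weight_one]
          have : Finsupp.weight (fun _ : Fin r × Fin N => (1 : ℕ)) e = Finsupp.weight w d := he
          simpa [Pi.one_def] using this ▸ hlt
        · rfl
      · intro q
        simpa using isWH_esymm (R := K) (w := fun _ : Fin r × Fin N => (1 : ℕ)) (c := (1 : ℕ))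
          (f := fun a => (q.1, a)) (fun _ => rfl) ((q.2 : ℕ) + 1)
    have := congrArg (coeff d) hcomp
    rw [coeff_weightedHomogeneousComponent, if_pos rfl, coeff_zero] at this
    exact mem_support_iff.1 hd this
  rw [← hP', evalGamma, coe_eval₂Hom, eval₂_rename, P'.as_sum, eval₂_sum]
  refine Submodule.sum_mem _ fun d hd => ?_
  rw [eval₂_monomial]
  refine Ideal.mul_mem_left _ _ (gammaFil_antitone ε (hwd d hd) ?_)
  rw [Finsupp.weight_apply]
  refine gammaFil_prod_mem ε d.support _ (fun q => d q • w q) fun q _ => ?_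
  exact gammaFil_pow_mem ε (gamma_mem_gammaFil ε _ (hx q.1)) (d q)

theorem evalFree_line_commutes (N : ℕ) :
    letI := freeOps K (Fin r)
    Commutes (evalFree (C : K →+* MvPolynomial (Fin r × Fin N) K) (lineX K r N)) :=
  commutes_evalFree _ _ (line_special K _) (line_hφ N)

end Transfer

/-! ### γ on the γ-filtration -/

section Main

attribute [local instance] lineOps

variable {K : Type u} [CommRing K] [BinomialRing K] {A : Type v} [CommRing A] [LambdaOps A]

/-- z behaves like an element of γ-degree ≥ m. -/
structure GoodEl (ε : A →+* K) (m : ℕ) (z : A) : Prop where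
  mem : ∀ i, 1 ≤ i → LambdaRing.gamma i z ∈ gammaFil ε (max i m)
  lead : LambdaRing.gamma m z - leadC A m * z ∈ gammaFil ε (m + 1)

lemma GoodEl.self {ε : A →+* K} {m : ℕ} {z : A} (h : GoodEl ε m z) : z ∈ gammaFil ε m := by
  have := h.mem 1 le_rfl
  rw [gamma_one] at this
  exact gammaFil_antitone ε (le_max_right _ _) this

lemma GoodEl.add {ε : A →+* K} {m : ℕ} (hm : 1 ≤ m) {y z : A} (hy : GoodEl ε m y)
    (hz : GoodEl ε m z) : GoodEl ε m (y + z) := by
  have key : ∀ i, 1 ≤ i → LambdaRing.gamma i (y + z) - LambdaRing.gamma i y - LambdaRing.gamma i z ∈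
      gammaFil ε (max i (2 * m)) := by
    intro i hi
    obtain ⟨i, rfl⟩ : ∃ n, i = n + 1 := ⟨i - 1, by omega⟩
    rw [← coeff_gammaSeries (i + 1) (y + z), gammaSeries_add, PowerSeries.coeff_mul,
      Finset.Nat.sum_antidiagonal_eq_sum_range_succ_mk, Finset.sum_range_succ,
      Finset.sum_range_succ']
    simp only [Nat.sub_self, coeff_gammaSeries, gamma_zero, mul_one, one_mul, Nat.sub_zero]
    have e : ∀ S a b : A, S + a + b - b - a = S := fun S a b => by ring
    rw [e]
    refine Submodule.sum_mem _ fun j hj => ?_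
    rw [mem_range] at hj
    exact gammaFil_mul_mem ε (hy.mem (j + 1) (by omega)) (hz.mem (i + 1 - (j + 1)) (by omega))
      (by omega)
  constructor
  · intro i hi
    have h3 := add_mem (add_mem (gammaFil_antitone ε (show max i m ≤ max i (2 * m) by omega)
      (key i hi)) (hz.mem i hi)) (hy.mem i hi)
    simpa using h3
  · have h3 := add_mem (add_mem (gammaFil_antitone ε (show m + 1 ≤ max m (2 * m) by omega)
      (key m hm)) hz.lead) hy.lead
    convert h3 using 1
    ring

lemma GoodEl.zero {ε : A →+* K} {m : ℕ} (hm : 1 ≤ m) : GoodEl ε m 0 := by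
  constructor
  · intro i hi
    rw [← coeff_gammaSeries, gammaSeries_zero, PowerSeries.coeff_one, if_neg (by omega)]
    exact zero_mem _
  · rw [← coeff_gammaSeries, gammaSeries_zero, PowerSeries.coeff_one, if_neg (by omega)]
    simp

open MvPolynomial in
/-- The core: γ of a scalar times a product of γ's. -/
theorem goodEl_prod (hA : IsSpecial A) (φ : K →+* A) (ε : A →+* K)
    (hφ : ∀ c, PowerSeries.map φ (binSer K c) = lamSeries (φ c))
    (l : List (ℕ × A)) (hl : ∀ p ∈ l, ε p.2 = 0) {m : ℕ} (hm : 1 ≤ m)
    (hlm : m ≤ (l.map Prod.fst).sum) (c : K) :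
    GoodEl ε m (φ c * (l.map fun p => LambdaRing.gamma p.1 p.2).prod) := by
  letI := freeOps K (Fin l.length)
  set x : Fin l.length → A := fun j => (l.get j).2 with hx_def
  have hx : ∀ j, ε (x j) = 0 := fun j => hl _ (l.get_mem j)
  have hev := commutes_evalFree φ x hA hφ
  set y : MvPolynomial (Fin l.length × ℕ) K :=
    C c * ∏ j : Fin l.length, LambdaRing.gamma (l.get j).1 (X (j, 0)) with hy
  have hyA : evalFree φ x y = φ c * (l.map fun p => LambdaRing.gamma p.1 p.2).prod := by
    rw [hy, map_mul, map_prod]
    congr 1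
    · simp [evalFree]
    · have hc : ∀ j : Fin l.length, evalFree φ x (LambdaRing.gamma (l.get j).1 (X (j, 0))) =
          LambdaRing.gamma (l.get j).1 (l.get j).2 := fun j => by
        rw [Commutes.gamma hev, evalFree_gen]
      simp only [hc]
      rw [← List.prod_ofFn]
      congr 1
      conv_rhs => rw [← List.ofFn_get l, List.map_ofFn]
      rfl
  have hyL : ∀ N, evalFree (C : K →+* MvPolynomial (Fin l.length × Fin N) K) (lineX K l.length N) y ∈
      degId K (Fin l.length × Fin N) ^ m := by
    intro N
    letI := lineOps K (Fin l.length × Fin N)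
    rw [hy, map_mul, map_prod]
    refine Ideal.mul_mem_left _ _ ?_
    simp only [(evalFree_line_commutes N).gamma, evalFree_gen]
    refine degId_le K _ hlm ?_
    have hs : (l.map Prod.fst).sum = ∑ j : Fin l.length, (l.get j).1 := by
      rw [← List.sum_ofFn]
      congr 1
      conv_lhs => rw [← List.ofFn_get l, List.map_ofFn]
      rfl
    rw [hs, ← Finset.prod_pow_eq_pow_sum Finset.univ (fun j : Fin l.length => (l.get j).1)
      (degId K (Fin l.length × Fin N))]
    refine Ideal.prod_mem_prod fun j _ => ?_
    rcases Nat.eq_zero_or_pos (l.get j).1 with h0 | h0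
    · rw [h0, pow_zero, Ideal.one_eq_top]; exact Submodule.mem_top
    exact degId_le K _ (le_max_left _ _)
      ((goodSer_of_mem le_rfl (w := lineX K l.length N j)
        (by rw [pow_one]; exact lineX_mem N j)).mem _ h0 |> fun h => by rwa [coeff_gammaSeries] at h)
  constructor
  · intro i hi
    rw [← hyA, ← hev.gamma]
    refine mem_gammaFil_of_line φ ε x hx _ _ fun N => ?_
    letI := lineOps K (Fin l.length × Fin N)
    rw [(evalFree_line_commutes N).gamma, ← coeff_gammaSeries]
    exact (goodSer_of_mem hm (hyL N)).mem i hi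
  · rw [← hyA, ← hev.gamma, show leadC A m = evalFree φ x (leadC _ m) from (map_leadC _ m).symm,
      ← map_mul, ← map_sub]
    refine mem_gammaFil_of_line φ ε x hx _ _ fun N => ?_
    letI := lineOps K (Fin l.length × Fin N)
    rw [map_sub, map_mul, map_leadC, (evalFree_line_commutes N).gamma, ← coeff_gammaSeries]
    exact (goodSer_of_mem hm (hyL N)).lead

theorem goodEl_of_mem (hA : IsSpecial A) (φ : K →+* A) (ε : A →+* K)
    (hεφ : ∀ c, ε (φ c) = c) (hφ : ∀ c, PowerSeries.map φ (binSer K c) = lamSeries (φ c))
    {m : ℕ} (hm : 1 ≤ m) {z : A} (hz : z ∈ gammaFil ε m) : GoodEl ε m z := by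
  suffices ∀ a : A, GoodEl ε m (a * z) by simpa using this 1
  induction hz using Submodule.span_induction with
  | mem y hy =>
    obtain ⟨l, hl, hlm, rfl⟩ := hy
    intro a
    have h1 := goodEl_prod hA φ ε hφ l hl hm hlm (ε a)
    have h2 := goodEl_prod hA φ ε hφ ((1, a - φ (ε a)) :: l)
      (fun p hp => by
        rcases List.mem_cons.1 hp with rfl | hp
        · simp [hεφ]
        · exact hl p hp) hm (by simp; omega) 1
    have := GoodEl.add hm h1 h2
    convert this using 1
    simp [gamma_one]
    ring
  | zero => intro a; rw [mul_zero]; exact GoodEl.zero hm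
  | add y z _ _ hy hz => intro a; rw [mul_add]; exact (hy a).add hm (hz a)
  | smul b y _ hy => intro a; rw [smul_eq_mul, ← mul_assoc]; exact hy (a * b)

end Main

end Groth.Agent.H27Lambda
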