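import Groth.Agent.H27Lambda.Splitting
import Groth.Prelude.Def_W4bkmilneecrracsp2Inv
import Mathlib.RingTheory.Polynomial.Vieta

/-! λ-operations on sums of lines; involutions. -/

universe u

open Finset LambdaRing

noncomputable section

namespace Groth.Agent.H27Lambda

variable {K : Type u} [CommRing K]

open PowerSeries in
lemma coeff_prod_one_add_mul_X (s : Multiset K) (k : ℕ) :
    coeff k (s.map fun v => 1 + C v * X : Multiset (PowerSeries K)).prod = s.esymm k := by
  induction s using Multiset.induction generalizing k with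
  | empty => cases k <;> simp [Multiset.esymm, Multiset.powersetCard_zero_right, coeff_one]
  | cons a s ih =>
    rw [Multiset.map_cons, Multiset.prod_cons, add_mul, one_mul, map_add, mul_assoc, coeff_C_mul]
    cases k with
    | zero => simp [Multiset.esymm, ih]
    | succ k =>
      rw [coeff_succ_X_mul, ih, ih, Multiset.esymm, Multiset.esymm, Multiset.esymm,
        Multiset.powersetCard_cons, Multiset.map_add, Multiset.sum_add, Multiset.map_map]
      simp [Multiset.sum_map_mul_left]

/-- Reversal of elementary symmetric functions of units. -/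
lemma esymm_eq_esymm_inv (s : Multiset K) (g : K → K) (hg : ∀ v ∈ s, g v * v = 1) (i : ℕ)
    (hi : i ≤ Multiset.card s) :
    s.esymm i = (s.map g).esymm (Multiset.card s - i) * s.prod := by
  have h1 : (s.map fun v => Polynomial.X + Polynomial.C v).prod =
      (s.map fun v => Polynomial.C v * (1 + Polynomial.C (g v) * Polynomial.X)).prod := by
    congr 1
    refine Multiset.map_congr rfl fun v hv => ?_
    rw [mul_add, mul_one, ← mul_assoc, ← map_mul, mul_comm v, hg v hv, map_one, one_mul, add_comm]
  rw [Multiset.prod_map_mul, show (s.map fun v => Polynomial.C v).prod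
    = Polynomial.C s.prod by rw [map_multiset_prod]] at h1
  have h2 := congrArg (fun p => Polynomial.coeff p (Multiset.card s - i)) h1
  simp only [Polynomial.coeff_C_mul] at h2
  rw [Multiset.prod_X_add_C_coeff _ (Nat.sub_le _ _), Nat.sub_sub_self hi] at h2
  rw [h2, mul_comm]
  congr 1
  rw [← Polynomial.coeff_coe, ← Polynomial.coeToPowerSeries.ringHom_apply,
    map_multiset_prod, Multiset.map_map, ← coeff_prod_one_add_mul_X, Multiset.map_map]
  congr 3
  funext v
  simp [Polynomial.coeToPowerSeries.ringHom_apply]

lemma prod_one_sub_eq (s : Multiset K) :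
    (s.map fun v => 1 - v).prod = ∑ i ∈ range (Multiset.card s + 1), (-1) ^ i * s.esymm i := by
  have h := congrArg (Polynomial.eval 1) (Multiset.prod_X_sub_X_eq_sum_esymm s)
  simp only [Polynomial.eval_multiset_prod, Multiset.map_map, Function.comp_def,
    Polynomial.eval_sub, Polynomial.eval_X, Polynomial.eval_C, Polynomial.eval_finsetSum,
    Polynomial.eval_mul, Polynomial.eval_pow, Polynomial.eval_neg, Polynomial.eval_one, one_pow,
    mul_one] at h
  exact h

variable [LambdaOps K]

lemma lam_sum_lines {P : PosStructure K} {s : Multiset K} (hs : ∀ v ∈ s, P.IsLine v) (i : ℕ) :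
    LambdaOps.lam i s.sum = s.esymm i := by
  rw [← coeff_lamSeries, lamSeries_multiset_sum, ← coeff_prod_one_add_mul_X]
  congr 2
  exact Multiset.map_congr rfl fun v hv => lamSeries_of_linear (lam_eq_zero_of_line (hs v hv))

lemma gamma_sum_lines_sub {P : PosStructure K} {s : Multiset K} (hs : ∀ v ∈ s, P.IsLine v) (i : ℕ) :
    LambdaRing.gamma i (s.sum - (Multiset.card s : K)) = (s.map fun v => v - 1).esymm i := by
  rw [← coeff_gammaSeries, ← coeff_prod_one_add_mul_X,
    show s.sum - (Multiset.card s : K) = (s.map fun v => v - 1).sum by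
      rw [Multiset.sum_map_sub, Multiset.map_id']; simp]
  congr 1
  clear i
  induction s using Multiset.induction with
  | empty => simp [gammaSeries_zero]
  | cons a s ih =>
    simp only [Multiset.map_cons, Multiset.sum_cons, Multiset.prod_cons]
    rw [gammaSeries_add, ih fun v hv => hs v (Multiset.mem_cons_of_mem hv),
      gammaSeries_sub_one (lam_one_eq_zero P)
        (lam_eq_zero_of_line (hs a (Multiset.mem_cons_self a s)))]

lemma gamma_sum_lines_sub_top {P : PosStructure K} {s : Multiset K} (hs : ∀ v ∈ s, P.IsLine v) :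
    LambdaRing.gamma (Multiset.card s) (s.sum - (Multiset.card s : K)) =
      (s.map fun v => v - 1).prod := by
  rw [gamma_sum_lines_sub hs, ← Multiset.card_map (fun v => v - 1) s, Multiset.esymm,
    Multiset.powersetCard_self]
  simp

/-- The alternating sum of exterior powers of a positive element is a signed top γ. -/
lemma lamAlt_eq_gamma {P : PosStructure K} (hK : HasSplitting K P) {e : K} (he : e ∈ P.pos) :
    ∑ i ∈ range ((P.aug e).toNat + 1), (-1 : K) ^ i * LambdaOps.lam i e =
      (-1) ^ (P.aug e).toNat * LambdaRing.gamma (P.aug e).toNat (e - ((P.aug e).toNat : K)) := by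
  obtain ⟨L, _, _, Q, f, hf, hs⟩ := exists_split hK [e] (by simp [he])
  obtain ⟨s, hs1, hs2⟩ := hs e (by simp)
  have hm : (P.aug e).toNat = Multiset.card s := by
    rw [← hf.aug_comp, ← hs2, aug_sum_lines hs1, Int.toNat_natCast]
  apply hf.injective
  rw [hm, map_sum, map_mul, map_pow, map_neg, map_one, map_gamma hf.isLambdaHom, map_sub,
    map_natCast, ← hs2, gamma_sum_lines_sub_top hs1]
  simp only [map_mul, map_pow, map_neg, map_one, hf.isLambdaHom _ e, ← hs2, lam_sum_lines hs1]
  rw [← prod_one_sub_eq, ← Multiset.card_map (fun v => v - 1) s, ← Multiset.prod_map_neg,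
    Multiset.map_map]
  simp

/-- A model for an element and its dual. -/
theorem exists_inv_model {P : PosStructure K} {inv : K → K} (hV : IsInvolution P inv)
    (hS : HasInvSplitting P inv) {e : K} (he : e ∈ P.pos) :
    ∃ (L : Type u) (_ : CommRing L) (_ : LambdaOps L) (Q : PosStructure L) (f : K →+* L)
      (s : Multiset L) (g : L → L),
      IsExtension P Q f ∧ (∀ v ∈ s, Q.IsLine v) ∧ (∀ v ∈ s.map g, Q.IsLine v) ∧
      (∀ v ∈ s, g v * v = 1) ∧ s.sum = f e ∧ (s.map g).sum = f (inv e) ∧
      (P.aug e).toNat = Multiset.card s := by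
  obtain ⟨L, inv', f, hf, hV', hc, s, hs1, hs2⟩ := hS e he
  refine ⟨L.carrier, _, _, L.posStr, f, s, inv', hf, hs1, ?_, fun v hv => hV'.inv_mul_self v (hs1 v hv),
    hs2, ?_, ?_⟩
  · intro v hv
    obtain ⟨w, hw, rfl⟩ := Multiset.mem_map.1 hv
    exact hV'.inv_line w (hs1 w hw)
  · rw [hc, ← hs2]
    exact (map_multiset_sum (AddMonoidHom.mk' inv' hV'.map_add) s).symm
  · rw [← hf.aug_comp, ← hs2, aug_sum_lines hs1, Int.toNat_natCast]

end Groth.Agent.H27Lambda
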