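/-
Multiplicativity of the Chern character of the γ-filtration, through finite differences of Adams
operations.
-/
import Groth.Agent.H22Alg.LamChern

universe u

open Finset LambdaRing

noncomputable section

namespace Groth.Agent.H27Lambda.ChernMul

open Groth.Agent.H22Alg.LamChern Groth.Agent.H27Lambda

variable {K : Type u} [CommRing K] [LambdaOps K]

/-- The forward difference. -/
def delta (f : ℕ → K) : ℕ → K := fun j => f (j + 1) - f j

omit [LambdaOps K] in
lemma delta_iter_add (n : ℕ) (f g : ℕ → K) : delta^[n] (f + g) = delta^[n] f + delta^[n] g := by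
  induction n generalizing f g with
  | zero => rfl
  | succ n ih =>
    simp only [Function.iterate_succ_apply]
    rw [← ih]
    congr 1
    funext j
    simp [delta]; ring

omit [LambdaOps K] in
lemma delta_iter_zero (n : ℕ) : delta^[n] (0 : ℕ → K) = 0 := by
  induction n with
  | zero => rfl
  | succ n ih =>
    rw [Function.iterate_succ_apply, show delta (0 : ℕ → K) = 0 from funext fun j => by simp [delta], ih]

omit [LambdaOps K] in
lemma delta_iter_pow (u : K) (n j : ℕ) : delta^[n] (fun i => u ^ i) j = u ^ j * (u - 1) ^ n := by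
  induction n generalizing j with
  | zero => simp
  | succ n ih => rw [Function.iterate_succ_apply', delta, ih, ih]; ring

omit [LambdaOps K] in
lemma map_delta_iter {L : Type u} [CommRing L] (φ : K →+* L) (n : ℕ) (f : ℕ → K) (j : ℕ) :
    φ (delta^[n] f j) = delta^[n] (fun i => φ (f i)) j := by
  induction n generalizing j with
  | zero => rfl
  | succ n ih => simp only [Function.iterate_succ_apply', delta, map_sub, ih]

/-- `j ↦ ψ^j x`, with `ψ^0 = ε`. -/
def psi0 (P : PosStructure K) (x : K) (j : ℕ) : K := if j = 0 then (P.aug x : K) else adams P j x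

/-- The `n`-th difference at `0` of `j ↦ ψ^j x`. -/
def L (P : PosStructure K) (n : ℕ) (x : K) : K := delta^[n] (psi0 P x) 0

lemma psi0_add (P : PosStructure K) (x y : K) : psi0 P (x + y) = psi0 P x + psi0 P y := by
  funext j
  simp only [psi0, Pi.add_apply]
  split_ifs
  · rw [map_add, Int.cast_add]
  · exact (adamsHom P j).map_add x y

lemma psi0_mul {P : PosStructure K} (hK : HasSplitting K P) (x y : K) :
    psi0 P (x * y) = psi0 P x * psi0 P y := by
  funext j
  simp only [psi0, Pi.mul_apply]
  split_ifs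
  · rw [map_mul, Int.cast_mul]
  · exact adams_mul hK j x y

lemma psi0_line {P : PosStructure K} {u : K} (hu : P.IsLine u) : psi0 P u = fun i => u ^ i := by
  funext j
  simp only [psi0]
  split_ifs with h
  · subst h; rw [hu.2, Int.cast_one, pow_zero]
  · exact adams_line P hu j

lemma L_add (P : PosStructure K) (n : ℕ) (x y : K) : L P n (x + y) = L P n x + L P n y := by
  rw [L, psi0_add, delta_iter_add]; rfl

lemma L_zero_apply (P : PosStructure K) (x : K) : L P 0 x = (P.aug x : K) := by simp [L, psi0]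

lemma L_line {P : PosStructure K} {u : K} (hu : P.IsLine u) (n : ℕ) : L P n u = (u - 1) ^ n := by
  rw [L, psi0_line hu, delta_iter_pow, pow_zero, one_mul]

lemma map_L {K' : Type u} [CommRing K'] [LambdaOps K'] {P : PosStructure K} {P' : PosStructure K'}
    {f : K →+* K'} (hf : IsLambdaHom f) (ha : ∀ x, P'.aug (f x) = P.aug x) (n : ℕ) (x : K) :
    f (L P n x) = L P' n (f x) := by
  rw [L, L, map_delta_iter]
  refine congrArg (fun g : ℕ → K' => delta^[n] g 0) (funext fun j => ?_)
  simp only [psi0]
  split_ifs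
  · rw [map_intCast, ha]
  · exact map_adams hf ha _ _

lemma constantCoeff_gammaSeries (z : K) : PowerSeries.constantCoeff (gammaSeries z) = 1 := by
  rw [← PowerSeries.coeff_zero_eq_constantCoeff_apply, coeff_gammaSeries, gamma_zero]

/-- The `k`-th ghost component of the γ-series of `x - ε x`. -/
def R (P : PosStructure K) (k : ℕ) (x : K) : K := ghost k (gammaSeries (x - (P.aug x : K)))

lemma R_add (P : PosStructure K) (k : ℕ) (x y : K) : R P k (x + y) = R P k x + R P k y := by
  rw [R, show x + y - ((P.aug (x + y) : ℤ) : K) = (x - (P.aug x : K)) + (y - (P.aug y : K)) by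
    rw [map_add, Int.cast_add]; ring, gammaSeries_add,
    ghost_mul (constantCoeff_gammaSeries _) (constantCoeff_gammaSeries _)]
  rfl

lemma R_eq_L_lines {P : PosStructure K} (k : ℕ) {s : Multiset K} (hs : ∀ v ∈ s, P.IsLine v) :
    R P k s.sum = L P (k + 1) s.sum := by
  induction s using Multiset.induction with
  | empty =>
    rw [Multiset.sum_zero, R, map_zero, Int.cast_zero, sub_zero, gammaSeries_zero, ghost_one, L,
      show psi0 P (0 : K) = 0 from funext fun j => by
        simp only [psi0, Pi.zero_apply]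
        split_ifs
        · simp
        · exact (adamsHom P j).map_zero,
      delta_iter_zero]
    rfl
  | cons a t ih =>
    have ha := hs a (Multiset.mem_cons_self a t)
    rw [Multiset.sum_cons, R_add, L_add, ih fun v hv => hs v (Multiset.mem_cons_of_mem hv),
      L_line ha, R, ha.2, Int.cast_one, gammaSeries_sub_one (lam_one_eq_zero P) (lam_eq_zero_of_line ha),
      ghost_linear]

theorem R_eq_L {P : PosStructure K} (hK : HasSplitting K P) (k : ℕ) (x : K) :
    R P k x = L P (k + 1) x := by
  have hpos : ∀ e ∈ P.pos, R P k e = L P (k + 1) e := by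
    intro e he
    obtain ⟨M, _, _, Q, f, hf, hs⟩ := exists_split hK [e] (by simp [he])
    obtain ⟨s, hs1, hs2⟩ := hs e (by simp)
    refine hf.injective ?_
    rw [map_L hf.isLambdaHom hf.aug_comp, R,
      map_ghost f (constantCoeff_gammaSeries _),
      show PowerSeries.map f (gammaSeries (e - (P.aug e : K))) =
        gammaSeries (f (e - (P.aug e : K))) from PowerSeries.ext fun i => by
          rw [PowerSeries.coeff_map, coeff_gammaSeries, coeff_gammaSeries, map_gamma hf.isLambdaHom],
      map_sub, map_intCast, ← hf.aug_comp e]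
    show R Q k (f e) = _
    rw [← hs2]
    exact R_eq_L_lines k hs1
  obtain ⟨a, b, ha, hb, rfl⟩ := P.exists_sub x
  have h1 := R_add P k (a - b) b
  have h2 := L_add P (k + 1) (a - b) b
  rw [sub_add_cancel] at h1 h2
  rw [hpos a ha, hpos b hb] at h1
  linear_combination h2 - h1

variable {P : PosStructure K}

lemma mem_fil_mono {m n : ℕ} (h : n ≤ m) {x : K} (hx : x ∈ gammaFiltration P m) :
    x ∈ gammaFiltration P n := by
  rw [gammaFiltration_eq] at hx ⊢
  exact gammaFil_antitone _ h hx

lemma natCast_mul_mem {n : ℕ} (c : ℕ) {x : K} (hx : x ∈ gammaFiltration P n) :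
    (c : K) * x ∈ gammaFiltration P n := by
  rw [← nsmul_eq_mul]; exact AddSubgroup.nsmul_mem _ hx c

/-- Leibniz rule for the differences, modulo higher filtration. -/
lemma leibniz : ∀ (n p q : ℕ) (f g : ℕ → K),
    (∀ a, delta^[a] f 0 ∈ gammaFiltration P (a + p)) →
    (∀ a, delta^[a] g 0 ∈ gammaFiltration P (a + q)) →
    delta^[n] (f * g) 0 -
        ∑ a ∈ range (n + 1), (n.choose a : K) * (delta^[a] f 0 * delta^[n - a] g 0) ∈
      gammaFiltration P (n + p + q + 1) := by
  intro n
  induction n with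
  | zero => intro p q f g _ _; simp
  | succ n ih =>
    intro p q f g hf hg
    have hf' : ∀ a, delta^[a] (delta f) 0 ∈ gammaFiltration P (a + (p + 1)) := fun a => by
      rw [← Function.iterate_succ_apply, show a + (p + 1) = (a + 1) + p by omega]; exact hf (a + 1)
    have hg' : ∀ a, delta^[a] (delta g) 0 ∈ gammaFiltration P (a + (q + 1)) := fun a => by
      rw [← Function.iterate_succ_apply, show a + (q + 1) = (a + 1) + q by omega]; exact hg (a + 1)
    have hd : delta (f * g) = delta f * g + f * delta g + delta f * delta g := by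
      funext j
      simp only [delta, Pi.add_apply, Pi.mul_apply]; ring
    have e : delta^[n + 1] (f * g) 0 = delta^[n] (delta f * g) 0 + delta^[n] (f * delta g) 0 +
        delta^[n] (delta f * delta g) 0 := by
      rw [Function.iterate_succ_apply, hd, delta_iter_add, delta_iter_add]; rfl
    have h1 := ih (p + 1) q (delta f) g hf' hg
    have h2 := ih p (q + 1) f (delta g) hf hg'
    have h3 := ih (p + 1) (q + 1) (delta f) (delta g) hf' hg'
    rw [show n + (p + 1) + q + 1 = n + 1 + p + q + 1 by omega] at h1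
    rw [show n + p + (q + 1) + 1 = n + 1 + p + q + 1 by omega] at h2
    have h4 : delta^[n] (delta f * delta g) 0 ∈ gammaFiltration P (n + 1 + p + q + 1) := by
      have h5 : (∑ a ∈ range (n + 1), (n.choose a : K) *
          (delta^[a] (delta f) 0 * delta^[n - a] (delta g) 0)) ∈
          gammaFiltration P (n + 1 + p + q + 1) := sum_mem fun a ha => natCast_mul_mem _
        (H22Alg.LamGr.mul_mem_fil (hf' a) (hg' (n - a)) (by simp only [mem_range] at ha; omega))
      have := add_mem (mem_fil_mono (show n + 1 + p + q + 1 ≤ n + (p + 1) + (q + 1) + 1 by omega) h3) h5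
      rwa [sub_add_cancel] at this
    have hsum : ∑ a ∈ range (n + 1 + 1), ((n + 1).choose a : K) * (delta^[a] f 0 * delta^[n + 1 - a] g 0) =
        (∑ a ∈ range (n + 1), (n.choose a : K) * (delta^[a] f 0 * delta^[n - a] (delta g) 0)) +
          ∑ a ∈ range (n + 1), (n.choose a : K) * (delta^[a] (delta f) 0 * delta^[n - a] g 0) := by
      rw [sum_choose_succ_mul (fun a b => delta^[a] f 0 * delta^[b] g 0) n]
      congr 1
      refine sum_congr rfl fun a ha => ?_
      simp only [mem_range] at ha
      rw [← Function.iterate_succ_apply, show n + 1 - a = n - a + 1 by omega]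
    rw [hsum, e]
    convert add_mem (add_mem h1 h2) h4 using 1
    ring

lemma L_mem (hK : HasSplitting K P) : ∀ (n : ℕ) (x : K), L P n x ∈ gammaFiltration P n
  | 0, x => by simp [gammaFiltration]
  | k + 1, x => by
    rw [← R_eq_L hK]
    exact ghost_graded (fun n z => z ∈ gammaFiltration P n) (fun h h' => sub_mem h h')
      (fun h h' => add_mem h h') (fun _ => zero_mem _)
      (fun h h' => H22Alg.LamGr.mul_mem_fil h h' le_rfl) (constantCoeff_gammaSeries _)
      (fun i => by rw [coeff_gammaSeries]; exact gamma_mem x i) k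

variable {A : Type u} [CommRing A] [Algebra ℚ A] (G : GrData P A)

lemma ghost_cser (x : K) (k : ℕ) :
    ∃ h : R P k x ∈ gammaFiltration P (k + 1), G.qc (k + 1) ⟨_, h⟩ = ghost k (cser G x) := by
  let F : PowerSeries (K × A) := PowerSeries.mk fun i =>
    (LambdaRing.gamma i (x - (P.aug x : K)), G.qc i ⟨_, gamma_mem x i⟩)
  have hF : PowerSeries.constantCoeff F = 1 := by
    rw [← PowerSeries.coeff_zero_eq_constantCoeff_apply, PowerSeries.coeff_mk]
    refine Prod.ext (gamma_zero (x - (P.aug x : K))) ?_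
    show G.qc 0 _ = 1
    rw [← G.one]
    exact congrArg _ (Subtype.ext (gamma_zero (x - (P.aug x : K))))
  have h := ghost_graded (fun n z => ∃ h : z.1 ∈ gammaFiltration P n, G.qc n ⟨z.1, h⟩ = z.2)
    (fun {n z w} hz hw => ⟨sub_mem hz.1 hw.1, by
      show G.qc n (⟨z.1, hz.1⟩ - ⟨w.1, hw.1⟩) = _
      rw [map_sub, hz.2, hw.2]; rfl⟩)
    (fun {n z w} hz hw => ⟨add_mem hz.1 hw.1, by
      show G.qc n (⟨z.1, hz.1⟩ + ⟨w.1, hw.1⟩) = _
      rw [map_add, hz.2, hw.2]; rfl⟩)
    (fun n => ⟨zero_mem _, map_zero _⟩)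
    (fun {a b z w} hz hw => ⟨H22Alg.LamGr.mul_mem_fil hz.1 hw.1 le_rfl, by
      rw [show (z * w).2 = z.2 * w.2 from rfl, ← hz.2, ← hw.2, G.mul]; rfl⟩)
    hF (fun i => ⟨by rw [PowerSeries.coeff_mk]; exact gamma_mem x i, by simp [F]⟩) k
  have e1 : (ghost k F).1 = R P k x := by
    refine (map_ghost (RingHom.fst K A) hF k).trans (congrArg (ghost k) ?_)
    ext i
    simp [F, coeff_gammaSeries]
  have e2 : (ghost k F).2 = ghost k (cser G x) := by
    refine (map_ghost (RingHom.snd K A) hF k).trans (congrArg (ghost k) ?_)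
    ext i
    simp [F, cser]
  obtain ⟨h1, h2⟩ := h
  refine ⟨e1 ▸ h1, ?_⟩
  rw [← e2, ← h2]
  exact congrArg _ (Subtype.ext e1.symm)

/-- The class of `L n x`. -/
def comp (hK : HasSplitting K P) (n : ℕ) (x : K) : A := G.qc n ⟨L P n x, L_mem hK n x⟩

lemma qc_intCast (c : ℤ) (h : (c : K) ∈ gammaFiltration P 0) :
    G.qc 0 ⟨_, h⟩ = algebraMap ℚ A (c : ℚ) := by
  have : (⟨(c : K), h⟩ : gammaFiltration P 0) = c • ⟨1, by simp [gammaFiltration]⟩ :=
    Subtype.ext (by simp)
  rw [this, map_zsmul, G.one, zsmul_one, map_intCast]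

lemma ch_eq_sum (hK : HasSplitting K P) {d : ℕ} (hd : gammaFiltration P (d + 1) = ⊥) (x : K) :
    ch G d x = ∑ n ∈ range (d + 1), (1 / (n.factorial : ℚ)) • comp G hK n x := by
  rw [ch_eq G hd, sum_range_succ', add_comm]
  congr 1
  · refine sum_congr rfl fun k _ => ?_
    obtain ⟨h, e⟩ := ghost_cser G x k
    rw [← e]
    exact congrArg _ (congrArg _ (Subtype.ext (R_eq_L hK k x)))
  · rw [Nat.factorial_zero, Nat.cast_one, div_one, one_smul,
      ← qc_intCast G _ (by simp [gammaFiltration])]
    exact congrArg _ (Subtype.ext (L_zero_apply P x).symm)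

lemma comp_mul (hK : HasSplitting K P) (n : ℕ) (x y : K) :
    comp G hK n (x * y) =
      ∑ a ∈ range (n + 1), (n.choose a : A) * (comp G hK a x * comp G hK (n - a) y) := by
  have h := leibniz (P := P) n 0 0 (psi0 P x) (psi0 P y) (fun a => L_mem hK a x)
    (fun a => L_mem hK a y)
  rw [← psi0_mul hK] at h
  have hm : ∀ a ∈ range (n + 1), L P a x * L P (n - a) y ∈ gammaFiltration P n := fun a ha =>
    H22Alg.LamGr.mul_mem_fil (L_mem hK a x) (L_mem hK (n - a) y)
      (by simp only [mem_range] at ha; omega)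
  let T : ℕ → gammaFiltration P n := fun a =>
    if ha : a ∈ range (n + 1) then n.choose a • ⟨L P a x * L P (n - a) y, hm a ha⟩ else 0
  have hT : (L P n (x * y) - ∑ a ∈ range (n + 1), (n.choose a : K) * (L P a x * L P (n - a) y)) =
      ((⟨L P n (x * y), L_mem hK n (x * y)⟩ - ∑ a ∈ range (n + 1), T a : gammaFiltration P n) : K) := by
    rw [AddSubgroup.coe_sub, AddSubgroup.val_finsetSum]
    congr 1
    refine sum_congr rfl fun a ha => ?_
    simp only [T, dif_pos ha, AddSubgroup.coe_nsmul, nsmul_eq_mul]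
  have h0 := G.succ (⟨L P n (x * y), L_mem hK n (x * y)⟩ - ∑ a ∈ range (n + 1), T a) (hT ▸ h)
  rw [map_sub, map_sum, sub_eq_zero] at h0
  refine h0.trans (sum_congr rfl fun a ha => ?_)
  simp only [T, dif_pos ha, map_nsmul, nsmul_eq_mul, comp, G.mul]
  congr 1
  have key : ∀ m, ∀ (_ : m = n) (z : K) (h1 : z ∈ gammaFiltration P m) (h2 : z ∈ gammaFiltration P n),
      G.qc n ⟨z, h2⟩ = G.qc m ⟨z, h1⟩ := by
    rintro m rfl z h1 h2; rfl
  exact key _ (by simp only [mem_range] at ha; omega) _ _ _

theorem ch_mul (hK : HasSplitting K P) {d : ℕ} (hd : gammaFiltration P (d + 1) = ⊥) (x y : K) :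
    ch G d (x * y) = ch G d x * ch G d y := by
  rw [ch_eq_sum G hK hd, ch_eq_sum G hK hd, ch_eq_sum G hK hd, sum_mul_sum, ← sum_product']
  let F : ℕ × ℕ → A := fun p => ((1 / (p.1.factorial : ℚ)) • comp G hK p.1 x) *
    ((1 / (p.2.factorial : ℚ)) • comp G hK p.2 y)
  show _ = ∑ p ∈ range (d + 1) ×ˢ range (d + 1), F p
  rw [← sum_filter_of_ne (p := fun p => p.1 + p.2 < d + 1) (s := range (d + 1) ×ˢ range (d + 1))]
  swap
  · intro p _ hne
    by_contra hp
    refine hne ?_
    simp only [F, comp, smul_mul_smul_comm, G.mul]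
    rw [qc_bot G hd (by omega), smul_zero]
  rw [← sum_fiberwise_of_maps_to (g := fun p : ℕ × ℕ => p.1 + p.2) (t := range (d + 1))
    (fun p hp => mem_range.2 (mem_filter.1 hp).2)]
  refine sum_congr rfl fun n hn => ?_
  rw [show ((range (d + 1) ×ˢ range (d + 1)).filter (fun p => p.1 + p.2 < d + 1)).filter
      (fun p => p.1 + p.2 = n) = antidiagonal n by
    ext p
    simp only [mem_filter, mem_product, mem_range, mem_antidiagonal] at hn ⊢
    omega,
    Finset.Nat.sum_antidiagonal_eq_sum_range_succ_mk, comp_mul, smul_sum]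
  refine sum_congr rfl fun a ha => ?_
  simp only [mem_range] at ha
  simp only [F]
  rw [← nsmul_eq_mul, ← Nat.cast_smul_eq_nsmul ℚ, smul_smul, smul_mul_smul_comm]
  congr 1
  rw [Nat.cast_choose ℚ (show a ≤ n by omega)]
  field_simp

theorem ch_one (hK : HasSplitting K P) {d : ℕ} (hd : gammaFiltration P (d + 1) = ⊥) :
    ch G d 1 = 1 := by
  rw [ch_eq_sum G hK hd, sum_range_succ', sum_eq_zero fun k _ => ?_, zero_add]
  · rw [Nat.factorial_zero, Nat.cast_one, div_one, one_smul, comp, ← G.one]
    exact congrArg _ (Subtype.ext (by rw [L_zero_apply, map_one, Int.cast_one]))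
  · have h : L P (k + 1) (1 : K) = 0 := by
      rw [L_line (isLine_one P), sub_self, zero_pow (Nat.succ_ne_zero k)]
    rw [comp, show (⟨L P (k + 1) 1, L_mem hK (k + 1) 1⟩ : gammaFiltration P (k + 1)) = 0 from
      Subtype.ext h, map_zero, smul_zero]

theorem chK_mul (hK : HasSplitting K P) (d : ℕ) (hd : gammaFiltration P (d + 1) = ⊥) (x y : K) :
    KGr.chK P d (x * y) = KGr.chK P d x * KGr.chK P d y ∧ KGr.chK P d 1 = 1 := by
  simp only [chK_eq_ch]
  exact ⟨ch_mul _ hK hd x y, ch_one _ hK hd⟩

end Groth.Agent.H27Lambda.ChernMul
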