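import Groth.Agent.H27Lambda.Divis

/-! Applications of divisibility by the top γ. -/

universe u v w

open Finset LambdaRing

noncomputable section

namespace Groth.Agent.H27Lambda

open MvPolynomial

attribute [local instance] lineOps

section Lift

variable {K : Type u} [CommRing K] [BinomialRing K] {A : Type v} [CommRing A] [LambdaOps A]
  {R : Type w} [CommRing R]

/-- z is the value of a universal element which has degree ≥ i on line models. -/
def Lift (φ : K →+* A) (ε : A →+* R) (i : ℕ) (z : A) : Prop :=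
  ∃ (r : ℕ) (x : Fin r → A), (∀ j, ε (x j) = 0) ∧ ∃ W : MvPolynomial (Fin r × ℕ) K,
    evalFree φ x W = z ∧ ∀ (σ : Type) (g : Fin r → MvPolynomial σ K),
      (∀ j, g j ∈ degId K σ) → evalFree (C : K →+* MvPolynomial σ K) g W ∈ degId K σ ^ i

omit [BinomialRing K] in
lemma evalFree_rename {J J' : Type} (φ : K →+* A) (g : J' → A) (f : J → J')
    (W : MvPolynomial (J × ℕ) K) :
    evalFree φ g (rename (Prod.map f id) W) = evalFree φ (g ∘ f) W := by
  rw [evalFree, evalFree, eval₂Hom_rename]
  rfl

variable {φ : K →+* A} {ε : A →+* R}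

lemma Lift.scalar (c : K) : Lift φ ε 0 (φ c) :=
  ⟨0, Fin.elim0, fun j => j.elim0, C c, by simp [evalFree], fun σ g _ => by simp⟩

lemma Lift.zero (i : ℕ) : Lift φ ε i 0 :=
  ⟨0, Fin.elim0, fun j => j.elim0, 0, map_zero _, fun σ g _ => by simp⟩

lemma Lift.mono {i j : ℕ} (h : i ≤ j) {z : A} : Lift φ ε j z → Lift φ ε i z := by
  rintro ⟨r, x, hx, W, hW, hd⟩
  exact ⟨r, x, hx, W, hW, fun σ g hg => degId_le K σ h (hd σ g hg)⟩

lemma Lift.add {i : ℕ} {a b : A} : Lift φ ε i a → Lift φ ε i b → Lift φ ε i (a + b) := by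
  rintro ⟨r, x, hx, W, hW, hd⟩ ⟨r', x', hx', W', hW', hd'⟩
  refine ⟨r + r', Fin.append x x', fun j => Fin.addCases (fun j => by simpa using hx j)
    (fun j => by simpa using hx' j) j,
    rename (Prod.map (Fin.castAdd r') id) W + rename (Prod.map (Fin.natAdd r) id) W', ?_,
    fun σ g hg => ?_⟩
  · rw [map_add, evalFree_rename, evalFree_rename, show Fin.append x x' ∘ Fin.castAdd r' = x by
      ext; simp, show Fin.append x x' ∘ Fin.natAdd r = x' by ext; simp, hW, hW']
  · rw [map_add, evalFree_rename, evalFree_rename]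
    exact add_mem (hd σ _ fun j => hg _) (hd' σ _ fun j => hg _)

lemma Lift.mul {i i' : ℕ} {a b : A} :
    Lift φ ε i a → Lift φ ε i' b → Lift φ ε (i + i') (a * b) := by
  rintro ⟨r, x, hx, W, hW, hd⟩ ⟨r', x', hx', W', hW', hd'⟩
  refine ⟨r + r', Fin.append x x', fun j => Fin.addCases (fun j => by simpa using hx j)
    (fun j => by simpa using hx' j) j,
    rename (Prod.map (Fin.castAdd r') id) W * rename (Prod.map (Fin.natAdd r) id) W', ?_,
    fun σ g hg => ?_⟩
  · rw [map_mul, evalFree_rename, evalFree_rename, show Fin.append x x' ∘ Fin.castAdd r' = x by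
      ext; simp, show Fin.append x x' ∘ Fin.natAdd r = x' by ext; simp, hW, hW']
  · rw [map_mul, evalFree_rename, evalFree_rename]
    exact mul_degId K σ (hd σ _ fun j => hg _) (hd' σ _ fun j => hg _) le_rfl

lemma Lift.gen {z : A} (hz : ε z = 0) : Lift φ ε 1 z :=
  ⟨1, fun _ => z, fun _ => hz, X (0, 0), evalFree_gen φ _ 0, fun σ g hg => by
    rw [evalFree_gen, pow_one]; exact hg 0⟩

lemma gamma_mem_degId {σ : Type} {m : ℕ} (hm : 1 ≤ m) {w : MvPolynomial σ K}
    (hw : w ∈ degId K σ ^ m) {i : ℕ} (hi : 1 ≤ i) :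
    LambdaRing.gamma i w ∈ degId K σ ^ max i m := by
  have h := (goodSer_of_mem hm hw).mem i hi
  rwa [coeff_gammaSeries] at h

lemma Lift.gammaEl (hA : IsSpecial A) (hφ : ∀ c, PowerSeries.map φ (binSer K c) = lamSeries (φ c))
    (i : ℕ) {z : A} (hz : ε z = 0) : Lift φ ε i (LambdaRing.gamma i z) := by
  rcases Nat.eq_zero_or_pos i with rfl | hi
  · rw [gamma_zero]
    simpa using (Lift.scalar (φ := φ) (ε := ε) (1 : K))
  letI := freeOps K (Fin 1)
  refine ⟨1, fun _ => z, fun _ => hz, LambdaRing.gamma i (X (0, 0)), ?_, fun σ g hg => ?_⟩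
  · rw [(commutes_evalFree φ (fun _ : Fin 1 => z) hA hφ).gamma, evalFree_gen]
  · rw [(commutes_evalFree (C : K →+* MvPolynomial σ K) g (line_special K σ)
      fun c => (line_lamSeries_C K σ c).symm).gamma, evalFree_gen]
    exact degId_le K σ (le_max_left i 1) (gamma_mem_degId le_rfl (by rw [pow_one]; exact hg 0) hi)

lemma Lift.list_prod (hA : IsSpecial A)
    (hφ : ∀ c, PowerSeries.map φ (binSer K c) = lamSeries (φ c)) (l : List (ℕ × A))
    (hl : ∀ p ∈ l, ε p.2 = 0) :
    Lift φ ε (l.map Prod.fst).sum (l.map fun p => LambdaRing.gamma p.1 p.2).prod := by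
  induction l with
  | nil => simpa using (Lift.scalar (φ := φ) (ε := ε) (1 : K))
  | cons p l ih =>
    simp only [List.map_cons, List.sum_cons, List.prod_cons]
    exact Lift.mul (Lift.gammaEl hA hφ p.1 (hl p List.mem_cons_self))
      (ih fun q hq => hl q (List.mem_cons_of_mem _ hq))

end Lift

section LiftK

variable {K : Type u} [CommRing K] [BinomialRing K] {A : Type v} [CommRing A] [LambdaOps A]
  {φ : K →+* A} {ε : A →+* K}

lemma Lift.of_section (hεφ : ∀ c, ε (φ c) = c) (z : A) : Lift φ ε 0 z := by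
  have := Lift.add (Lift.scalar (φ := φ) (ε := ε) (ε z))
    (Lift.mono (Nat.zero_le 1) (Lift.gen (φ := φ) (ε := ε) (z := z - φ (ε z)) (by simp [hεφ])))
  simpa using this

lemma Lift.of_mem (hA : IsSpecial A) (hεφ : ∀ c, ε (φ c) = c)
    (hφ : ∀ c, PowerSeries.map φ (binSer K c) = lamSeries (φ c)) {i : ℕ} {z : A}
    (hz : z ∈ gammaFil ε i) : Lift φ ε i z := by
  suffices ∀ a : A, Lift φ ε i (a * z) by simpa using this 1
  induction hz using Submodule.span_induction with
  | mem y hy =>
    obtain ⟨l, hl, hli, rfl⟩ := hy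
    intro a
    exact Lift.mono (by omega)
      (Lift.mul (Lift.of_section hεφ a) (Lift.list_prod hA hφ l hl))
  | zero => intro a; rw [mul_zero]; exact Lift.zero i
  | add y z _ _ hy hz => intro a; rw [mul_add]; exact (hy a).add (hz a)
  | smul b y _ hy => intro a; rw [smul_eq_mul, ← mul_assoc]; exact hy (a * b)

end LiftK

section Ops

variable {K : Type u} [CommRing K] [BinomialRing K] {A : Type v} [CommRing A] [LambdaOps A]
  {R : Type w} [CommRing R] {φ : K →+* A} {ε : A →+* R}

omit [BinomialRing K] in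
lemma gamma_zero_arg {B : Type*} [CommRing B] [LambdaOps B] {p : ℕ} (hp : 1 ≤ p) :
    LambdaRing.gamma p (0 : B) = 0 := by
  rw [← coeff_gammaSeries, gammaSeries_zero, PowerSeries.coeff_one, if_neg (by omega)]

lemma lam_mem_degId {σ : Type} {m : ℕ} (hm : 1 ≤ m) {w : MvPolynomial σ K}
    (hw : w ∈ degId K σ ^ m) {p : ℕ} (hp : 1 ≤ p) : LambdaOps.lam p w ∈ degId K σ ^ m := by
  rw [← coeff_lamSeries, lamSeries_eq_subst, PowerSeries.coeff_subst' hasSubst_rX]
  refine finsum_induction (fun y => y ∈ degId K σ ^ m) (zero_mem _) (fun _ _ => add_mem) fun i => ?_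
  rcases Nat.eq_zero_or_pos i with rfl | hi
  · simp [PowerSeries.coeff_one, show p ≠ 0 by omega]
  · rw [smul_eq_mul, coeff_gammaSeries]
    exact Ideal.mul_mem_right _ _
      (degId_le K σ (le_max_right i m) (gamma_mem_degId hm hw hi))

/-- The data in the line models for `z · γ^(e+1)(n)`. -/
lemma modGen_mul {r e i : ℕ} {W : MvPolynomial (Fin r × ℕ) K}
    (hd : ∀ (σ : Type) (g : Fin r → MvPolynomial σ K),
      (∀ j, g j ∈ degId K σ) → evalFree (C : K →+* MvPolynomial σ K) g W ∈ degId K σ ^ i) (d N : ℕ) :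
    letI := freeOps K (Option (Fin r))
    evalFree (C : K →+* MvPolynomial (ModVar d r N) K) (modGen K d r N)
        (rename (Prod.map some id) W * LambdaRing.gamma (e + 1) (X (none, 0))) ∈
      degId K (ModVar d r N) ^ (i + (e + 1)) ∧
    (d ≤ e → evalFree (C : K →+* MvPolynomial (ModVar d r N) K) (modGen K d r N)
        (rename (Prod.map some id) W * LambdaRing.gamma (e + 1) (X (none, 0))) = 0) := by
  letI := freeOps K (Option (Fin r))
  have hg : ∀ o, modGen K d r N o ∈ degId K (ModVar d r N) := by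
    rintro (_ | j) <;> simp only [modGen, Option.elim] <;>
      exact Submodule.sum_mem _ fun a _ => X_mem K _ _
  have hev := commutes_evalFree (C : K →+* MvPolynomial (ModVar d r N) K) (modGen K d r N)
    (line_special K _) fun c => (line_lamSeries_C K _ c).symm
  rw [map_mul, hev.gamma, evalFree_gen, evalFree_rename]
  refine ⟨mul_degId K _ (hd _ _ fun j => hg _) (degId_le K _ (le_max_left (e + 1) 1)
    (gamma_mem_degId le_rfl (by rw [pow_one]; exact hg none) (by omega))) le_rfl, fun hde => ?_⟩
  simp only [modGen, Option.elim]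
  rw [gamma_sum_X, esymm_eq_zero_of_lt d (e + 1) (by omega), map_zero, mul_zero]

variable (hA : IsSpecial A) (hφ : ∀ c, PowerSeries.map φ (binSer K c) = lamSeries (φ c))
  {e : ℕ} {n : A} (hn : ∀ k, e + 1 < k → LambdaRing.gamma k n = 0) (hnε : ε n = 0)
  {i : ℕ} {z : A}

include hA hφ hn hnε in
/-- γ^p of a multiple of the top γ. -/
theorem div_gamma (hz : Lift φ ε i z) {p : ℕ} (hp : 1 ≤ p) :
    ∃ q ∈ gammaFil ε (p - (e + 1)),
      LambdaRing.gamma p (z * LambdaRing.gamma (e + 1) n) = LambdaRing.gamma (e + 1) n * q := by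
  obtain ⟨r, x, hx, W, rfl, hd⟩ := hz
  letI := freeOps K (Option (Fin r))
  set g : Option (Fin r) → A := fun o => o.elim n x with hg
  set u := rename (Prod.map some id) W *
    LambdaRing.gamma (e + 1) (X (none, 0) : MvPolynomial (Option (Fin r) × ℕ) K) with hu
  have hev := commutes_evalFree φ g hA hφ
  obtain ⟨q, hq, heq⟩ := div_transfer φ ε g (by rintro (_ | j) <;> simp [hg, hnε, hx]) hn
    (LambdaRing.gamma p u) (p - (e + 1))
    (fun N => by
      rw [(commutes_evalFree _ _ (line_special K _) fun c => (line_lamSeries_C K _ c).symm).gamma,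
        (modGen_mul hd e N).2 le_rfl, gamma_zero_arg hp])
    (fun N => by
      rw [(commutes_evalFree _ _ (line_special K _) fun c => (line_lamSeries_C K _ c).symm).gamma]
      exact degId_le K _ (by omega) (gamma_mem_degId (by omega) (modGen_mul hd (e + 1) N).1 hp))
  refine ⟨q, hq, ?_⟩
  rw [hev.gamma, hu, map_mul, hev.gamma, evalFree_gen, evalFree_rename] at heq
  exact heq

include hA hφ hn hnε in
/-- The leading term of γ^(e+1+i) of a multiple of the top γ. -/
theorem div_lead (hz : Lift φ ε i z) :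
    ∃ q ∈ gammaFil ε (i + 1),
      LambdaRing.gamma (e + 1 + i) (z * LambdaRing.gamma (e + 1) n) -
        leadC A (e + 1 + i) * (z * LambdaRing.gamma (e + 1) n) =
          LambdaRing.gamma (e + 1) n * q := by
  obtain ⟨r, x, hx, W, rfl, hd⟩ := hz
  letI := freeOps K (Option (Fin r))
  set g : Option (Fin r) → A := fun o => o.elim n x with hg
  set u := rename (Prod.map some id) W *
    LambdaRing.gamma (e + 1) (X (none, 0) : MvPolynomial (Option (Fin r) × ℕ) K) with hu
  have hev := commutes_evalFree φ g hA hφ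
  obtain ⟨q, hq, heq⟩ := div_transfer φ ε g (by rintro (_ | j) <;> simp [hg, hnε, hx]) hn
    (LambdaRing.gamma (e + 1 + i) u - leadC _ (e + 1 + i) * u) (i + 1)
    (fun N => by
      rw [map_sub, map_mul,
        (commutes_evalFree _ _ (line_special K _) fun c => (line_lamSeries_C K _ c).symm).gamma,
        (modGen_mul hd e N).2 le_rfl, gamma_zero_arg (by omega), mul_zero, sub_zero])
    (fun N => by
      rw [map_sub, map_mul, map_leadC,
        (commutes_evalFree _ _ (line_special K _) fun c => (line_lamSeries_C K _ c).symm).gamma,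
        ← coeff_gammaSeries]
      refine degId_le K _ (by omega)
        (goodSer_of_mem (m := e + 1 + i) (by omega) ?_).lead
      exact degId_le K _ (by omega) (modGen_mul hd (e + 1) N).1)
  refine ⟨q, hq, ?_⟩
  rw [map_sub, map_mul, map_leadC, hev.gamma, hu, map_mul, hev.gamma, evalFree_gen,
    evalFree_rename] at heq
  exact heq

include hA hφ hn hnε in
/-- λ^p of a multiple of the top γ. -/
theorem div_lam (hz : Lift φ ε 0 z) {p : ℕ} (hp : 1 ≤ p) :
    LambdaRing.gamma (e + 1) n ∣ LambdaOps.lam p (z * LambdaRing.gamma (e + 1) n) := by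
  obtain ⟨r, x, hx, W, rfl, hd⟩ := hz
  letI := freeOps K (Option (Fin r))
  set g : Option (Fin r) → A := fun o => o.elim n x with hg
  set u := rename (Prod.map some id) W *
    LambdaRing.gamma (e + 1) (X (none, 0) : MvPolynomial (Option (Fin r) × ℕ) K) with hu
  have hev := commutes_evalFree φ g hA hφ
  obtain ⟨q, -, heq⟩ := div_transfer φ ε g (by rintro (_ | j) <;> simp [hg, hnε, hx]) hn
    (LambdaOps.lam p u) 0
    (fun N => by
      rw [Commutes.lam (commutes_evalFree _ _ (line_special K _) fun c => (line_lamSeries_C K _ c).symm),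
        (modGen_mul hd e N).2 le_rfl, lam_zero_of_pos hp])
    (fun N => by
      rw [Commutes.lam (commutes_evalFree _ _ (line_special K _) fun c => (line_lamSeries_C K _ c).symm)]
      exact lam_mem_degId (by omega) (degId_le K _ (by omega) (modGen_mul hd (e + 1) N).1) hp)
  refine ⟨q, ?_⟩
  rw [Commutes.lam hev, hu, map_mul, hev.gamma, evalFree_gen, evalFree_rename] at heq
  exact heq

end Ops

section Alt

variable {A : Type v} [CommRing A] [LambdaOps A]

open PowerSeries in
lemma gamma_sub_natCast (h1 : ∀ k, 2 ≤ k → LambdaOps.lam k (1 : A) = 0) {d : ℕ} {N : A}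
    (hN : ∀ k, d < k → LambdaOps.lam k N = 0) :
    (∀ k, d < k → LambdaRing.gamma k (N - (d : A)) = 0) ∧
      LambdaRing.gamma d (N - (d : A)) =
        (-1) ^ d * ∑ i ∈ range (d + 1), (-1 : A) ^ i * LambdaOps.lam i N := by
  have hlam : lamSeries N = ∑ i ∈ range (d + 1),
      PowerSeries.C (LambdaOps.lam i N) * PowerSeries.X ^ i := by
    ext k
    simp only [map_sum, coeff_C_mul_X_pow, coeff_lamSeries, sum_ite_eq, mem_range]
    split_ifs with h
    · rfl
    · exact hN k (by omega)
  have hgN : gammaSeries N = ∑ i ∈ range (d + 1),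
      PowerSeries.C (LambdaOps.lam i N) * sX ^ i := by
    rw [gammaSeries_eq_subst, hlam, ← coe_substAlgHom hasSubst_sX, map_sum]
    refine sum_congr rfl fun i _ => ?_
    rw [map_mul, map_pow, substAlgHom_X hasSubst_sX, coe_substAlgHom, subst_C]
    rfl
  have hs : (1 + sX (K := A)) * (1 - PowerSeries.X) = 1 := by
    rw [add_mul, sX_mul]; ring
  have hgd : gammaSeries (d : A) = (1 + sX) ^ d := by
    rw [gammaSeries_eq_subst, lamSeries_natCast' h1, ← coe_substAlgHom hasSubst_sX, map_pow,
      map_add, map_one, substAlgHom_X hasSubst_sX]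
  have h : gammaSeries (N - (d : A)) = ∑ i ∈ range (d + 1),
      PowerSeries.C (LambdaOps.lam i N) * (PowerSeries.X ^ i * (1 - PowerSeries.X) ^ (d - i)) := by
    calc gammaSeries (N - (d : A))
        = gammaSeries (N - (d : A)) * ((1 + sX) * (1 - PowerSeries.X)) ^ d := by
          rw [hs, one_pow, mul_one]
      _ = gammaSeries N * (1 - PowerSeries.X) ^ d := by
          rw [mul_pow, ← mul_assoc, ← hgd, ← gammaSeries_add, sub_add_cancel]
      _ = _ := by
          rw [hgN, sum_mul]
          refine sum_congr rfl fun i hi => ?_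
          rw [mem_range] at hi
          rw [mul_assoc]
          congr 1
          conv_lhs => rw [show d = i + (d - i) by omega, pow_add]
          rw [← mul_assoc, ← mul_pow, sX_mul]
  have hcoe : ∀ n j : ℕ, PowerSeries.coeff j ((1 - PowerSeries.X : PowerSeries A) ^ n) =
      (-1) ^ j * (n.choose j : A) := by
    intro n j
    rw [show (1 - PowerSeries.X : PowerSeries A) =
        PowerSeries.rescale (-1 : A) ((1 + Polynomial.X : Polynomial A) : PowerSeries A) by
      simp [rescale_X]; ring,
      ← map_pow, ← Polynomial.coe_pow, PowerSeries.coeff_rescale, Polynomial.coeff_coe,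
      Polynomial.coeff_one_add_X_pow]
  refine ⟨fun k hk => ?_, ?_⟩
  · rw [← coeff_gammaSeries, h, map_sum]
    refine sum_eq_zero fun i hi => ?_
    rw [mem_range] at hi
    rw [PowerSeries.coeff_C_mul, coeff_X_pow_mul', if_pos (by omega), hcoe,
      Nat.choose_eq_zero_of_lt (by omega), Nat.cast_zero, mul_zero, mul_zero]
  · rw [← coeff_gammaSeries, h, map_sum, mul_sum]
    refine sum_congr rfl fun i hi => ?_
    rw [mem_range] at hi
    rw [PowerSeries.coeff_C_mul, coeff_X_pow_mul', if_pos (by omega), hcoe, Nat.choose_self,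
      Nat.cast_one, mul_one, ← mul_assoc, ← pow_add, mul_comm]
    congr 1
    rw [show d + i = (d - i) + 2 * i by omega, pow_add, pow_mul]
    simp

lemma lamSeries_intCast_of (h1 : ∀ k, 2 ≤ k → LambdaOps.lam k (1 : A) = 0) (c : ℤ) :
    PowerSeries.map (Int.castRingHom A) (binSer ℤ c) = lamSeries (Int.castRingHom A c) := by
  have hadd : ∀ a b : ℤ, binSer ℤ (a + b) = binSer ℤ a * binSer ℤ b := fun a b => by
    ext n
    simp only [binSer, PowerSeries.coeff_mk, PowerSeries.coeff_mul,
      Ring.add_choose_eq n (Commute.all a b)]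
  have hnat : ∀ n : ℕ, lamSeries (n : A) = PowerSeries.map (Int.castRingHom A) (binSer ℤ (n : ℤ)) :=
    fun n => by
    rw [lamSeries_natCast' h1,
      show ((1 + PowerSeries.X : PowerSeries A) ^ n) =
        (((1 + Polynomial.X) ^ n : Polynomial A) : PowerSeries A) by simp]
    ext i
    rw [Polynomial.coeff_coe, Polynomial.coeff_one_add_X_pow, PowerSeries.coeff_map, binSer,
      PowerSeries.coeff_mk, Ring.choose_natCast]
    simp
  obtain ⟨n, rfl | rfl⟩ := c.eq_nat_or_neg
  · simp [hnat]
  · rw [eq_intCast, Int.cast_neg, Int.cast_natCast]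
    apply (isUnit_lamSeries (n : A)).mul_left_cancel
    rw [← lamSeries_add, add_neg_cancel, lamSeries_zero, hnat, ← map_mul, ← hadd, add_neg_cancel,
      show binSer ℤ (0 : ℤ) = 1 by
        ext i; cases i <;> simp [binSer, PowerSeries.coeff_one, Ring.choose_zero_succ],
      map_one]

lemma lamSeries_algebraMap_of {K : Type u} [CommRing K] [LambdaOps K] [BinomialRing K]
    [Algebra K A] (hKb : IsBinomial K) (hKA : IsLambdaAlg K A) (c : K) :
    PowerSeries.map (algebraMap K A) (binSer K c) = lamSeries (algebraMap K A c) := by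
  ext m
  rw [PowerSeries.coeff_map, coeff_lamSeries, ← hKA m c, hKb m c, binSer, PowerSeries.coeff_mk]

end Alt

end Groth.Agent.H27Lambda
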