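import Groth.Agent.H27Lambda.Transfer

/-! Divisibility by the top γ of an element of finite γ-dimension, via the line model. -/

universe u v w

open Finset LambdaRing

noncomputable section

namespace Groth.Agent.H27Lambda

open MvPolynomial

attribute [local instance] lineOps

section Model

variable {K : Type u} [CommRing K] [BinomialRing K]

/-- γ of a sum of distinct line variables. -/
lemma gamma_sum_X {σ : Type} (m : ℕ) (f : Fin m → σ) (i : ℕ) :
    LambdaRing.gamma i (∑ a, X (f a) : MvPolynomial σ K) = rename f (esymm (Fin m) K i) := by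
  have h : rename f (esymm (Fin m) K i) = PowerSeries.coeff i
      (eSer ((univ : Finset (Fin m)).val.map fun a => (X (f a) : MvPolynomial σ K))) := by
    rw [coeff_eSer, ← aeval_esymm_eq_multiset_esymm (Fin m) K]
    have : rename (R := K) f = aeval (fun a => X (f a)) := by ext; simp
    rw [this]
  rw [h, ← coeff_gammaSeries, gammaSeries_sum, eSer_univ]
  congr 1
  exact Finset.prod_congr rfl fun a _ => line_gammaSeries_X K _ (f a)

lemma esymm_eq_zero_of_lt (m i : ℕ) (h : m < i) : esymm (Fin m) K i = 0 := by
  rw [esymm, powersetCard_eq_empty.2 (by simpa using h), sum_empty]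

/-- The variables of the model. -/
abbrev ModVar (d r N : ℕ) : Type := Fin d ⊕ Fin r × Fin N

/-- The generic elements of the model. -/
def modGen (K : Type u) [CommRing K] (d r N : ℕ) :
    Option (Fin r) → MvPolynomial (ModVar d r N) K :=
  fun o => o.elim (∑ a : Fin d, X (Sum.inl a)) fun j => ∑ a : Fin N, X (Sum.inr (j, a))

/-- Evaluation in γ-coordinates on the model variables. -/
def evalMod {A : Type v} [CommRing A] [LambdaOps A] (φ : K →+* A) {d r : ℕ} (N : ℕ)
    (g : Option (Fin r) → A) : MvPolynomial (ModVar d r N) K →+* A :=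
  eval₂Hom φ (Sum.elim (fun k => LambdaRing.gamma ((k : ℕ) + 1) (g none))
    fun q => LambdaRing.gamma ((q.2 : ℕ) + 1) (g (some q.1)))

/-- The symmetric substitution. -/
def modHom (K : Type u) [CommRing K] (d r N : ℕ) :
    MvPolynomial (ModVar d r N) K →ₐ[K] MvPolynomial (ModVar d r N) K :=
  aeval (Sum.elim (fun k : Fin d => rename Sum.inl (esymm (Fin d) K ((k : ℕ) + 1)))
    fun q : Fin r × Fin N =>
      rename (fun a => Sum.inr (q.1, a)) (esymm (Fin N) K ((q.2 : ℕ) + 1)))

lemma evalMod_modGen (d r N : ℕ) (P : MvPolynomial (ModVar d r N) K) :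
    evalMod (C : K →+* MvPolynomial (ModVar d r N) K) N (modGen K d r N) P = modHom K d r N P := by
  rw [evalMod, modHom, aeval_def, algebraMap_eq, coe_eval₂Hom]
  congr 1
  funext x
  rcases x with k | q
  · simpa [modGen] using gamma_sum_X (K := K) d (Sum.inl : Fin d → ModVar d r N) ((k : ℕ) + 1)
  · simpa [modGen] using
      gamma_sum_X (K := K) N (fun a => (Sum.inr (q.1, a) : ModVar d r N)) ((q.2 : ℕ) + 1)

omit [BinomialRing K] in
lemma modHom_injective (d r N : ℕ) : Function.Injective (modHom K d r N) := by
  have key : ∀ P, sumAlgEquiv K (Fin d) (Fin r × Fin N) (modHom K d r N P) =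
      esHom (MvPolynomial (Fin r × Fin N) K) d
        (MvPolynomial.map (eMulti K r N).toRingHom (sumAlgEquiv K (Fin d) (Fin r × Fin N) P)) := by
    intro P
    induction P using MvPolynomial.induction_on with
    | C a => simp [modHom, eMulti]
    | add p q hp hq => simp only [map_add, hp, hq]
    | mul_X p x hp =>
      simp only [map_mul, hp]
      congr 1
      rcases x with k | q
      · have h := AlgHom.congr_fun (sumAlgEquiv_comp_rename_inl (R := K) (S₁ := Fin d)
          (S₂ := Fin r × Fin N)) (esymm (Fin d) K ((k : ℕ) + 1))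
        simp only [AlgHom.comp_apply] at h
        simp only [modHom, aeval_X, Sum.elim_inl, sumAlgEquiv_X_inl, map_X]
        exact h.trans (map_esymm (Fin d) K _ _)
      · have h := AlgHom.congr_fun (sumAlgEquiv_comp_rename_inr (R := K) (S₁ := Fin d)
          (S₂ := Fin r × Fin N))
          (rename (fun a => (q.1, a)) (esymm (Fin N) K ((q.2 : ℕ) + 1)))
        simp only [AlgHom.comp_apply, rename_rename] at h
        simp only [modHom, aeval_X, Sum.elim_inr, sumAlgEquiv_X_inr, map_C]
        exact h.trans (by simp [eMulti])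
  intro p q h
  have h' := congrArg (sumAlgEquiv K (Fin d) (Fin r × Fin N)) h
  rw [key, key] at h'
  exact (sumAlgEquiv K (Fin d) (Fin r × Fin N)).injective
    (MvPolynomial.map_injective _ (eMulti_injective K r N) (esHom_injective d h'))

end Model

section Main

variable {K : Type u} [CommRing K] [BinomialRing K]

/-- The basic divisibility: kill on d lines and degree on d+1 lines gives divisibility by γ^(d+1). -/
theorem div_transfer {A : Type v} [CommRing A] [LambdaOps A] {R : Type w} [CommRing R]
    (φ : K →+* A) (ε : A →+* R) {e r : ℕ} (g : Option (Fin r) → A) (hg : ∀ o, ε (g o) = 0)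
    (hn : ∀ k, e + 1 < k → LambdaRing.gamma k (g none) = 0)
    (y : MvPolynomial (Option (Fin r) × ℕ) K) (s : ℕ)
    (h0 : ∀ N, evalFree (C : K →+* MvPolynomial (ModVar e r N) K) (modGen K e r N) y = 0)
    (h1 : ∀ N, evalFree (C : K →+* MvPolynomial (ModVar (e + 1) r N) K) (modGen K (e + 1) r N) y ∈
      degId K (ModVar (e + 1) r N) ^ (s + (e + 1))) :
    ∃ q ∈ gammaFil ε s, evalFree φ g y = LambdaRing.gamma (e + 1) (g none) * q := by
  classical
  set P := toGamma y with hP
  set N := (P.vars.sup fun q => q.2) + 1 with hN
  set π : Option (Fin r) × ℕ → MvPolynomial (ModVar (e + 1) r N) K := fun q =>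
    q.1.elim (if h : q.2 < e + 1 then X (Sum.inl ⟨q.2, h⟩) else 0)
      fun j => if h : q.2 < N then X (Sum.inr (j, ⟨q.2, h⟩)) else 0 with hπ
  set P' := eval₂Hom C π P with hP'
  have hmain : evalFree φ g y = evalMod φ N g P' := by
    rw [← evalGamma_toGamma, ← hP]
    rw [hP', ← RingHom.comp_apply (evalMod φ N g) (eval₂Hom C π)]
    have : (evalMod φ N g).comp (eval₂Hom C π) =
        eval₂Hom φ (fun q => evalMod φ N g (π q)) := by
      refine ringHom_ext (fun c => by simp [evalMod]) fun q => by simp
    rw [this, evalGamma]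
    refine eval₂Hom_congr' rfl (fun q hq _ => ?_) rfl
    obtain ⟨o, k⟩ := q
    rcases o with - | j
    · by_cases hk : k < e + 1
      · simp [hπ, hk, Nat.le_of_lt_succ hk, evalMod]
      · simp only [hπ, Option.elim, dif_neg hk, map_zero]
        exact hn (k + 1) (by omega)
    · have hk : k < N := by
        have : k ≤ P.vars.sup fun q => q.2 :=
          Finset.le_sup (f := fun q : Option (Fin r) × ℕ => q.2) hq
        omega
      simp [hπ, hk, evalMod]
  have hgam : ∀ d k, d < k → LambdaRing.gamma k (modGen K d r N none) = 0 := by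
    intro d k hk
    simp only [modGen, Option.elim]
    rw [gamma_sum_X, esymm_eq_zero_of_lt d k hk, map_zero]
  -- P' maps into the right degree, and vanishes on e lines
  have hE1 : modHom K (e + 1) r N P' ∈ degId K (ModVar (e + 1) r N) ^ (s + (e + 1)) := by
    have h := h1 N
    rw [← evalGamma_toGamma, ← hP] at h
    rw [← evalMod_modGen]
    convert h using 1
    rw [hP', ← RingHom.comp_apply]
    have : (evalMod C N (modGen K (e + 1) r N)).comp (eval₂Hom C π) =
        eval₂Hom C (fun q => evalMod C N (modGen K (e + 1) r N) (π q)) := by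
      refine ringHom_ext (fun c => by simp [evalMod]) fun q => by simp
    rw [this, evalGamma]
    refine eval₂Hom_congr' rfl (fun q hq _ => ?_) rfl
    obtain ⟨o, k⟩ := q
    rcases o with - | j
    · by_cases hk : k < e + 1
      · simp [hπ, hk, Nat.le_of_lt_succ hk, evalMod]
      · simp only [hπ, Option.elim, dif_neg hk, map_zero]
        exact (hgam _ (k + 1) (by omega)).symm
    · have hk : k < N := by
        have : k ≤ P.vars.sup fun q => q.2 :=
          Finset.le_sup (f := fun q : Option (Fin r) × ℕ => q.2) hq
        omega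
      simp [hπ, hk, evalMod]
  set top : ModVar (e + 1) r N := Sum.inl (Fin.last e) with htop
  set kill : MvPolynomial (ModVar (e + 1) r N) K →+* MvPolynomial (ModVar e r N) K :=
    eval₂Hom C (Sum.elim (fun k : Fin (e + 1) => if h : (k : ℕ) < e then X (Sum.inl ⟨k, h⟩) else 0)
      fun q => X (Sum.inr q)) with hkill
  have hE0 : modHom K e r N (kill P') = 0 := by
    have h := h0 N
    rw [← evalGamma_toGamma, ← hP] at h
    rw [← evalMod_modGen, ← h, hP', ← RingHom.comp_apply, ← RingHom.comp_apply]
    have : ((evalMod C N (modGen K e r N)).comp kill).comp (eval₂Hom C π) =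
        eval₂Hom C (fun q => evalMod C N (modGen K e r N) (kill (π q))) := by
      refine ringHom_ext (fun c => by simp [evalMod, hkill]) fun q => by simp
    rw [this, evalGamma]
    refine eval₂Hom_congr' rfl (fun q hq _ => ?_) rfl
    obtain ⟨o, k⟩ := q
    rcases o with - | j
    · by_cases hk : k < e + 1
      · by_cases hk' : k < e
        · simp [hπ, hk, Nat.le_of_lt_succ hk, hk', evalMod, hkill]
        · simp only [hπ, hkill, Option.elim, dif_pos hk, coe_eval₂Hom, eval₂_X, Sum.elim_inl,
            dif_neg hk', map_zero]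
          exact (hgam _ (k + 1) (by omega)).symm
      · simp only [hπ, Option.elim, dif_neg hk, map_zero]
        exact (hgam _ (k + 1) (by omega)).symm
    · have hk : k < N := by
        have : k ≤ P.vars.sup fun q => q.2 :=
          Finset.le_sup (f := fun q : Option (Fin r) × ℕ => q.2) hq
        omega
      simp [hπ, hk, evalMod, hkill]
  have hk0 : kill P' = 0 := modHom_injective e r N (hE0.trans (map_zero _).symm)
  obtain ⟨Q, hQ⟩ : X top ∣ P' := by
    rw [← Ideal.mem_span_singleton, ← Ideal.Quotient.eq_zero_iff_mem]
    set mk := Ideal.Quotient.mk (Ideal.span {(X top : MvPolynomial (ModVar (e + 1) r N) K)})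
    have : mk = (mk.comp (rename (Sum.map Fin.castSucc id)).toRingHom).comp kill := by
      refine ringHom_ext (fun c => by simp [hkill]) fun x => ?_
      rcases x with k | q
      · by_cases hk : (k : ℕ) < e
        · have : (Fin.castSucc (⟨k, hk⟩ : Fin e)) = k := Fin.ext rfl
          simp [hkill, hk, this]
        · have hke : k = Fin.last e := Fin.ext (by simp; omega)
          subst hke
          simp [hkill, mk, Ideal.Quotient.eq_zero_iff_mem, Ideal.mem_span_singleton, htop]
      · simp [hkill]
    rw [this]
    simp [hk0]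
  -- degree of the quotient
  have hX : modHom K (e + 1) r N (X top) =
      monomial (∑ a : Fin (e + 1), Finsupp.single (Sum.inl a : ModVar (e + 1) r N) 1) (1 : K) := by
    rw [modHom, aeval_X, htop, Sum.elim_inl, Fin.val_last, esymm,
      powersetCard_eq_filter]
    rw [Finset.sum_eq_single (univ : Finset (Fin (e + 1))) (fun t ht hne => absurd
        (Finset.eq_univ_of_card t (by simpa using (mem_filter.1 ht).2)) hne) (by simp),
      map_prod, monomial_sum_one]
    exact Finset.prod_congr rfl fun a _ => by simp [X, rename_monomial]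
  have hQd : modHom K (e + 1) r N Q ∈ degId K (ModVar (e + 1) r N) ^ s := by
    rw [mem_pow_idealOfVars_iff']
    intro v hv
    rw [hQ, map_mul, hX, mem_pow_idealOfVars_iff'] at hE1
    have := hE1 ((∑ a : Fin (e + 1), Finsupp.single (Sum.inl a : ModVar (e + 1) r N) 1) + v) (by
      rw [map_add, map_sum]
      simp only [Finsupp.degree_single, sum_const, card_univ, Fintype.card_fin, smul_eq_mul, mul_one]
      omega)
    rwa [coeff_monomial_mul, one_mul] at this
  set w : ModVar (e + 1) r N → ℕ :=
    Sum.elim (fun k => (k : ℕ) + 1) (fun q => (q.2 : ℕ) + 1) with hw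
  have hwd : ∀ d ∈ Q.support, s ≤ Finsupp.weight w d := by
    intro d hd
    by_contra hlt
    push Not at hlt
    have hcomp : weightedHomogeneousComponent w (Finsupp.weight w d) Q = 0 := by
      apply modHom_injective (e + 1) r N
      rw [map_zero, modHom, ← component_aeval (w' := fun _ : ModVar (e + 1) r N => (1 : ℕ))]
      · ext c
        rw [coeff_weightedHomogeneousComponent, coeff_zero]
        split_ifs with he
        · rw [mem_pow_idealOfVars_iff'] at hQd
          refine hQd c ?_
          rw [Finsupp.degree_eq_weight_one]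
          have : Finsupp.weight (fun _ : ModVar (e + 1) r N => (1 : ℕ)) c = Finsupp.weight w d := he
          simpa [Pi.one_def] using this ▸ hlt
        · rfl
      · rintro (k | q)
        · simpa [hw] using isWH_esymm (R := K) (w := fun _ : ModVar (e + 1) r N => (1 : ℕ))
            (c := (1 : ℕ)) (f := (Sum.inl : Fin (e + 1) → ModVar (e + 1) r N)) (fun _ => rfl)
            ((k : ℕ) + 1)
        · simpa [hw] using isWH_esymm (R := K) (w := fun _ : ModVar (e + 1) r N => (1 : ℕ))
            (c := (1 : ℕ)) (f := fun a => (Sum.inr (q.1, a) : ModVar (e + 1) r N)) (fun _ => rfl)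
            ((q.2 : ℕ) + 1)
    have := congrArg (coeff d) hcomp
    rw [coeff_weightedHomogeneousComponent, if_pos rfl, coeff_zero] at this
    exact mem_support_iff.1 hd this
  refine ⟨evalMod φ N g Q, ?_, ?_⟩
  · rw [evalMod, coe_eval₂Hom, Q.as_sum, eval₂_sum]
    refine Submodule.sum_mem _ fun d hd => ?_
    rw [eval₂_monomial]
    refine Ideal.mul_mem_left _ _ (gammaFil_antitone ε (hwd d hd) ?_)
    rw [Finsupp.weight_apply]
    refine gammaFil_prod_mem ε d.support _ (fun q => d q • w q) fun q _ => ?_
    rcases q with k | q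
    · exact gammaFil_pow_mem ε (gamma_mem_gammaFil ε _ (hg none)) (d (Sum.inl k))
    · exact gammaFil_pow_mem ε (gamma_mem_gammaFil ε _ (hg _)) (d (Sum.inr q))
  · rw [hmain, hQ, map_mul]
    simp [evalMod, htop]

end Main

end Groth.Agent.H27Lambda
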