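import Groth.Agent.H27Lambda.Transfer

/-! ψ^j acts as j^m on the m-th graded piece of the γ-filtration. -/

universe u v

open Finset LambdaRing

noncomputable section

namespace Groth.Agent.H27Lambda

/-- w has degree ≥ m and ψ w ≡ J^m w. -/
structure ShiftEl {R : Type u} [CommRing R] (I : ℕ → Ideal R) (ψ : R →+* R) (J : R) (m : ℕ)
    (w : R) : Prop where
  mem : w ∈ I m
  shift : ψ w - J ^ m * w ∈ I (m + 1)

section

variable {R : Type u} [CommRing R] {I : ℕ → Ideal R} {ψ : R →+* R} {J : R}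

lemma ShiftEl.psi_mem (hI : ∀ a, I (a + 1) ≤ I a) {m : ℕ} {w : R} (h : ShiftEl I ψ J m w) :
    ψ w ∈ I m := by
  have := add_mem (hI m h.shift) (Ideal.mul_mem_left _ (J ^ m) h.mem)
  simpa using this

lemma ShiftEl.add {m : ℕ} {a b : R} (ha : ShiftEl I ψ J m a) (hb : ShiftEl I ψ J m b) :
    ShiftEl I ψ J m (a + b) := by
  refine ⟨add_mem ha.mem hb.mem, ?_⟩
  have := add_mem ha.shift hb.shift
  convert this using 1
  rw [map_add]; ring

lemma ShiftEl.zero {m : ℕ} : ShiftEl I ψ J m 0 := ⟨zero_mem _, by simp⟩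

lemma ShiftEl.mul (hI : ∀ a, I (a + 1) ≤ I a)
    (hmul : ∀ a b x y, x ∈ I a → y ∈ I b → x * y ∈ I (a + b))
    {a b : ℕ} {x y : R} (hx : ShiftEl I ψ J a x) (hy : ShiftEl I ψ J b y) :
    ShiftEl I ψ J (a + b) (x * y) := by
  refine ⟨hmul a b x y hx.mem hy.mem, ?_⟩
  have h1 := hmul (a + 1) b _ _ hx.shift (hy.psi_mem hI)
  have h2 := hmul a (b + 1) _ _ (Ideal.mul_mem_left _ (J ^ a) hx.mem) hy.shift
  rw [show a + 1 + b = a + b + 1 by omega] at h1
  rw [show a + (b + 1) = a + b + 1 by omega] at h2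
  have := add_mem h1 h2
  convert this using 1
  rw [map_mul, pow_add]; ring

lemma ShiftEl.succ (hI : ∀ a, I (a + 1) ≤ I a) {m : ℕ} {w : R} (h : ShiftEl I ψ J (m + 1) w) :
    ShiftEl I ψ J m w :=
  ⟨hI m h.mem, sub_mem (h.psi_mem hI) (Ideal.mul_mem_left _ _ h.mem)⟩

lemma ShiftEl.of_le (hI : ∀ a, I (a + 1) ≤ I a) {m n : ℕ} (hn : m ≤ n) {w : R}
    (h : ShiftEl I ψ J n w) : ShiftEl I ψ J m w := by
  induction hn with
  | refl => exact h
  | step hn ih => exact ih (h.succ hI)

end

attribute [local instance] lineOps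

section Line

open MvPolynomial

variable (K : Type u) [CommRing K] [BinomialRing K] (σ : Type v)

lemma line_shift (k : ℕ) {m : ℕ} {w : MvPolynomial σ K} (hw : w ∈ degId K σ ^ m) :
    ghost k (lamSeries w) - ((k + 1 : ℕ) : MvPolynomial σ K) ^ m * w ∈ degId K σ ^ (m + 1) := by
  classical
  rw [(lineData K σ).ghost_lamSeries]
  have hI : ∀ a, degId K σ ^ (a + 1) ≤ degId K σ ^ a := fun a => degId_le K σ (Nat.le_succ a)
  have hmul : ∀ (a b : ℕ) (x y : MvPolynomial σ K), x ∈ degId K σ ^ a → y ∈ degId K σ ^ b →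
      x * y ∈ degId K σ ^ (a + b) := fun a b x y hx hy => mul_degId K σ hx hy le_rfl
  suffices h : ShiftEl (fun a => degId K σ ^ a) ((lineData K σ).ψ k)
      ((k + 1 : ℕ) : MvPolynomial σ K) m w from h.shift
  have hC : ∀ c : K, ShiftEl (fun a => degId K σ ^ a) ((lineData K σ).ψ k)
      ((k + 1 : ℕ) : MvPolynomial σ K) 0 (C c) := fun c => ⟨by simp, by simp [lineData]⟩
  have hX : ∀ a, ShiftEl (fun a => degId K σ ^ a) ((lineData K σ).ψ k)
      ((k + 1 : ℕ) : MvPolynomial σ K) 1 (X a) := by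
    intro a
    refine ⟨by rw [pow_one]; exact X_mem K σ a, ?_⟩
    show aeval (fun a : σ => (1 + X a) ^ (k + 1) - 1) (X a) - _ ∈ _
    rw [aeval_X, add_comm (1 : MvPolynomial σ K), add_pow, sum_range_succ', sum_range_succ']
    simp only [pow_zero, one_mul, one_pow, mul_one, Nat.choose_zero_right, Nat.cast_one,
      Nat.choose_one_right, zero_add, pow_one, add_sub_cancel_right]
    rw [mul_comm (X a), add_sub_cancel_right]
    refine Submodule.sum_mem _ fun i _ => Ideal.mul_mem_right _ _ ?_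
    exact degId_le K σ (show 1 + 1 ≤ i + 1 + 1 by omega) (Ideal.pow_mem_pow (X_mem K σ a) _)
  have hmon : ∀ (d : ℕ) (v : σ →₀ ℕ), v.degree = d →
      ShiftEl (fun a => degId K σ ^ a) ((lineData K σ).ψ k)
        ((k + 1 : ℕ) : MvPolynomial σ K) d (monomial v (1 : K)) := by
    intro d
    induction d with
    | zero =>
      intro v hv
      rw [(Finsupp.degree_eq_zero_iff _).1 hv]
      simpa using hC 1
    | succ d ih =>
      intro v hv
      obtain ⟨a, ha⟩ : v.support.Nonempty := by
        rw [Finsupp.support_nonempty_iff]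
        rintro rfl
        simp at hv
      have hle : Finsupp.single a 1 ≤ v := Finsupp.single_le_iff.2
        (Nat.one_le_iff_ne_zero.2 (Finsupp.mem_support_iff.1 ha))
      obtain ⟨e, rfl⟩ := le_iff_exists_add.1 hle
      have he : e.degree = d := by rw [map_add, Finsupp.degree_single] at hv; omega
      rw [show monomial (Finsupp.single a 1 + e) (1 : K) = monomial e (1 : K) * X a by
        rw [X, monomial_mul, mul_one, add_comm]]
      exact (ih e he).mul hI hmul (hX a)
  rw [w.as_sum]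
  rw [mem_pow_idealOfVars_iff] at hw
  refine Finset.sum_induction _ _ (fun a b => ShiftEl.add) ShiftEl.zero fun v hv => ?_
  rw [show monomial v (coeff v w) = C (coeff v w) * monomial v (1 : K) by
    rw [C_mul_monomial, mul_one]]
  have := (hC (coeff v w)).mul hI hmul (hmon v.degree v rfl)
  exact this.of_le hI (by simpa using hw v hv)

end Line

section Main

variable {K : Type u} [CommRing K] [BinomialRing K] {A : Type v} [CommRing A] [LambdaOps A]

open MvPolynomial in
theorem shift_gamma (hA : IsSpecial A) (φ : K →+* A) (ε : A →+* K)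
    (hφ : ∀ c, PowerSeries.map φ (binSer K c) = lamSeries (φ c)) (k r : ℕ) {x : A}
    (hx : ε x = 0) :
    ghost k (lamSeries (LambdaRing.gamma r x)) - ((k + 1 : ℕ) : A) ^ r * LambdaRing.gamma r x ∈
      gammaFil ε (r + 1) := by
  letI := freeOps K (Fin 1)
  set y : MvPolynomial (Fin 1 × ℕ) K := LambdaRing.gamma r (X (0, 0)) with hy
  have hev := commutes_evalFree φ (fun _ : Fin 1 => x) hA hφ
  have hyA : evalFree φ (fun _ : Fin 1 => x) y = LambdaRing.gamma r x := by
    rw [hy, Commutes.gamma hev, evalFree_gen]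
  rw [← hyA, ← hev y, ← map_ghost _ (constantCoeff_lamSeries y),
    ← map_natCast (evalFree φ fun _ : Fin 1 => x), ← map_pow, ← map_mul, ← map_sub]
  refine mem_gammaFil_of_line φ ε _ (fun _ => hx) _ _ fun N => ?_
  letI := lineOps K (Fin 1 × Fin N)
  have hL := evalFree_line_commutes (K := K) (r := 1) N
  rw [map_sub, map_mul, map_pow, map_natCast, map_ghost _ (constantCoeff_lamSeries y), hL y]
  refine line_shift K _ k ?_
  rw [hy, Commutes.gamma hL, evalFree_gen, ← coeff_gammaSeries]
  rcases Nat.eq_zero_or_pos r with hr | hr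
  · subst hr; simp
  exact degId_le K _ (le_max_left _ _)
    ((goodSer_of_mem le_rfl (w := lineX K 1 N 0) (by rw [pow_one]; exact lineX_mem N 0)).mem _ hr)

/-- ψ^(k+1) z ≡ (k+1)^m z mod F^(m+1) for z ∈ F^m. -/
theorem shift_of_mem (hA : IsSpecial A) (φ : K →+* A) (ε : A →+* K)
    (hεφ : ∀ c, ε (φ c) = c) (hφ : ∀ c, PowerSeries.map φ (binSer K c) = lamSeries (φ c))
    (hε : ∀ y, PowerSeries.map ε (lamSeries y) = binSer K (ε y))
    (k : ℕ) {m : ℕ} {z : A} (hz : z ∈ gammaFil ε m) :
    ghost k (lamSeries z) - ((k + 1 : ℕ) : A) ^ m * z ∈ gammaFil ε (m + 1) := by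
  have hI : ∀ a, gammaFil ε (a + 1) ≤ gammaFil ε a := fun a => gammaFil_antitone ε (Nat.le_succ a)
  have hmul : ∀ (a b : ℕ) (x y : A), x ∈ gammaFil ε a → y ∈ gammaFil ε b →
      x * y ∈ gammaFil ε (a + b) := fun a b x y hx hy => gammaFil_mul_mem ε hx hy le_rfl
  suffices h : ∀ a : A, ShiftEl (gammaFil ε) (psiHom hA k) ((k + 1 : ℕ) : A) m (a * z) by
    have := (h 1).shift
    simpa [psiHom_apply] using this
  induction hz using Submodule.span_induction with
  | mem y hy =>
    obtain ⟨l, hl, hlm, rfl⟩ := hy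
    intro a
    have hp : ∀ l' : List (ℕ × A), (∀ p ∈ l', ε p.2 = 0) →
        ShiftEl (gammaFil ε) (psiHom hA k) ((k + 1 : ℕ) : A) (l'.map Prod.fst).sum
          (l'.map fun p => LambdaRing.gamma p.1 p.2).prod := by
      intro l'
      induction l' with
      | nil => intro _; exact ⟨by simp [gammaFil_zero], by simp⟩
      | cons p l' ih =>
        intro hl'
        simp only [List.map_cons, List.sum_cons, List.prod_cons]
        refine ShiftEl.mul hI hmul ⟨gamma_mem_gammaFil ε _ (hl' p List.mem_cons_self), ?_⟩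
          (ih fun q hq => hl' q (List.mem_cons_of_mem _ hq))
        rw [psiHom_apply]
        exact shift_gamma hA φ ε hφ k p.1 (hl' p List.mem_cons_self)
    refine ShiftEl.of_le hI (n := 0 + (l.map Prod.fst).sum) (by simpa using hlm)
      (ShiftEl.mul hI hmul ⟨by simp [gammaFil_zero], ?_⟩ (hp l hl))
    rw [pow_zero, one_mul]
    have h0 : ε (psiHom hA k a - a) = 0 := by
      rw [map_sub, psiHom_apply, map_ghost ε (constantCoeff_lamSeries a), hε, ghost_binSer, sub_self]
    simpa [gamma_one] using gamma_mem_gammaFil ε 1 h0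
  | zero => intro a; rw [mul_zero]; exact ShiftEl.zero
  | add y w _ _ hy hw => intro a; rw [mul_add]; exact (hy a).add (hw a)
  | smul b y _ hy => intro a; rw [smul_eq_mul, ← mul_assoc]; exact hy (a * b)

end Main

end Groth.Agent.H27Lambda
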