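import Groth.Agent.H27Lambda.Splitting
import Groth.Agent.H27Lambda.Shift
import Mathlib.LinearAlgebra.Eigenspace.Basic
import Mathlib.RingTheory.TensorProduct.Basic
import Mathlib.Data.Rat.Cast.Order

/-! Eigenspaces of an operator acting as q^n on the graded pieces of a finite filtration. -/

universe u v

open Finset LambdaRing TensorProduct

noncomputable section

namespace Groth.Agent.H27Lambda

/-- f acts as q^n on F n / F (n+1), and F (d+1) = 0. -/
structure FilAct {V : Type v} [AddCommGroup V] [Module ℚ V] (F : ℕ → Submodule ℚ V)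
    (f : V →ₗ[ℚ] V) (q : ℚ) (d : ℕ) : Prop where
  zero : F 0 = ⊤
  anti : Antitone F
  bot : F (d + 1) = ⊥
  act : ∀ n, ∀ v ∈ F n, f v - q ^ n • v ∈ F (n + 1)
  one_lt : 1 < q

namespace FilAct

variable {V : Type v} [AddCommGroup V] [Module ℚ V] {F : ℕ → Submodule ℚ V} {f : V →ₗ[ℚ] V}
  {q : ℚ} {d : ℕ}

lemma step (h : FilAct F f q d) {m n : ℕ} (hmn : m ≠ n) {v : V}
    (hv : v ∈ Module.End.eigenspace f (q ^ m)) (hn : v ∈ F n) : v ∈ F (n + 1) := by
  rw [Module.End.mem_eigenspace_iff] at hv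
  have := h.act n v hn
  rw [hv, ← sub_smul] at this
  refine (Submodule.smul_mem_iff _ (sub_ne_zero.2 fun e => hmn ?_)).1 this
  exact pow_right_injective₀ (lt_trans one_pos h.one_lt) h.one_lt.ne' e

lemma eigenspace_le (h : FilAct F f q d) (m : ℕ) : Module.End.eigenspace f (q ^ m) ≤ F m := by
  intro v hv
  have : ∀ n ≤ m, v ∈ F n := by
    intro n
    induction n with
    | zero => intro _; rw [h.zero]; exact Submodule.mem_top
    | succ n ih => intro hn; exact h.step (by omega) hv (ih (by omega))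
  exact this m le_rfl

lemma eigenspace_inf (h : FilAct F f q d) (m : ℕ) :
    Module.End.eigenspace f (q ^ m) ⊓ F (m + 1) = ⊥ := by
  refine eq_bot_iff.2 fun v hv => ?_
  obtain ⟨hv, hv'⟩ := Submodule.mem_inf.1 hv
  have : ∀ n, v ∈ F (m + 1 + n) := by
    intro n
    induction n with
    | zero => exact hv'
    | succ n ih => exact h.step (show m ≠ m + 1 + n by omega) hv ih
  have h2 := h.anti (show d + 1 ≤ m + 1 + (d + 1) by omega) (this (d + 1))
  rwa [h.bot] at h2

lemma le_iSup (h : FilAct F f q d) (n : ℕ) :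
    F n ≤ ⨆ m ∈ Finset.Icc n d, Module.End.eigenspace f (q ^ m) := by
  induction hk : d + 1 - n generalizing n with
  | zero =>
    have := h.anti (show d + 1 ≤ n by omega)
    rw [h.bot] at this
    exact this.trans bot_le
  | succ k ih =>
    intro y hy
    have hz : f y - q ^ n • y ∈ ⨆ m ∈ Finset.Icc (n + 1) d, Module.End.eigenspace f (q ^ m) :=
      ih (n + 1) (by omega) (h.act n y hy)
    rw [Submodule.mem_iSup_finset_iff_exists_sum] at hz
    obtain ⟨μ, hμ⟩ := hz
    set w := ∑ m ∈ Finset.Icc (n + 1) d, (q ^ m - q ^ n)⁻¹ • (μ m : V)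
    have hw : f w - q ^ n • w = f y - q ^ n • y := by
      rw [← hμ, map_sum, Finset.smul_sum, ← Finset.sum_sub_distrib]
      refine Finset.sum_congr rfl fun m hm => ?_
      rw [Finset.mem_Icc] at hm
      have hne : q ^ m - q ^ n ≠ 0 := sub_ne_zero.2 fun e => by
        have := pow_right_injective₀ (lt_trans one_pos h.one_lt) h.one_lt.ne' e
        omega
      rw [map_smul, Module.End.mem_eigenspace_iff.1 (μ m).2, smul_smul, smul_smul, ← sub_smul,
        mul_comm (q ^ n), ← mul_sub, inv_mul_cancel₀ hne, one_smul]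
    have hy' : y - w ∈ Module.End.eigenspace f (q ^ n) := by
      rw [Module.End.mem_eigenspace_iff, map_sub, smul_sub, ← sub_eq_zero, ← neg_eq_zero,
        ← sub_eq_zero.2 hw]
      abel
    rw [← sub_add_cancel y w]
    refine add_mem (Submodule.mem_iSup_of_mem n (Submodule.mem_iSup_of_mem
      (Finset.mem_Icc.2 ⟨le_rfl, by omega⟩) hy')) (Submodule.sum_mem _ fun m hm => ?_)
    rw [Finset.mem_Icc] at hm
    exact Submodule.smul_mem _ _ (Submodule.mem_iSup_of_mem m (Submodule.mem_iSup_of_mem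
      (Finset.mem_Icc.2 ⟨by omega, hm.2⟩) (μ m).2))

lemma iSup_eq_top (h : FilAct F f q d) :
    (⨆ m ∈ Finset.range (d + 1), Module.End.eigenspace f (q ^ m)) = ⊤ := by
  refine eq_top_iff.2 ?_
  rw [← h.zero]
  refine (h.le_iSup 0).trans (iSup₂_le fun m hm => ?_)
  exact le_iSup₂_of_le m (Finset.mem_range.2 (by simp [Finset.mem_Icc] at hm; omega)) le_rfl

lemma sup_eq (h : FilAct F f q d) (m : ℕ) :
    Module.End.eigenspace f (q ^ m) ⊔ F (m + 1) = F m := by
  refine le_antisymm (sup_le (h.eigenspace_le m) (h.anti (Nat.le_succ m))) ?_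
  refine (h.le_iSup m).trans (iSup₂_le fun n hn => ?_)
  rw [Finset.mem_Icc] at hn
  rcases eq_or_lt_of_le hn.1 with e | e
  · exact e ▸ le_sup_left
  · exact ((h.eigenspace_le n).trans (h.anti e)).trans le_sup_right

lemma eigenspace_le_of_comm (h : FilAct F f q d) {g : V →ₗ[ℚ] V} {r : ℚ} (h' : FilAct F g r d)
    (hc : ∀ v, f (g v) = g (f v)) (m : ℕ) :
    Module.End.eigenspace f (q ^ m) ≤ Module.End.eigenspace g (r ^ m) := by
  intro v hv
  have h1 : g v - r ^ m • v ∈ Module.End.eigenspace f (q ^ m) ⊓ F (m + 1) := by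
    refine ⟨sub_mem ?_ (Submodule.smul_mem _ _ hv), h'.act m v (h.eigenspace_le m hv)⟩
    rw [Module.End.mem_eigenspace_iff, hc, Module.End.mem_eigenspace_iff.1 hv,
      map_smul]
  rw [h.eigenspace_inf, Submodule.mem_bot, sub_eq_zero] at h1
  rwa [Module.End.mem_eigenspace_iff]

end FilAct

theorem filAct_adams {K : Type u} [CommRing K] [LambdaOps K] (P : PosStructure K)
    (hK : HasSplitting K P) (d : ℕ) (hd : gammaFiltration P (d + 1) = ⊥) (j : ℕ) (hj : 2 ≤ j)
    (Ψ : ℚ ⊗[ℤ] K →ₗ[ℚ] ℚ ⊗[ℤ] K)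
    (hΨ : ∀ x : K, Ψ (1 ⊗ₜ[ℤ] x) = 1 ⊗ₜ[ℤ] adams P j x) :
    FilAct (fun n => Submodule.span ℚ
      ((fun x : K => (1 : ℚ) ⊗ₜ[ℤ] x) '' (gammaFiltration P n : Set K))) Ψ (j : ℚ) d where
  zero := by
    refine eq_top_iff.2 fun v hv0 => ?_
    clear hv0
    induction v using TensorProduct.induction_on with
    | zero => exact zero_mem _
    | tmul a x =>
      rw [show a ⊗ₜ[ℤ] x = a • ((1 : ℚ) ⊗ₜ[ℤ] x) by
        rw [TensorProduct.smul_tmul', smul_eq_mul, mul_one]]
      exact Submodule.smul_mem _ _ (Submodule.subset_span ⟨x, by simp [gammaFiltration], rfl⟩)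
    | add a b ha hb => exact add_mem (ha) (hb)
  anti a b hab := by
    refine Submodule.span_mono (Set.image_mono fun x hx => ?_)
    rw [SetLike.mem_coe, gammaFiltration_eq] at hx ⊢
    exact gammaFil_antitone _ hab hx
  bot := by simp [hd]
  one_lt := by exact_mod_cast hj
  act n v hv := by
    induction hv using Submodule.span_induction with
    | mem y hy =>
      obtain ⟨x, hx, rfl⟩ := hy
      obtain ⟨k, rfl⟩ : ∃ k, j = k + 1 := ⟨j - 1, by omega⟩
      have hx' : adams P (k + 1) x - ((k + 1 : ℕ) : K) ^ n * x ∈ gammaFiltration P (n + 1) := by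
        rw [gammaFiltration_eq, adams_succ_eq_ghost]
        exact shift_of_mem (isSpecial_of_hasSplitting hK) (Int.castRingHom K) P.aug
          (fun c => by simp) (fun c => lamSeries_intCast P c) (fun y => lamSeries_aug P hK y) k
          ((gammaFiltration_eq P n x).1 hx)
      refine Submodule.subset_span ⟨_, hx', ?_⟩
      simp only [hΨ]
      rw [tmul_sub]
      congr 1
      rw [← Nat.cast_pow, ← Nat.cast_pow, ← nsmul_eq_mul, Nat.cast_smul_eq_nsmul, tmul_smul]
    | zero => simp
    | add a b _ _ ha hb =>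
      rw [map_add, smul_add, add_sub_add_comm]; exact add_mem ha hb
    | smul c a _ ha =>
      rw [map_smul, smul_comm, ← smul_sub]; exact Submodule.smul_mem _ c ha

end Groth.Agent.H27Lambda
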