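import Groth.Agent.H27Lambda.DivApp

/-! Comparing the γ-filtration with a multiplicative family of ideals. -/

universe u v w

open Finset LambdaRing

noncomputable section

namespace Groth.Agent.H27Lambda

open MvPolynomial

attribute [local instance] lineOps

/-- A multiplicative decreasing family of ideals. -/
structure MulFam {A : Type v} [CommRing A] (J : ℕ → Ideal A) : Prop where
  zero : J 0 = ⊤
  anti : Antitone J
  mul : ∀ m n, ∀ x ∈ J m, ∀ y ∈ J n, x * y ∈ J (m + n)

variable {A : Type v} [CommRing A]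

lemma MulFam.pow {J : ℕ → Ideal A} (hJ : MulFam J) {m : ℕ} {x : A} (hx : x ∈ J m) :
    ∀ e : ℕ, x ^ e ∈ J (e • m)
  | 0 => by simp [hJ.zero]
  | e + 1 => by rw [pow_succ, succ_nsmul]; exact hJ.mul _ _ _ (hJ.pow hx e) _ hx

lemma MulFam.prod {J : ℕ → Ideal A} (hJ : MulFam J) {ι : Type*} (s : Finset ι) (f : ι → A)
    (w : ι → ℕ) (h : ∀ i ∈ s, f i ∈ J (w i)) : ∏ i ∈ s, f i ∈ J (∑ i ∈ s, w i) := by
  classical
  induction s using Finset.induction with
  | empty => simp [hJ.zero]
  | insert a s ha ih =>
    rw [prod_insert ha, sum_insert ha]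
    exact hJ.mul _ _ _ (h a (mem_insert_self a s)) _ (ih fun i hi => h i (mem_insert_of_mem hi))

/-- All γ^k a lie in J k. -/
def GammaGood [LambdaOps A] (J : ℕ → Ideal A) (a : A) : Prop :=
  ∀ k, LambdaRing.gamma k a ∈ J k

lemma gammaFil_mulFam [LambdaOps A] {R : Type w} [CommRing R] (ε : A →+* R) :
    MulFam (gammaFil ε) :=
  ⟨gammaFil_zero ε, fun _ _ h => gammaFil_antitone ε h,
    fun _ _ _ hx _ hy => gammaFil_mul_mem ε hx hy le_rfl⟩

section Transfer

variable {K : Type u} [CommRing K] [BinomialRing K] [LambdaOps A]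

theorem mem_fam_of_line (φ : K →+* A) {J : ℕ → Ideal A} (hJ : MulFam J) {r : ℕ} (x : Fin r → A)
    (hx : ∀ j, GammaGood J (x j)) (y : MvPolynomial (Fin r × ℕ) K) (n : ℕ)
    (h : ∀ N, evalFree (C : K →+* MvPolynomial (Fin r × Fin N) K) (lineX K r N) y ∈
      degId K (Fin r × Fin N) ^ n) :
    evalFree φ x y ∈ J n := by
  classical
  rw [← evalGamma_toGamma]
  set P := toGamma y with hP
  set N := (P.vars.sup fun q => q.2) + 1 with hN
  obtain ⟨P', hP'⟩ := exists_rename_eq_of_vars_subset_range P
    (Prod.map (id : Fin r → Fin r) (Fin.val : Fin N → ℕ))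
    (Function.injective_id.prodMap Fin.val_injective) (fun q hq =>
      ⟨(q.1, ⟨q.2, by
        have : q.2 ≤ P.vars.sup fun q => q.2 := Finset.le_sup (f := fun q : Fin r × ℕ => q.2) hq
        omega⟩), rfl⟩)
  have hline : eMulti K r N P' ∈ degId K (Fin r × Fin N) ^ n := by
    have h1 := h N
    rw [← evalGamma_toGamma, ← hP, ← hP'] at h1
    convert h1 using 1
    rw [evalGamma, coe_eval₂Hom, eval₂_rename, eMulti, aeval_def, algebraMap_eq]
    congr 1
    funext q
    exact (gamma_lineX N q.1 ((q.2 : ℕ) + 1)).symm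
  set w : Fin r × Fin N → ℕ := fun q => (q.2 : ℕ) + 1 with hw
  have hwd : ∀ d ∈ P'.support, n ≤ Finsupp.weight w d := by
    intro d hd
    by_contra hlt
    push Not at hlt
    have hcomp : weightedHomogeneousComponent w (Finsupp.weight w d) P' = 0 := by
      apply eMulti_injective K r N
      rw [map_zero, eMulti, ← component_aeval (w' := fun _ : Fin r × Fin N => (1 : ℕ))]
      · ext e
        rw [coeff_weightedHomogeneousComponent, coeff_zero]
        split_ifs with he
        · rw [mem_pow_idealOfVars_iff'] at hline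
          refine hline e ?_
          rw [Finsupp.degree_eq_weight_one]
          have : Finsupp.weight (fun _ : Fin r × Fin N => (1 : ℕ)) e = Finsupp.weight w d := he
          simpa [Pi.one_def] using this ▸ hlt
        · rfl
      · intro q
        simpa [hw] using isWH_esymm (R := K) (w := fun _ : Fin r × Fin N => (1 : ℕ)) (c := (1 : ℕ))
          (f := fun a => (q.1, a)) (fun _ => rfl) ((q.2 : ℕ) + 1)
    have := congrArg (coeff d) hcomp
    rw [coeff_weightedHomogeneousComponent, if_pos rfl, coeff_zero] at this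
    exact mem_support_iff.1 hd this
  rw [← hP', evalGamma, coe_eval₂Hom, eval₂_rename, P'.as_sum, eval₂_sum]
  refine Submodule.sum_mem _ fun d hd => ?_
  rw [eval₂_monomial]
  refine Ideal.mul_mem_left _ _ (hJ.anti (hwd d hd) ?_)
  rw [Finsupp.weight_apply]
  refine hJ.prod d.support _ (fun q => d q • w q) fun q _ => ?_
  exact hJ.pow (hx q.1 _) (d q)

/-- Products of γ's of good elements are good. -/
theorem gammaGood_prod (hA : IsSpecial A) (φ : K →+* A)
    (hφ : ∀ c, PowerSeries.map φ (binSer K c) = lamSeries (φ c)) {J : ℕ → Ideal A} (hJ : MulFam J)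
    (l : List (ℕ × A)) (hl : ∀ p ∈ l, GammaGood J p.2) (hl1 : 1 ≤ (l.map Prod.fst).sum) (c : K) :
    GammaGood J (φ c * (l.map fun p => LambdaRing.gamma p.1 p.2).prod) := by
  intro k
  rcases Nat.eq_zero_or_pos k with rfl | hk
  · simp [hJ.zero]
  letI := freeOps K (Fin l.length)
  set x : Fin l.length → A := fun j => (l.get j).2 with hx_def
  have hev := commutes_evalFree φ x hA hφ
  set y : MvPolynomial (Fin l.length × ℕ) K :=
    C c * ∏ j : Fin l.length, LambdaRing.gamma (l.get j).1 (X (j, 0)) with hy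
  have hyA : evalFree φ x y = φ c * (l.map fun p => LambdaRing.gamma p.1 p.2).prod := by
    rw [hy, map_mul, map_prod]
    congr 1
    · simp [evalFree]
    · have hc : ∀ j : Fin l.length, evalFree φ x (LambdaRing.gamma (l.get j).1 (X (j, 0))) =
          LambdaRing.gamma (l.get j).1 (l.get j).2 := fun j => by
        rw [Commutes.gamma hev, evalFree_gen]
      simp only [hc]
      rw [← List.prod_ofFn]
      congr 1
      conv_rhs => rw [← List.ofFn_get l, List.map_ofFn]
      rfl
  rw [← hyA, ← hev.gamma]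
  refine mem_fam_of_line φ hJ x (fun j => hl _ (l.get_mem j)) _ _ fun N => ?_
  letI := lineOps K (Fin l.length × Fin N)
  rw [(evalFree_line_commutes N).gamma]
  refine degId_le K _ (le_max_left k 1) (gamma_mem_degId le_rfl ?_ hk)
  rw [pow_one, hy, map_mul, map_prod]
  refine Ideal.mul_mem_left _ _ ?_
  obtain ⟨j, hj⟩ : ∃ j : Fin l.length, 0 < (l.get j).1 := by
    by_contra hcon
    push Not at hcon
    have h0 : ∀ a ∈ l.map Prod.fst, a = 0 := by
      intro a ha
      obtain ⟨p, hp, rfl⟩ := List.mem_map.1 ha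
      obtain ⟨j, rfl⟩ := List.mem_iff_get.1 hp
      exact Nat.le_zero.1 (hcon j)
    rw [List.sum_eq_zero h0] at hl1
    omega
  refine Ideal.mem_of_dvd _ (Finset.dvd_prod_of_mem _ (Finset.mem_univ j)) ?_
  rw [(evalFree_line_commutes N).gamma, evalFree_gen, ← pow_one (degId K (Fin l.length × Fin N))]
  exact degId_le K _ (show 1 ≤ max (l.get j).1 1 by omega)
    (gamma_mem_degId le_rfl (by rw [pow_one]; exact lineX_mem N j) hj)

lemma gammaGood_gamma (hA : IsSpecial A) (φ : K →+* A)
    (hφ : ∀ c, PowerSeries.map φ (binSer K c) = lamSeries (φ c)) {J : ℕ → Ideal A} (hJ : MulFam J)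
    {a : A} (ha : GammaGood J a) {i : ℕ} (hi : 1 ≤ i) : GammaGood J (LambdaRing.gamma i a) := by
  have := gammaGood_prod hA φ hφ hJ [(i, a)] (by simp [ha]) (by simpa using hi) 1
  simpa using this

lemma gammaGood_add {J : ℕ → Ideal A} (hJ : MulFam J) {a b : A} (ha : GammaGood J a)
    (hb : GammaGood J b) : GammaGood J (a + b) := by
  intro k
  rw [← coeff_gammaSeries, gammaSeries_add, PowerSeries.coeff_mul]
  refine Submodule.sum_mem _ fun p hp => ?_
  rw [Finset.HasAntidiagonal.mem_antidiagonal] at hp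
  rw [coeff_gammaSeries, coeff_gammaSeries, ← hp]
  exact hJ.mul _ _ _ (ha p.1) _ (hb p.2)

lemma gammaGood_zero {J : ℕ → Ideal A} (hJ : MulFam J) : GammaGood J (0 : A) := by
  intro k
  rcases Nat.eq_zero_or_pos k with rfl | hk
  · simp [hJ.zero]
  · rw [gamma_zero_arg (by omega)]; exact zero_mem _

/-- The elements a with a - ε a good form a subalgebra. -/
theorem gammaFil_le_fam (hA : IsSpecial A) [Algebra K A]
    (hφ : ∀ c, PowerSeries.map (algebraMap K A) (binSer K c) = lamSeries (algebraMap K A c))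
    (ε : A →ₐ[K] K) {J : ℕ → Ideal A} (hJ : MulFam J) (S : Set A)
    (hS : Algebra.adjoin K S = ⊤) (hgood : ∀ s ∈ S, GammaGood J (s - algebraMap K A (ε s))) (n : ℕ) :
    gammaFil (ε : A →+* K) n ≤ J n := by
  have key : ∀ a : A, GammaGood J (a - algebraMap K A (ε a)) := by
    intro a
    have ha : a ∈ Algebra.adjoin K S := by rw [hS]; trivial
    induction ha using Algebra.adjoin_induction with
    | mem s hs => exact hgood s hs
    | algebraMap c => simpa using gammaGood_zero hJ
    | add a b _ _ iha ihb =>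
      rw [map_add, map_add, add_sub_add_comm]
      exact gammaGood_add hJ iha ihb
    | mul a b _ _ iha ihb =>
      set φ := algebraMap K A
      have h1 := gammaGood_prod hA φ hφ hJ [(1, a - φ (ε a)), (1, b - φ (ε b))]
        (by rintro p (_ | ⟨_, _ | ⟨_, h⟩⟩) <;> first | assumption | cases h) (by simp) 1
      have h2 := gammaGood_prod hA φ hφ hJ [(1, b - φ (ε b))] (by simp [ihb]) (by simp) (ε a)
      have h3 := gammaGood_prod hA φ hφ hJ [(1, a - φ (ε a))] (by simp [iha]) (by simp) (ε b)
      convert gammaGood_add hJ (gammaGood_add hJ h1 h2) h3 using 1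
      simp [gamma_one]
      ring
  refine Ideal.span_le.2 ?_
  rintro y ⟨l, hl, hn, rfl⟩
  refine hJ.anti hn ?_
  clear hn
  induction l with
  | nil => simp [hJ.zero]
  | cons p l ih =>
    simp only [List.map_cons, List.sum_cons, List.prod_cons]
    refine hJ.mul _ _ _ ?_ _ (ih fun q hq => hl q (List.mem_cons_of_mem _ hq))
    have hp : ε p.2 = 0 := hl p List.mem_cons_self
    simpa [hp] using key p.2 p.1

end Transfer

lemma commutes_of_lam {B : Type w} [CommRing B] [LambdaOps A] [LambdaOps B] {f : A →+* B}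
    (h : ∀ n a, f (LambdaOps.lam n a) = LambdaOps.lam n (f a)) : Commutes f := fun a => by
  ext n; rw [PowerSeries.coeff_map, coeff_lamSeries, coeff_lamSeries, h]

end Groth.Agent.H27Lambda
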