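import Groth.Agent.H27Lambda.Special
import Mathlib.RingTheory.Binomial

/-! Special λ-structures from Adams operations; free λ-rings and rings of line elements. -/

universe u v w

open Finset LambdaRing

noncomputable section

namespace Groth.Agent.H27Lambda

/-- Data defining a special λ-ring on a torsion-free ring: commuting Adams operations
with integral λ-series. -/
structure AdamsData (R : Type u) [CommRing R] where
  /-- ψ^(k+1) -/
  ψ : ℕ → R →+* R
  ψ_zero : ψ 0 = RingHom.id R
  ψ_comp : ∀ k k' x, ψ k (ψ k' x) = ψ ((k + 1) * (k' + 1) - 1) x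
  exists_series : ∀ x, ∃ f : PowerSeries R, PowerSeries.constantCoeff f = 1 ∧
    ∀ k, ghost k f = ψ k x

section

variable {R : Type u} [CommRing R]

lemma exists_series_of_closure [IsAddTorsionFree R] (ψ : ℕ → R →+* R) (S : Set R)
    (hS : Subring.closure S = ⊤)
    (h : ∀ x ∈ S, ∃ f : PowerSeries R, PowerSeries.constantCoeff f = 1 ∧ ∀ k, ghost k f = ψ k x)
    (x : R) :
    ∃ f : PowerSeries R, PowerSeries.constantCoeff f = 1 ∧ ∀ k, ghost k f = ψ k x := by
  have hx : x ∈ Subring.closure S := hS ▸ Subring.mem_top x
  induction hx using Subring.closure_induction with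
  | mem y hy => exact h y hy
  | zero => exact ⟨1, map_one _, fun k => by rw [ghost_one, map_zero]⟩
  | one =>
    exact ⟨1 + PowerSeries.X, by simp, fun k => by
      rw [map_one]; simpa using ghost_linear (1 : R) k⟩
  | add a b _ _ iha ihb =>
    obtain ⟨f, hf, hf'⟩ := iha
    obtain ⟨g, hg, hg'⟩ := ihb
    exact ⟨f * g, by simp [hf, hg], fun k => by rw [ghost_mul hf hg, hf', hg', map_add]⟩
  | neg a _ iha =>
    obtain ⟨f, hf, hf'⟩ := iha
    refine ⟨f.invOfUnit 1, by simp, fun k => ?_⟩
    have := ghost_mul hf (g := f.invOfUnit 1) (by simp) k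
    rw [PowerSeries.mul_invOfUnit _ _ (by simpa using hf), ghost_one, hf'] at this
    rw [map_neg]
    exact (neg_eq_of_add_eq_zero_right this.symm).symm
  | mul a b _ _ iha ihb =>
    obtain ⟨f, hf, hf'⟩ := iha
    obtain ⟨g, hg, hg'⟩ := ihb
    exact ⟨mulSer f g, constantCoeff_mulSer f g, fun k => by
      rw [ghost_mulSer hf hg, hf', hg', map_mul]⟩

namespace AdamsData

variable (D : AdamsData R)

/-- The λ-series of x. -/
def series (x : R) : PowerSeries R := (D.exists_series x).choose

lemma constantCoeff_series (x : R) : PowerSeries.constantCoeff (D.series x) = 1 :=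
  (D.exists_series x).choose_spec.1

lemma ghost_series (k : ℕ) (x : R) : ghost k (D.series x) = D.ψ k x :=
  (D.exists_series x).choose_spec.2 k

variable [IsAddTorsionFree R]

/-- The λ-structure. -/
@[reducible] def ops : LambdaOps R where
  lam n x := PowerSeries.coeff n (D.series x)
  lam_zero x := by rw [PowerSeries.coeff_zero_eq_constantCoeff_apply, D.constantCoeff_series]
  lam_one x := by
    have h := D.ghost_series 0 x
    have h' := coeff_dlog_eq (D.constantCoeff_series x) 0
    simp only [Finset.range_zero, Finset.sum_empty, add_zero, Nat.cast_zero, zero_add, mul_one,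
      coeff_dlog, pow_zero, one_mul] at h'
    rw [h', h, D.ψ_zero, RingHom.id_apply]
  lam_add n x y := by
    have : D.series (x + y) = D.series x * D.series y :=
      series_eq_of_ghost (D.constantCoeff_series _)
        (by simp [D.constantCoeff_series]) fun k => by
        rw [ghost_mul (D.constantCoeff_series x) (D.constantCoeff_series y), D.ghost_series,
          D.ghost_series, D.ghost_series, map_add]
    rw [this, PowerSeries.coeff_mul, Finset.Nat.sum_antidiagonal_eq_sum_range_succ_mk]

lemma lamSeries_eq (x : R) : @lamSeries R _ D.ops x = D.series x :=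
  PowerSeries.ext fun n => @coeff_lamSeries R _ D.ops n x

lemma ghost_lamSeries (k : ℕ) (x : R) : ghost k (@lamSeries R _ D.ops x) = D.ψ k x := by
  rw [lamSeries_eq, D.ghost_series]

theorem isSpecial : @IsSpecial R _ D.ops := by
  refine @isSpecial_of_ghost R _ D.ops _ (fun k => ?_) (fun k x y => ?_) (fun k k' x => ?_)
  · rw [D.ghost_lamSeries, map_one]
  · rw [D.ghost_lamSeries, D.ghost_lamSeries, D.ghost_lamSeries, map_mul]
  · rw [D.ghost_lamSeries, D.ghost_lamSeries, D.ghost_lamSeries, D.ψ_comp]

lemma series_eq_of_ghost_eq {f : PowerSeries R} {x : R} (hf : PowerSeries.constantCoeff f = 1)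
    (h : ∀ k, ghost k f = D.ψ k x) : @lamSeries R _ D.ops x = f := by
  rw [lamSeries_eq]
  exact series_eq_of_ghost (D.constantCoeff_series x) hf fun k => by rw [D.ghost_series, h]

end AdamsData

end

/-! ### Binomial scalars -/

section Binomial

variable (K : Type u) [CommRing K] [BinomialRing K]

lemma isAddTorsionFree_binomial : IsAddTorsionFree K := BinomialRing.toIsAddTorsionFree

lemma isAddTorsionFree_mvPolynomial (σ : Type v) : IsAddTorsionFree (MvPolynomial σ K) := by
  have := isAddTorsionFree_binomial K
  refine ⟨fun n hn p q h => MvPolynomial.ext _ _ fun d => nsmul_right_injective hn ?_⟩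
  have := congrArg (fun r => MvPolynomial.coeff d r) h
  simp only [MvPolynomial.coeff_smul] at this
  exact this

/-- The series (1 + t)^c. -/
def binSer (c : K) : PowerSeries K := PowerSeries.mk fun n => Ring.choose c n

lemma constantCoeff_binSer (c : K) : PowerSeries.constantCoeff (binSer K c) = 1 := by
  rw [← PowerSeries.coeff_zero_eq_constantCoeff_apply]; simp [binSer]

lemma derivative_binSer (c : K) :
    PowerSeries.derivative K (binSer K c) * (1 + PowerSeries.X) = PowerSeries.C c * binSer K c := by
  ext n
  simp only [mul_add, mul_one, map_add, PowerSeries.coeff_C_mul, PowerSeries.coeff_derivative,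
    binSer, PowerSeries.coeff_mk]
  have h := Ring.choose_smul_choose c (Nat.le_succ n)
  simp only [Nat.succ_eq_add_one, Nat.choose_succ_self_right, Nat.add_sub_cancel_left,
    Ring.choose_one_right, nsmul_eq_mul, Nat.cast_add, Nat.cast_one] at h
  cases n with
  | zero =>
    rw [PowerSeries.coeff_zero_mul_X]
    simp at h ⊢
  | succ n =>
    rw [PowerSeries.coeff_succ_mul_X, PowerSeries.coeff_derivative, PowerSeries.coeff_mk]
    push_cast at h ⊢
    linear_combination h

lemma ghost_binSer (c : K) (k : ℕ) : ghost k (binSer K c) = c := by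
  have hinv : (1 + PowerSeries.X : PowerSeries K) * PowerSeries.mk (fun n => (-1 : K) ^ n) = 1 := by
    have h := PowerSeries.mul_invOfUnit (1 + PowerSeries.X : PowerSeries K) 1 (by simp)
    have h' := invOfUnit_one_sub (-1 : K)
    simp only [map_neg, map_one, neg_mul, one_mul, sub_neg_eq_add] at h'
    rwa [h'] at h
  have hd : dlog (binSer K c) = PowerSeries.C c * PowerSeries.mk (fun n => (-1 : K) ^ n) := by
    have hu : IsUnit (binSer K c) := by
      rw [PowerSeries.isUnit_iff_constantCoeff, constantCoeff_binSer]; exact isUnit_one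
    apply hu.mul_left_cancel
    rw [self_mul_dlog (constantCoeff_binSer K c), ← mul_assoc,
      mul_comm (binSer K c) (PowerSeries.C c), ← derivative_binSer, mul_assoc, hinv, mul_one]
  rw [ghost, hd, PowerSeries.coeff_C_mul, PowerSeries.coeff_mk, mul_left_comm, ← mul_pow]
  simp

open MvPolynomial in
lemma closure_C_union {σ : Type v} (S : Set (MvPolynomial σ K))
    (hX : ∀ a, X a ∈ Subring.closure (Set.range (C : K → MvPolynomial σ K) ∪ S)) :
    Subring.closure (Set.range (C : K → MvPolynomial σ K) ∪ S) = ⊤ := by
  refine eq_top_iff.2 fun p hp0 => ?_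
  clear hp0
  induction p using MvPolynomial.induction_on with
  | C a => exact Subring.subset_closure (Or.inl ⟨a, rfl⟩)
  | add p q hp hq => exact add_mem hp hq
  | mul_X p a hp => exact mul_mem hp (hX a)

open MvPolynomial in
/-- ℤ[z] (or K[z]) with the u = 1 + z line elements. -/
def lineData (σ : Type v) : AdamsData (MvPolynomial σ K) where
  ψ k := (aeval fun a : σ => (1 + X a) ^ (k + 1) - 1).toRingHom
  ψ_zero := RingHom.ext fun x => by simp [aeval_X_left_apply]
  ψ_comp k k' x := by
    obtain ⟨m, hm⟩ : ∃ m, (k + 1) * (k' + 1) = m + 1 :=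
      Nat.exists_eq_succ_of_ne_zero (by positivity)
    simp only [hm, Nat.add_sub_cancel, AlgHom.toRingHom_eq_coe, RingHom.coe_coe,
      comp_aeval_apply]
    congr 1
    ext a : 1
    simp only [Function.comp_apply, map_sub, map_pow, map_add, map_one, aeval_X]
    rw [← hm, pow_mul, add_sub_cancel]
  exists_series := by
    have := isAddTorsionFree_mvPolynomial K σ
    refine exists_series_of_closure _ (Set.range C ∪ Set.range fun a => 1 + X a)
      (closure_C_union K _ fun a => ?_) ?_
    · have h1 : (1 + X a : MvPolynomial σ K) ∈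
          Subring.closure (Set.range C ∪ Set.range fun a => 1 + X a) :=
        Subring.subset_closure (Or.inr ⟨a, rfl⟩)
      simpa using sub_mem h1 (one_mem _)
    · rintro _ (⟨c, rfl⟩ | ⟨a, rfl⟩)
      · refine ⟨PowerSeries.map C (binSer K c), constantCoeff_map_one _ (constantCoeff_binSer K c),
          fun k => ?_⟩
        rw [← map_ghost _ (constantCoeff_binSer K c), ghost_binSer]
        simp
      · exact ⟨1 + PowerSeries.C (1 + X a) * PowerSeries.X, by simp, fun k => by
          rw [ghost_linear]; simp⟩

open MvPolynomial in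
/-- The generic series of the j-th generator of the free λ-ring. -/
def freeGen {J : Type v} (j : J) : PowerSeries (MvPolynomial (J × ℕ) K) :=
  PowerSeries.mk fun n => if n = 0 then 1 else X (j, n - 1)

lemma constantCoeff_freeGen {J : Type v} (j : J) :
    PowerSeries.constantCoeff (freeGen K j) = 1 := by
  rw [← PowerSeries.coeff_zero_eq_constantCoeff_apply]; simp [freeGen]

open MvPolynomial in
lemma map_freeGen {J : Type v} (k : ℕ) (j : J) :
    PowerSeries.map (aeval fun x : J × ℕ =>
      PowerSeries.coeff (x.2 + 1) (cSer k (freeGen K x.1))).toRingHom (freeGen K j) =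
      cSer k (freeGen K j) := by
  ext n : 1
  cases n with
  | zero =>
    rw [PowerSeries.coeff_zero_eq_constantCoeff_apply, PowerSeries.coeff_zero_eq_constantCoeff_apply,
      constantCoeff_cSer, constantCoeff_map_one _ (constantCoeff_freeGen K j)]
  | succ n => simp [freeGen]

lemma cSer_cSer {R : Type w} [CommRing R] [IsAddTorsionFree R] {f : PowerSeries R}
    (hf : PowerSeries.constantCoeff f = 1) (k k' : ℕ) :
    cSer k' (cSer k f) = cSer ((k + 1) * (k' + 1) - 1) f := by
  refine series_eq_of_ghost (constantCoeff_cSer _ _) (constantCoeff_cSer _ _) fun n => ?_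
  obtain ⟨m, hm⟩ : ∃ m, (k + 1) * (k' + 1) = m + 1 :=
    Nat.exists_eq_succ_of_ne_zero (by positivity)
  obtain ⟨m', hm'⟩ : ∃ m', (k' + 1) * (n + 1) = m' + 1 :=
    Nat.exists_eq_succ_of_ne_zero (by positivity)
  rw [ghost_cSer (constantCoeff_cSer _ _), ghost_cSer hf, ghost_cSer hf, hm, hm',
    Nat.add_sub_cancel, Nat.add_sub_cancel, ← hm, ← hm', mul_assoc]

lemma cSer_zero {R : Type w} [CommRing R] [IsAddTorsionFree R] {f : PowerSeries R}
    (hf : PowerSeries.constantCoeff f = 1) : cSer 0 f = f :=
  series_eq_of_ghost (constantCoeff_cSer _ _) hf fun n => by rw [ghost_cSer hf]; simp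

lemma coeff_one_eq_ghost {R : Type w} [CommRing R] {f : PowerSeries R}
    (hf : PowerSeries.constantCoeff f = 1) : PowerSeries.coeff 1 f = ghost 0 f := by
  have h' := coeff_dlog_eq hf 0
  simpa [coeff_dlog] using h'

open MvPolynomial in
/-- The free λ-ring on the generators J over K. -/
def freeData (J : Type v) : AdamsData (MvPolynomial (J × ℕ) K) where
  ψ k := (aeval fun x : J × ℕ => PowerSeries.coeff (x.2 + 1) (cSer k (freeGen K x.1))).toRingHom
  ψ_zero := by
    have := isAddTorsionFree_mvPolynomial K (J × ℕ)
    refine MvPolynomial.ringHom_ext (fun c => by simp) fun x => ?_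
    simp only [AlgHom.toRingHom_eq_coe, RingHom.coe_coe, aeval_X, RingHom.id_apply]
    rw [cSer_zero (constantCoeff_freeGen K x.1)]
    simp [freeGen]
  ψ_comp k k' x := by
    have := isAddTorsionFree_mvPolynomial K (J × ℕ)
    simp only [AlgHom.toRingHom_eq_coe, RingHom.coe_coe, comp_aeval_apply]
    congr 2
    funext x
    change (aeval _).toRingHom _ = _
    rw [← PowerSeries.coeff_map, map_cSer, map_freeGen,
      cSer_cSer (constantCoeff_freeGen K x.1)]
  exists_series := by
    have := isAddTorsionFree_mvPolynomial K (J × ℕ)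
    refine exists_series_of_closure _ (Set.range C ∪ Set.range X)
      (closure_C_union K _ fun a => Subring.subset_closure (Or.inr ⟨a, rfl⟩)) ?_
    rintro _ (⟨c, rfl⟩ | ⟨x, rfl⟩)
    · refine ⟨PowerSeries.map C (binSer K c), constantCoeff_map_one _ (constantCoeff_binSer K c),
        fun k => ?_⟩
      rw [← map_ghost _ (constantCoeff_binSer K c), ghost_binSer]
      simp
    · exact ⟨compSer (x.2 + 1) (freeGen K x.1), constantCoeff_compSer _ _,
        fun k => by simp [cSer]⟩

open MvPolynomial in
lemma free_lamSeries_X {J : Type v} (x : J × ℕ) :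
    letI := isAddTorsionFree_mvPolynomial K (J × ℕ)
    @lamSeries _ _ (freeData K J).ops (X x) = compSer (x.2 + 1) (freeGen K x.1) := by
  letI := isAddTorsionFree_mvPolynomial K (J × ℕ)
  exact (freeData K J).series_eq_of_ghost_eq (constantCoeff_compSer _ _)
    fun k => by simp [freeData, cSer]

open MvPolynomial in
lemma free_lamSeries_gen {J : Type v} (j : J) :
    letI := isAddTorsionFree_mvPolynomial K (J × ℕ)
    @lamSeries _ _ (freeData K J).ops (X (j, 0)) = freeGen K j := by
  letI := isAddTorsionFree_mvPolynomial K (J × ℕ)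
  refine (freeData K J).series_eq_of_ghost_eq (constantCoeff_freeGen K j) fun k => ?_
  simp only [freeData, AlgHom.toRingHom_eq_coe, RingHom.coe_coe, aeval_X]
  rw [coeff_one_eq_ghost (constantCoeff_cSer _ _), ghost_cSer (constantCoeff_freeGen K j)]
  simp

end Binomial

/-! ### λ-homomorphisms between rings in any universes -/

/-- f commutes with the λ-operations. -/
def Commutes {A : Type u} {B : Type v} [CommRing A] [LambdaOps A] [CommRing B] [LambdaOps B]
    (f : A →+* B) : Prop :=
  ∀ x, PowerSeries.map f (lamSeries x) = lamSeries (f x)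

lemma Commutes.lam {A : Type u} {B : Type v} [CommRing A] [LambdaOps A] [CommRing B]
    [LambdaOps B] {f : A →+* B} (hf : Commutes f) (i : ℕ) (x : A) :
    f (LambdaOps.lam i x) = LambdaOps.lam i (f x) := by
  rw [← coeff_lamSeries, ← coeff_lamSeries, ← PowerSeries.coeff_map, hf]

lemma Commutes.comp {A : Type u} {B : Type v} {C : Type w} [CommRing A] [LambdaOps A] [CommRing B]
    [LambdaOps B] [CommRing C] [LambdaOps C] {f : A →+* B} {g : B →+* C}
    (hf : Commutes f) (hg : Commutes g) : Commutes (g.comp f) := fun x => by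
  rw [PowerSeries.map_comp, RingHom.comp_apply, hf, hg, RingHom.comp_apply]

lemma commutes_of_addClosure {A : Type u} {B : Type v} [CommRing A] [LambdaOps A] [CommRing B]
    [LambdaOps B] (f : A →+* B) (S : Set A) (hS : AddSubgroup.closure S = ⊤)
    (h : ∀ x ∈ S, PowerSeries.map f (lamSeries x) = lamSeries (f x)) : Commutes f := by
  intro x
  have hx : x ∈ AddSubgroup.closure S := hS ▸ AddSubgroup.mem_top x
  induction hx using AddSubgroup.closure_induction with
  | mem y hy => exact h y hy
  | zero => rw [map_zero, lamSeries_zero, lamSeries_zero, map_one]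
  | add a b _ _ iha ihb => rw [map_add, lamSeries_add, lamSeries_add, map_mul, iha, ihb]
  | neg a _ iha =>
    apply (isUnit_lamSeries (f a)).mul_left_cancel
    nth_rewrite 1 [← iha]
    rw [← map_mul, ← lamSeries_add, add_neg_cancel, lamSeries_zero, map_one, ← lamSeries_add,
      map_neg, add_neg_cancel, lamSeries_zero]

lemma commutes_of_ringClosure {A : Type u} {B : Type v} [CommRing A] [LambdaOps A] [CommRing B]
    [LambdaOps B] (hA : IsSpecial A) (hB : IsSpecial B)
    (f : A →+* B) (S : Set A) (hS : Subring.closure S = ⊤)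
    (h : ∀ x ∈ S, PowerSeries.map f (lamSeries x) = lamSeries (f x)) : Commutes f := by
  intro x
  have hx : x ∈ Subring.closure S := hS ▸ Subring.mem_top x
  induction hx using Subring.closure_induction with
  | mem y hy => exact h y hy
  | zero => rw [map_zero, lamSeries_zero, lamSeries_zero, map_one]
  | one => rw [map_one, lamSeries_one hA.lam_one_eq_zero, lamSeries_one hB.lam_one_eq_zero,
      map_add, map_one, PowerSeries.map_X]
  | add a b _ _ iha ihb => rw [map_add, lamSeries_add, lamSeries_add, map_mul, iha, ihb]
  | mul a b _ _ iha ihb =>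
    rw [map_mul, lamSeries_mul_of_special hA, lamSeries_mul_of_special hB, map_mulSer, iha, ihb]
  | neg a _ iha =>
    apply (isUnit_lamSeries (f a)).mul_left_cancel
    nth_rewrite 1 [← iha]
    rw [← map_mul, ← lamSeries_add, add_neg_cancel, lamSeries_zero, map_one, ← lamSeries_add,
      map_neg, add_neg_cancel, lamSeries_zero]

end Groth.Agent.H27Lambda
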