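import Groth.Agent.H27Lambda.Basic

/-! Ghost components of power series with constant term one, and the series ∏ (1 + v t). -/

universe u v

open PowerSeries Finset

namespace Groth.Agent.H27Lambda

variable {R : Type u} [CommRing R] {S : Type v} [CommRing S]

/-- ∏ (1 + v t). -/
noncomputable def eSer (s : Multiset R) : PowerSeries R := (s.map fun v => 1 + C v * X).prod

lemma eSer_cons (a : R) (s : Multiset R) : eSer (a ::ₘ s) = (1 + C a * X) * eSer s := by
  simp [eSer]

lemma eSer_add (s t : Multiset R) : eSer (s + t) = eSer s * eSer t := by simp [eSer]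

lemma constantCoeff_eSer (s : Multiset R) : constantCoeff (eSer s) = 1 := by
  induction s using Multiset.induction with
  | empty => simp [eSer]
  | cons a s ih => simp [eSer_cons, ih]

lemma coeff_eSer (s : Multiset R) (n : ℕ) : coeff n (eSer s) = s.esymm n := by
  induction s using Multiset.induction generalizing n with
  | empty =>
    cases n with
    | zero => simp [eSer, Multiset.esymm]
    | succ n => simp [eSer, Multiset.esymm, Multiset.powersetCard_zero_right, coeff_one]
  | cons a s ih =>
    cases n with
    | zero =>
      rw [coeff_zero_eq_constantCoeff_apply, constantCoeff_eSer]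
      simp [Multiset.esymm]
    | succ n =>
      rw [eSer_cons, add_mul, one_mul, map_add, ih, mul_assoc, coeff_C_mul, coeff_succ_X_mul, ih]
      simp [Multiset.esymm, Multiset.powersetCard_cons, Function.comp_def,
        Multiset.sum_map_mul_left]

lemma map_eSer (f : R →+* S) (s : Multiset R) :
    PowerSeries.map f (eSer s) = eSer (s.map f) := by
  simp only [eSer, map_multiset_prod, Multiset.map_map]
  congr 2
  ext v : 1
  simp

/-- The logarithmic derivative. -/
noncomputable def dlog (f : PowerSeries R) : PowerSeries R := d⁄dX R f * f.invOfUnit 1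

lemma self_mul_dlog {f : PowerSeries R} (hf : constantCoeff f = 1) : f * dlog f = d⁄dX R f := by
  rw [dlog, mul_left_comm, mul_invOfUnit _ _ (by simpa using hf), mul_one]

lemma coeff_dlog_eq {f : PowerSeries R} (hf : constantCoeff f = 1) (n : ℕ) :
    coeff (n + 1) f * (n + 1) = coeff n (dlog f) +
      ∑ i ∈ range n, coeff (i + 1) f * coeff (n - (i + 1)) (dlog f) := by
  have h := congrArg (coeff n) (self_mul_dlog hf)
  rw [coeff_derivative, coeff_mul, Finset.Nat.sum_antidiagonal_eq_sum_range_succ_mk,
    sum_range_succ'] at h
  rw [← h, add_comm]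
  simp [hf]

/-- The k-th ghost component (the (k+1)-st power sum). -/
noncomputable def ghost (k : ℕ) (f : PowerSeries R) : R := (-1) ^ k * coeff k (dlog f)

lemma coeff_dlog (k : ℕ) (f : PowerSeries R) : coeff k (dlog f) = (-1) ^ k * ghost k f := by
  rw [ghost, ← mul_assoc, ← mul_pow]; simp

lemma ghost_mul {f g : PowerSeries R} (hf : constantCoeff f = 1) (hg : constantCoeff g = 1)
    (k : ℕ) : ghost k (f * g) = ghost k f + ghost k g := by
  rw [ghost, ghost, ghost, dlog, dlog_mul hf hg, map_add, mul_add, dlog, dlog]

lemma ghost_one (k : ℕ) : ghost k (1 : PowerSeries R) = 0 := by simp [ghost, dlog]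

lemma ghost_linear (a : R) (k : ℕ) : ghost k (1 + C a * X) = a ^ (k + 1) := by
  have h : (1 + C a * X : PowerSeries R).invOfUnit 1 = PowerSeries.mk fun n => (-a) ^ n := by
    have := invOfUnit_one_sub (-a)
    simpa using this
  rw [ghost, dlog, h]
  simp only [map_add, Derivation.map_one_eq_zero, zero_add, Derivation.leibniz, derivative_X,
    derivative_C, smul_eq_mul, mul_zero, add_zero, mul_one, coeff_C_mul, coeff_mk]
  rw [neg_pow a, mul_comm a, ← mul_assoc, ← mul_assoc, ← mul_pow]
  simp [pow_succ]

lemma ghost_eSer (k : ℕ) (s : Multiset R) :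
    ghost k (eSer s) = (s.map fun v => v ^ (k + 1)).sum := by
  induction s using Multiset.induction with
  | empty => simp [eSer, ghost_one]
  | cons a s ih =>
    rw [eSer_cons, ghost_mul (by simp) (constantCoeff_eSer s), ghost_linear, ih]
    simp

lemma ghost_congr {f g : PowerSeries R} (hf : constantCoeff f = 1) (hg : constantCoeff g = 1)
    {k : ℕ} (h : ∀ i ≤ k + 1, coeff i f = coeff i g) : ghost k f = ghost k g := by
  suffices h' : ∀ j ≤ k, coeff j (dlog f) = coeff j (dlog g) by rw [ghost, ghost, h' k le_rfl]
  intro j
  induction j using Nat.strong_induction_on with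
  | _ j ih =>
    intro hj
    have e1 := coeff_dlog_eq hf j
    have e2 := coeff_dlog_eq hg j
    rw [h (j + 1) (by omega)] at e1
    have e3 : ∑ i ∈ range j, coeff (i + 1) f * coeff (j - (i + 1)) (dlog f) =
        ∑ i ∈ range j, coeff (i + 1) g * coeff (j - (i + 1)) (dlog g) := by
      refine sum_congr rfl fun i hi => ?_
      rw [mem_range] at hi
      rw [h (i + 1) (by omega), ih (j - (i + 1)) (by omega) (by omega)]
    rw [e3] at e1
    linear_combination e2 - e1

/-- In a torsion-free ring the ghost components determine the series. -/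
lemma eq_of_ghost [IsAddTorsionFree R] {f g : PowerSeries R} (hf : constantCoeff f = 1)
    (hg : constantCoeff g = 1) {n : ℕ} (h : ∀ k < n, ghost k f = ghost k g) :
    coeff n f = coeff n g := by
  induction n using Nat.strong_induction_on with
  | _ n ih =>
    cases n with
    | zero => rw [coeff_zero_eq_constantCoeff_apply, coeff_zero_eq_constantCoeff_apply, hf, hg]
    | succ n =>
      apply nsmul_right_injective (Nat.succ_ne_zero n)
      simp only [nsmul_eq_mul, Nat.cast_succ, mul_comm _ (coeff (n + 1) _)]
      rw [coeff_dlog_eq hf, coeff_dlog_eq hg, coeff_dlog, coeff_dlog, h n (Nat.lt_succ_self n)]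
      congr 1
      refine sum_congr rfl fun i hi => ?_
      rw [mem_range] at hi
      rw [ih (i + 1) (by omega) (fun k hk => h k (by omega)), coeff_dlog, coeff_dlog,
        h (n - (i + 1)) (by omega)]

lemma series_eq_of_ghost [IsAddTorsionFree R] {f g : PowerSeries R} (hf : constantCoeff f = 1)
    (hg : constantCoeff g = 1) (h : ∀ k, ghost k f = ghost k g) : f = g :=
  PowerSeries.ext fun _ => eq_of_ghost hf hg fun k _ => h k

lemma constantCoeff_map_one (φ : R →+* S) {f : PowerSeries R} (hf : constantCoeff f = 1) :
    constantCoeff (PowerSeries.map φ f) = 1 := by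
  rw [← coeff_zero_eq_constantCoeff_apply, coeff_map, coeff_zero_eq_constantCoeff_apply, hf,
    map_one]

lemma map_ghost (φ : R →+* S) {f : PowerSeries R} (hf : constantCoeff f = 1) (k : ℕ) :
    φ (ghost k f) = ghost k (PowerSeries.map φ f) := by
  have hf' := constantCoeff_map_one φ hf
  induction k using Nat.strong_induction_on with
  | _ k ih =>
    have e1 := congrArg φ (coeff_dlog_eq hf k)
    have e2 := coeff_dlog_eq hf' k
    rw [map_mul, map_add, map_add, map_natCast, map_one, map_sum] at e1
    simp only [coeff_map] at e2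
    have e3 : ∑ i ∈ range k, φ (coeff (i + 1) f * coeff (k - (i + 1)) (dlog f)) =
        ∑ i ∈ range k, φ (coeff (i + 1) f) * coeff (k - (i + 1)) (dlog (PowerSeries.map φ f)) := by
      refine sum_congr rfl fun i hi => ?_
      rw [mem_range] at hi
      rw [map_mul, coeff_dlog, coeff_dlog, map_mul, map_pow, map_neg, map_one,
        ih (k - (i + 1)) (by omega)]
    rw [e3] at e1
    simp only [ghost, map_mul, map_pow, map_neg, map_one]
    linear_combination (-1 : S) ^ k * (e2 - e1)

end Groth.Agent.H27Lambda

namespace Groth.Agent.H27Lambda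

open LambdaRing in
lemma adamsOp_succ {K : Type u} [CommRing K] [LambdaOps K] (k : ℕ) (x : K) :
    adamsOp (k + 1) x = ghost k (lamSeries x) := rfl

end Groth.Agent.H27Lambda

namespace Groth.Agent.H27Lambda

lemma isAddTorsionFree_of_algebraRat (K : Type*) [CommRing K] [Algebra ℚ K] :
    IsAddTorsionFree K := by
  refine ⟨fun n hn x y h => ?_⟩
  have hu : IsUnit (n : K) := by
    rw [← map_natCast (algebraMap ℚ K) n]
    exact (isUnit_iff_ne_zero.2 (Nat.cast_ne_zero.2 hn)).map _
  simp only [nsmul_eq_mul] at h
  exact hu.mul_left_cancel h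

end Groth.Agent.H27Lambda
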