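import Groth.Agent.H27Lambda.Universal

/-! Special λ-rings through ghost components. -/

universe u

open Finset LambdaRing MvPolynomial

noncomputable section

namespace Groth.Agent.H27Lambda

variable {R : Type u} [CommRing R] {S : Type*} [CommRing S]

/-- A chosen P_n. -/
def mulPoly (n : ℕ) : MvPolynomial (Fin n ⊕ Fin n) ℤ := Classical.choose (exists_isMulPoly' n)

lemma mulPoly_spec (n : ℕ) : IsMulPoly n (mulPoly n) := Classical.choose_spec (exists_isMulPoly' n)

/-- A chosen Q_{i,j}. -/
def compPoly (i j : ℕ) : MvPolynomial (Fin (i * j)) ℤ := Classical.choose (exists_isCompPoly' i j)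

lemma compPoly_spec (i j : ℕ) : IsCompPoly i j (compPoly i j) :=
  Classical.choose_spec (exists_isCompPoly' i j)

/-- The product of two series in the sense of λ-rings. -/
def mulSer (f g : PowerSeries R) : PowerSeries R :=
  PowerSeries.mk fun n => aeval (Sum.elim (fun k : Fin n => PowerSeries.coeff ((k : ℕ) + 1) f)
    (fun k : Fin n => PowerSeries.coeff ((k : ℕ) + 1) g)) (mulPoly n)

/-- λ_t of λ^i of a series. -/
def compSer (i : ℕ) (f : PowerSeries R) : PowerSeries R :=
  PowerSeries.mk fun j => aeval (fun k : Fin (i * j) => PowerSeries.coeff ((k : ℕ) + 1) f)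
    (compPoly i j)

/-- The series i ↦ ψ^(k+1) λ^i. -/
def cSer (k : ℕ) (f : PowerSeries R) : PowerSeries R :=
  PowerSeries.mk fun i => ghost k (compSer i f)

lemma aeval_int_map (φ : R →+* S) {σ : Type*} (g : σ → R) (P : MvPolynomial σ ℤ) :
    φ (aeval g P) = aeval (fun i => φ (g i)) P := by
  induction P using MvPolynomial.induction_on with
  | C a => simp
  | add p q hp hq => simp [map_add, hp, hq]
  | mul_X p i hp => simp [map_mul, hp]

lemma map_mulSer (φ : R →+* S) (f g : PowerSeries R) :
    PowerSeries.map φ (mulSer f g) = mulSer (PowerSeries.map φ f) (PowerSeries.map φ g) := by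
  ext n
  simp only [mulSer, PowerSeries.coeff_map, PowerSeries.coeff_mk, aeval_int_map]
  congr 2
  funext i
  rcases i with k | k <;> simp

lemma map_compSer (φ : R →+* S) (i : ℕ) (f : PowerSeries R) :
    PowerSeries.map φ (compSer i f) = compSer i (PowerSeries.map φ f) := by
  ext n
  simp only [compSer, PowerSeries.coeff_map, PowerSeries.coeff_mk, aeval_int_map]

lemma mulSer_congr {f g f' g' : PowerSeries R} {N : ℕ}
    (hf : ∀ i ≤ N, PowerSeries.coeff i f = PowerSeries.coeff i f')
    (hg : ∀ i ≤ N, PowerSeries.coeff i g = PowerSeries.coeff i g') {n : ℕ} (hn : n ≤ N) :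
    PowerSeries.coeff n (mulSer f g) = PowerSeries.coeff n (mulSer f' g') := by
  simp only [mulSer, PowerSeries.coeff_mk]
  congr 2
  funext i
  rcases i with k | k
  · exact hf _ (by omega)
  · exact hg _ (by omega)

lemma compSer_congr {f f' : PowerSeries R} {N : ℕ}
    (hf : ∀ i ≤ N, PowerSeries.coeff i f = PowerSeries.coeff i f') {i j : ℕ} (hn : i * j ≤ N) :
    PowerSeries.coeff j (compSer i f) = PowerSeries.coeff j (compSer i f') := by
  simp only [compSer, PowerSeries.coeff_mk]
  congr 2
  funext k
  exact hf _ (by omega)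

lemma constantCoeff_mulSer (f g : PowerSeries R) :
    PowerSeries.constantCoeff (mulSer f g) = 1 := by
  rw [← PowerSeries.coeff_zero_eq_constantCoeff_apply, mulSer, PowerSeries.coeff_mk,
    show mulPoly 0 = 1 from aeval_eFam_injective 0 (by
      change aeval _ (mulPoly 0) = _
      rw [show aeval (eFam 0) (mulPoly 0) = mulGen 0 0 from (mulPoly_spec 0).1, map_one]
      simp [mulGen, Multiset.esymm]), map_one]

lemma constantCoeff_compSer (i : ℕ) (f : PowerSeries R) :
    PowerSeries.constantCoeff (compSer i f) = 1 := by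
  rw [← PowerSeries.coeff_zero_eq_constantCoeff_apply, compSer, PowerSeries.coeff_mk,
    show compPoly i 0 = 1 from esHom_injective (i * 0) (by
      rw [show esHom ℤ (i * 0) (compPoly i 0) = compGen (i * 0) i 0 from (compPoly_spec i 0).1,
        map_one]
      simp [compGen, Multiset.esymm]), map_one]

lemma compSer_zero (f : PowerSeries R) : compSer 0 f = 1 + PowerSeries.X := by
  ext j
  have h := congrArg (aeval (fun a : Fin 0 => (Fin.elim0 a : R)))
    (compPoly_stable (N := 0) (le_of_eq (Nat.zero_mul j)) (compPoly_spec 0 j))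
  rw [comp_aeval_apply] at h
  rw [compSer, PowerSeries.coeff_mk]
  have e : (fun k : Fin (0 * j) => PowerSeries.coeff ((k : ℕ) + 1) f) =
      (aeval (fun a : Fin 0 => (Fin.elim0 a : R))) ∘
        fun k : Fin (0 * j) => esymm (Fin 0) ℤ ((k : ℕ) + 1) := by
    funext k
    exact absurd k.2 (by simp)
  rw [e]
  refine h.trans ?_
  rw [← coeff_compEl]
  change (aeval _).toRingHom _ = _
  rw [← PowerSeries.coeff_map]
  simp [compEl]

lemma constantCoeff_cSer (k : ℕ) (f : PowerSeries R) :
    PowerSeries.constantCoeff (cSer k f) = 1 := by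
  rw [← PowerSeries.coeff_zero_eq_constantCoeff_apply, cSer, PowerSeries.coeff_mk, compSer_zero]
  have := ghost_linear (1 : R) k
  simpa using this

lemma map_cSer (φ : R →+* S) (k : ℕ) (f : PowerSeries R) :
    PowerSeries.map φ (cSer k f) = cSer k (PowerSeries.map φ f) := by
  ext i
  simp only [cSer, PowerSeries.coeff_map, PowerSeries.coeff_mk,
    map_ghost φ (constantCoeff_compSer i f), map_compSer]

/-- The generic series. -/
def genSer (N : ℕ) {σ : Type*} (ι : Fin N → σ) : PowerSeries (MvPolynomial σ ℤ) :=
  1 + ∑ i : Fin N, PowerSeries.monomial ((i : ℕ) + 1) (X (ι i))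

lemma coeff_genSer_succ (N : ℕ) {σ : Type*} (ι : Fin N → σ) (n : ℕ) :
    PowerSeries.coeff (n + 1) (genSer N ι) = if h : n < N then X (ι ⟨n, h⟩) else 0 := by
  rw [genSer, map_add, PowerSeries.coeff_one, if_neg (Nat.succ_ne_zero n), zero_add, map_sum]
  simp only [PowerSeries.coeff_monomial, Nat.add_right_cancel_iff]
  split_ifs with h
  · rw [Finset.sum_eq_single (⟨n, h⟩ : Fin N)]
    · simp
    · intro b _ hb
      exact if_neg fun e => hb (Fin.ext e.symm)
    · simp
  · exact Finset.sum_eq_zero fun b _ => if_neg fun e => h (by have := b.2; omega)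

lemma constantCoeff_genSer (N : ℕ) {σ : Type*} (ι : Fin N → σ) :
    PowerSeries.constantCoeff (genSer N ι) = 1 := by
  rw [← PowerSeries.coeff_zero_eq_constantCoeff_apply, genSer, map_add, map_sum]
  simp [PowerSeries.coeff_monomial]

lemma map_genSer {N : ℕ} {σ τ : Type*} (ι : Fin N → σ) (g : σ → MvPolynomial τ ℤ) (j : Fin N → τ)
    (hg : ∀ k : Fin N, g (ι k) = rename j (esymm (Fin N) ℤ ((k : ℕ) + 1))) :
    PowerSeries.map (aeval g).toRingHom (genSer N ι) =
      eSer ((univ : Finset (Fin N)).val.map fun a => X (j a)) := by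
  ext n : 1
  cases n with
  | zero =>
    rw [PowerSeries.coeff_zero_eq_constantCoeff_apply, PowerSeries.coeff_zero_eq_constantCoeff_apply,
      constantCoeff_eSer, constantCoeff_map_one _ (constantCoeff_genSer N ι)]
  | succ n =>
    rw [PowerSeries.coeff_map, coeff_genSer_succ, ← rename_esymm_eq]
    split_ifs with h
    · simp [hg]
    · simp [esymm, Finset.powersetCard_eq_empty.2 (show (univ : Finset (Fin N)).card < n + 1 by
        simp; omega)]

lemma map_genSer_eq {N : ℕ} {σ : Type*} (ι : Fin N → σ) (g : σ → R) (f : PowerSeries R)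
    (hf : PowerSeries.constantCoeff f = 1)
    (hg : ∀ k : Fin N, g (ι k) = PowerSeries.coeff ((k : ℕ) + 1) f) (i : ℕ) (hi : i ≤ N) :
    PowerSeries.coeff i f = PowerSeries.coeff i (PowerSeries.map (aeval g).toRingHom (genSer N ι)) := by
  cases i with
  | zero =>
    rw [PowerSeries.coeff_zero_eq_constantCoeff_apply, PowerSeries.coeff_zero_eq_constantCoeff_apply,
      hf, constantCoeff_map_one _ (constantCoeff_genSer N ι)]
  | succ i =>
    rw [PowerSeries.coeff_map, coeff_genSer_succ, dif_pos (by omega)]
    simp [hg]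

lemma coeff_mulSer_eSer {m N : ℕ} (h : m ≤ N) :
    PowerSeries.coeff m (mulSer (eSer ((univ : Finset (Fin N)).val.map
        fun a => (X (Sum.inl a) : MvPolynomial (Fin N ⊕ Fin N) ℤ)))
      (eSer ((univ : Finset (Fin N)).val.map fun a => X (Sum.inr a)))) = mulGen N m := by
  rw [← mulPoly_stable h (mulPoly_spec m), mulSer, PowerSeries.coeff_mk]
  congr 2
  funext i
  rcases i with k | k <;> simp [eFam, rename_esymm_eq]

theorem ghost_mulSer {f g : PowerSeries R} (hf : PowerSeries.constantCoeff f = 1)
    (hg : PowerSeries.constantCoeff g = 1) (k : ℕ) :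
    ghost k (mulSer f g) = ghost k f * ghost k g := by
  set N := k + 1
  set F := genSer N (Sum.inl : Fin N → Fin N ⊕ Fin N)
  set G := genSer N (Sum.inr : Fin N → Fin N ⊕ Fin N)
  have hU : ghost k (mulSer F G) = ghost k F * ghost k G := by
    apply aeval_eFam_injective N
    change (aeval (eFam N)).toRingHom _ = (aeval (eFam N)).toRingHom _
    rw [map_mul, map_ghost _ (constantCoeff_mulSer _ _), map_ghost _ (constantCoeff_genSer _ _),
      map_ghost _ (constantCoeff_genSer _ _), map_mulSer,
      map_genSer Sum.inl (eFam N) Sum.inl (fun a => rfl),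
      map_genSer Sum.inr (eFam N) Sum.inr (fun a => rfl),
      ghost_congr (g := mulEl N) (constantCoeff_mulSer _ _) (constantCoeff_eSer _)
        (fun i hi => by rw [coeff_mulSer_eSer hi, coeff_mulEl]),
      mulEl, ghost_eSer, ghost_eSer, ghost_eSer, Multiset.map_map, Multiset.map_map,
      Multiset.map_map]
    change ∑ ab : Fin N × Fin N, _ = (∑ a, _) * ∑ b, _
    rw [Fintype.sum_mul_sum, Fintype.sum_prod_type]
    simp [mul_pow]
  set c : Fin N ⊕ Fin N → R :=
    Sum.elim (fun i => PowerSeries.coeff ((i : ℕ) + 1) f) (fun i => PowerSeries.coeff ((i : ℕ) + 1) g)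
  have h := congrArg (aeval c).toRingHom hU
  rw [map_mul, map_ghost _ (constantCoeff_mulSer _ _), map_ghost _ (constantCoeff_genSer _ _),
    map_ghost _ (constantCoeff_genSer _ _), map_mulSer] at h
  have hF := map_genSer_eq (N := N) (Sum.inl : Fin N → Fin N ⊕ Fin N) c f hf (fun _ => rfl)
  have hG := map_genSer_eq (N := N) (Sum.inr : Fin N → Fin N ⊕ Fin N) c g hg (fun _ => rfl)
  rw [ghost_congr hf (constantCoeff_map_one _ (constantCoeff_genSer _ _)) hF,
    ghost_congr hg (constantCoeff_map_one _ (constantCoeff_genSer _ _)) hG, ← h]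
  exact ghost_congr (constantCoeff_mulSer _ _) (constantCoeff_mulSer _ _)
    fun i hi => mulSer_congr hF hG hi

lemma cSer_congr {f f' : PowerSeries R} {N : ℕ}
    (hf : ∀ i ≤ N, PowerSeries.coeff i f = PowerSeries.coeff i f') {k i : ℕ}
    (hn : i * (k + 1) ≤ N) :
    PowerSeries.coeff i (cSer k f) = PowerSeries.coeff i (cSer k f') := by
  simp only [cSer, PowerSeries.coeff_mk]
  exact ghost_congr (constantCoeff_compSer _ _) (constantCoeff_compSer _ _)
    fun j hj => compSer_congr hf (le_trans (Nat.mul_le_mul_left i hj) hn)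

theorem ghost_cSer {f : PowerSeries R} (hf : PowerSeries.constantCoeff f = 1) (k k' : ℕ) :
    ghost k' (cSer k f) = ghost ((k + 1) * (k' + 1) - 1) f := by
  set N := (k + 1) * (k' + 1) with hN
  have hN1 : N - 1 + 1 = N := Nat.succ_pred_eq_of_pos (Nat.mul_pos k.succ_pos k'.succ_pos)
  have hmul : ∀ i ≤ k' + 1, i * (k + 1) ≤ N := fun i hi =>
    le_trans (Nat.mul_le_mul_right _ hi) (le_of_eq (Nat.mul_comm _ _))
  set F := genSer N (id : Fin N → Fin N)
  have hU : ghost k' (cSer k F) = ghost (N - 1) F := by
    apply esHom_injective N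
    change (esHom ℤ N).toRingHom _ = (esHom ℤ N).toRingHom _
    rw [map_ghost _ (constantCoeff_cSer _ _), map_ghost _ (constantCoeff_genSer _ _), map_cSer,
      map_genSer id _ id (fun a => by rw [rename_id_apply]; rfl),
      ghost_congr (g := eSer (((univ : Finset (Fin N)).val.map
          fun a => (X a : MvPolynomial (Fin N) ℤ)).map (· ^ (k + 1))))
        (constantCoeff_cSer _ _) (constantCoeff_eSer _) (fun i hi => ?_),
      ghost_eSer, ghost_eSer, Multiset.map_map, Multiset.map_map, Multiset.map_map]
    · congr 2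
      ext a : 1
      simp only [Function.comp_apply, id, hN1]
      exact (pow_mul _ _ _).symm
    · rw [cSer, PowerSeries.coeff_mk, ghost_congr (g := compEl N i) (constantCoeff_compSer _ _)
        (by rw [compEl_eq]; exact constantCoeff_eSer _) (fun j hj => ?_)]
      · rw [compEl_eq, ghost_eSer, coeff_eSer, Multiset.map_map, Multiset.map_map,
          Finset.esymm_map_val]
        exact Finset.sum_congr rfl fun s _ => (Finset.prod_pow s (k + 1) _).symm
      · have hij : i * j ≤ N := le_trans (Nat.mul_le_mul_left i hj) (hmul i hi)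
        rw [coeff_compEl, ← compPoly_stable hij (compPoly_spec i j), compSer, PowerSeries.coeff_mk]
        congr 2
        funext a
        rw [← rename_esymm_eq, rename_id_apply]
  set c : Fin N → R := fun i => PowerSeries.coeff ((i : ℕ) + 1) f
  have h := congrArg (aeval c).toRingHom hU
  rw [map_ghost _ (constantCoeff_cSer _ _), map_ghost _ (constantCoeff_genSer _ _), map_cSer] at h
  have hF := map_genSer_eq (N := N) (id : Fin N → Fin N) c f hf (fun _ => rfl)
  rw [ghost_congr (k := N - 1) hf (constantCoeff_map_one _ (constantCoeff_genSer _ _))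
    (fun i hi => hF i (by omega)), ← h]
  exact ghost_congr (constantCoeff_cSer _ _) (constantCoeff_cSer _ _)
    fun i hi => cSer_congr hF (hmul i hi)

/-! ### Special λ-rings -/

variable {K : Type u} [CommRing K] [LambdaOps K]

lemma lamSeries_mul_of_special (hK : IsSpecial K) (x y : K) :
    lamSeries (x * y) = mulSer (lamSeries x) (lamSeries y) := by
  ext n
  rw [coeff_lamSeries, hK.lam_mul n _ (mulPoly_spec n), mulSer, PowerSeries.coeff_mk]
  congr 2
  funext i
  rcases i with k | k <;> simp [coeff_lamSeries]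

lemma lamSeries_lam_of_special (hK : IsSpecial K) (i : ℕ) (x : K) :
    lamSeries (LambdaOps.lam i x) = compSer i (lamSeries x) := by
  ext n
  rw [coeff_lamSeries, hK.lam_lam i n _ (compPoly_spec i n), compSer, PowerSeries.coeff_mk]
  simp [coeff_lamSeries]

/-- The Adams operation ψ^(k+1) of a special λ-ring, as a ring map. -/
def psiHom (hK : IsSpecial K) (k : ℕ) : K →+* K where
  toFun x := ghost k (lamSeries x)
  map_one' := by
    rw [lamSeries_one hK.lam_one_eq_zero]
    simpa using ghost_linear (1 : K) k
  map_mul' x y := by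
    rw [lamSeries_mul_of_special hK, ghost_mulSer (constantCoeff_lamSeries x) (constantCoeff_lamSeries y)]
  map_zero' := by rw [lamSeries_zero, ghost_one]
  map_add' x y := by
    rw [lamSeries_add, ghost_mul (constantCoeff_lamSeries x) (constantCoeff_lamSeries y)]

lemma psiHom_apply (hK : IsSpecial K) (k : ℕ) (x : K) :
    psiHom hK k x = ghost k (lamSeries x) := rfl

lemma psiHom_psiHom (hK : IsSpecial K) (k k' : ℕ) (x : K) :
    psiHom hK k (psiHom hK k' x) = psiHom hK ((k + 1) * (k' + 1) - 1) x := by
  rw [psiHom_apply hK k' x, map_ghost _ (constantCoeff_lamSeries x),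
    show PowerSeries.map (psiHom hK k) (lamSeries x) = cSer k (lamSeries x) by
      ext i; rw [PowerSeries.coeff_map, coeff_lamSeries, psiHom_apply, lamSeries_lam_of_special hK,
        cSer, PowerSeries.coeff_mk],
    ghost_cSer (constantCoeff_lamSeries x), psiHom_apply]

theorem isSpecial_of_ghost [IsAddTorsionFree K]
    (h1 : ∀ k, ghost k (lamSeries (1 : K)) = 1)
    (hmul : ∀ k (x y : K),
      ghost k (lamSeries (x * y)) = ghost k (lamSeries x) * ghost k (lamSeries y))
    (hcomp : ∀ k k' (x : K), ghost k (lamSeries (ghost k' (lamSeries x))) =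
      ghost ((k + 1) * (k' + 1) - 1) (lamSeries x)) : IsSpecial K := by
  let ψ : ℕ → (K →+* K) := fun k =>
    { toFun := fun x => ghost k (lamSeries x)
      map_one' := h1 k
      map_mul' := hmul k
      map_zero' := by rw [lamSeries_zero, ghost_one]
      map_add' := fun x y => by
        rw [lamSeries_add, ghost_mul (constantCoeff_lamSeries x) (constantCoeff_lamSeries y)] }
  have e1 : lamSeries (1 : K) = 1 + PowerSeries.X := by
    refine series_eq_of_ghost (constantCoeff_lamSeries 1) (by simp) fun k => ?_
    rw [h1]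
    simpa using (ghost_linear (1 : K) k).symm
  have emul : ∀ x y : K, lamSeries (x * y) = mulSer (lamSeries x) (lamSeries y) := fun x y =>
    series_eq_of_ghost (constantCoeff_lamSeries _) (constantCoeff_mulSer _ _) fun k => by
      rw [ghost_mulSer (constantCoeff_lamSeries x) (constantCoeff_lamSeries y), hmul]
  have ec : ∀ k (x : K), PowerSeries.map (ψ k) (lamSeries x) = cSer k (lamSeries x) := fun k x =>
    series_eq_of_ghost (constantCoeff_map_one _ (constantCoeff_lamSeries x))
      (constantCoeff_cSer _ _) fun k' => by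
      rw [← map_ghost _ (constantCoeff_lamSeries x), ghost_cSer (constantCoeff_lamSeries x)]
      exact hcomp k k' x
  have elam : ∀ i (x : K), lamSeries (LambdaOps.lam i x) = compSer i (lamSeries x) := fun i x =>
    series_eq_of_ghost (constantCoeff_lamSeries _) (constantCoeff_compSer _ _) fun k => by
      have := congrArg (PowerSeries.coeff i) (ec k x)
      rw [PowerSeries.coeff_map, coeff_lamSeries, cSer, PowerSeries.coeff_mk] at this
      exact this
  refine ⟨fun n hn => ?_, fun n P hP x y => ?_, fun i j Q hQ x => ?_⟩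
  · rw [← coeff_lamSeries, e1]
    simp [PowerSeries.coeff_one, PowerSeries.coeff_X, show n ≠ 1 by omega, show n ≠ 0 by omega]
  · rw [← coeff_lamSeries, emul, mulSer, PowerSeries.coeff_mk, isMulPoly_unique hP (mulPoly_spec n)]
    congr 2
    funext k
    rcases k with k | k <;> simp [coeff_lamSeries]
  · rw [← coeff_lamSeries, elam, compSer, PowerSeries.coeff_mk,
      isCompPoly_unique hQ (compPoly_spec i j)]
    simp [coeff_lamSeries]

end Groth.Agent.H27Lambda
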