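import Groth.Agent.H27Lambda.ToddUniv
import Groth.Agent.H27Lambda.ChernMul

/-!
# `td(e) · ch(λ₋₁(e^∨)) = c_top(e)`
-/

universe u

open Finset LambdaRing

noncomputable section

namespace Groth.Agent.H27Lambda.ToddTop

open Groth.Agent.H22Alg Groth.Agent.H27Lambda Groth.Agent.H27Lambda.ChernMul Groth.Agent.H27Lambda.ToddUniv
open LaurentPolynomial (C T)

variable {K : Type u} [CommRing K] [LambdaOps K] {P : PosStructure K}

/-- The Chern classes of `e` as a point. -/
def cpt (P : PosStructure K) (m : ℕ) (e : K) : Fin m → KGr.Gr P :=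
  fun i => LamGr.qcls P ((i : ℕ) + 1) ⟨_, LamChern.gamma_mem e ((i : ℕ) + 1)⟩

section Class

variable {L : Type u} [CommRing L] [LambdaOps L] (f : K →+* L) (hfl : IsLambdaHom f) (hf : Function.Injective f)
  {m : ℕ} (e : K) (v : Fin m → L)

include hfl hf in
theorem qcls_eq_aeval (hγ : ∀ i, f (LambdaRing.gamma i (e - (P.aug e : K))) =
      ((univ : Finset (Fin m)).val.map fun t => v t - 1).esymm i)
    {n : ℕ} (x : gammaFiltration P n)
    (hx : f x = ∑ S : Finset (Fin m), (-1) ^ S.card * (∏ t ∈ Sᶜ, v t - ∏ t, v t) ^ n) :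
    LamGr.qcls P n x = MvPolynomial.aeval (cpt P m e) (Psi0 m n) := by
  classical
  let θ : MvPolynomial (Fin m) (Polynomial ℤ) →+* KGr.rees P :=
    MvPolynomial.eval₂Hom ((Polynomial.aeval (KGr.tGen P) : Polynomial ℤ →ₐ[ℤ] KGr.rees P) : Polynomial ℤ →+* KGr.rees P)
      fun i => ⟨C (LambdaRing.gamma ((i : ℕ) + 1) (e - (P.aug e : K))) * T (-(((i : ℕ) + 1 : ℕ) : ℤ)),
        LamGr.C_mul_T_mem (LamChern.gamma_mem e ((i : ℕ) + 1))⟩
  let F : LaurentPolynomial K →+* LaurentPolynomial L := AddMonoidAlgebra.mapRingHom ℤ f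
  have hFC : ∀ (a : K) (k : ℤ), F (C a * T k) = C (f a) * T k := fun a k => by
    rw [← LaurentPolynomial.single_eq_C_mul_T, ← LaurentPolynomial.single_eq_C_mul_T]
    exact AddMonoidAlgebra.mapRingHom_single _ _ _
  have hFT : F (T 1) = T 1 := by
    have := hFC 1 1
    simpa using this
  let φ : Polynomial ℤ →+* LaurentPolynomial L :=
    ((Polynomial.aeval (T 1 : LaurentPolynomial L) : Polynomial ℤ →ₐ[ℤ] LaurentPolynomial L) :
      Polynomial ℤ →+* LaurentPolynomial L)
  let w : Fin m → LaurentPolynomial L := fun t => C (v t - 1) * T (-1)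
  let ev : MvPolynomial (Fin m) (Polynomial ℤ) →+* LaurentPolynomial L := MvPolynomial.eval₂Hom φ w
  have hcomp : (F.comp (KGr.rees P).subtype).comp θ =
      ev.comp (MvPolynomial.aeval fun i : Fin m => MvPolynomial.esymm (Fin m) (Polynomial ℤ) (i + 1) :
        MvPolynomial (Fin m) (Polynomial ℤ) →ₐ[Polynomial ℤ] MvPolynomial (Fin m) (Polynomial ℤ)).toRingHom := by
    refine MvPolynomial.ringHom_ext' (Polynomial.ringHom_ext' (Subsingleton.elim _ _) ?_) fun i => ?_
    · simp [θ, ev, φ, KGr.tGen, hFT]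
    · show F ((θ (MvPolynomial.X i)) : LaurentPolynomial K) = ev (MvPolynomial.aeval _ (MvPolynomial.X i))
      rw [MvPolynomial.aeval_X]
      simp only [θ, MvPolynomial.eval₂Hom_X']
      rw [hFC, hγ, MvPolynomial.esymm, map_sum, Finset.esymm_map_val, map_sum, sum_mul]
      refine sum_congr rfl fun t ht => ?_
      simp only [ev, w, map_prod, MvPolynomial.eval₂Hom_X', prod_mul_distrib, prod_const,
        (mem_powersetCard.1 ht).2, LaurentPolynomial.T_pow]
      congr 1
      push_cast
      ring_nf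
  have hV : ∀ t, ev (V m t) = C (v t) := fun t => by
    simp only [V, ev, w, φ, map_add, map_one, map_mul, MvPolynomial.eval₂Hom_C, MvPolynomial.eval₂Hom_X',
      RingHom.coe_coe, Polynomial.aeval_X]
    rw [mul_left_comm, ← LaurentPolynomial.T_add]
    simp
  have hT : ev (MvPolynomial.C Polynomial.X) = T 1 := by simp [ev, φ]
  have h1 := congrArg ev (T_pow_mul_Q m n)
  rw [map_mul, map_pow, hT, LaurentPolynomial.T_pow, map_sum] at h1
  simp only [map_mul, map_pow, map_neg, map_one, map_sub, map_prod, hV] at h1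
  have hC : C (f x) = ∑ S : Finset (Fin m), (-1 : LaurentPolynomial L) ^ S.card *
      (∏ t ∈ Sᶜ, C (v t) - ∏ t, C (v t)) ^ n := by
    rw [hx, map_sum]
    simp only [map_mul, map_pow, map_neg, map_one, map_sub, map_prod]
  rw [← hC] at h1
  have hρ : θ (Psi m n) = ⟨C (x : K) * T (-(n : ℤ)), LamGr.C_mul_T_mem x.2⟩ := by
    refine Subtype.ext (AddMonoidAlgebra.ext ?_)
    have h2 : F ((θ (Psi m n)) : LaurentPolynomial K) = F (C (x : K) * T (-(n : ℤ))) := by
      rw [hFC]
      have h3 := RingHom.congr_fun hcomp (Psi m n)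
      simp only [RingHom.comp_apply] at h3
      refine h3.trans ?_
      rw [show (MvPolynomial.aeval fun i : Fin m => MvPolynomial.esymm (Fin m) (Polynomial ℤ) (i + 1)).toRingHom
        (Psi m n) = Q m n from aeval_Psi m n, ← h1, mul_comm (T _) (ev _), mul_assoc, ← LaurentPolynomial.T_add]
      simp
    refine Finsupp.ext fun a => hf ?_
    have := congrArg (fun p : LaurentPolynomial L => p.coeff a) h2
    simpa only [F, AddMonoidAlgebra.coeff_mapRingHom] using this
  let χ : MvPolynomial (Fin m) (Polynomial ℤ) →+* KGr.Gr P :=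
    MvPolynomial.eval₂Hom ((algebraMap ℚ (KGr.Gr P)).comp ((Int.castRingHom ℚ).comp ev0)) (cpt P m e)
  let inc : KGr.GrZ P →+* KGr.Gr P :=
    (Algebra.TensorProduct.includeRight : KGr.GrZ P →ₐ[ℤ] KGr.Gr P).toRingHom
  have hχ : (inc.comp (Ideal.Quotient.mk (Ideal.span {KGr.tGen P}))).comp θ = χ := by
    refine MvPolynomial.ringHom_ext' (Polynomial.ringHom_ext' (Subsingleton.elim _ _) ?_) fun i => ?_
    · have h0 : Ideal.Quotient.mk (Ideal.span {KGr.tGen P}) (KGr.tGen P) = 0 :=
        Ideal.Quotient.eq_zero_iff_mem.2 (Ideal.mem_span_singleton_self _)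
      simp [θ, χ, h0, ev0]
    · simp only [θ, χ, RingHom.comp_apply, MvPolynomial.eval₂Hom_X']
      rfl
  have h4 := RingHom.congr_fun hχ (Psi m n)
  rw [RingHom.comp_apply, RingHom.comp_apply, hρ] at h4
  rw [MvPolynomial.aeval_def, Psi0, MvPolynomial.eval₂_map]
  exact h4

end Class

variable {A : Type u} [CommRing A] [Algebra ℚ A] (G : LamChern.GrData P A)

/-- Weighted homogeneous evaluation lands in the graded pieces. -/
theorem coeff_aeval_mem {m : ℕ} (c : Fin m → A)
    (hc : ∀ i : Fin m, c i ∈ LamChern.hom G ((i : ℕ) + 1)) (q : MvPolynomial (Fin m) ℚ) :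
    ∀ a, (MvPolynomial.aeval (fun i : Fin m => Polynomial.C (c i) * Polynomial.X ^ ((i : ℕ) + 1)) q).coeff a ∈
      LamChern.hom G a := by
  induction q using MvPolynomial.induction_on with
  | C r =>
    intro a
    rw [MvPolynomial.aeval_C, Polynomial.algebraMap_apply, Polynomial.coeff_C]
    split_ifs with h
    · subst h
      rw [Algebra.algebraMap_eq_smul_one, ← G.one]
      exact Submodule.smul_mem _ r (Submodule.subset_span ⟨_, rfl⟩)
    · exact zero_mem _
  | add p q hp hq => intro a; rw [map_add, Polynomial.coeff_add]; exact add_mem (hp a) (hq a)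
  | mul_X p i hp =>
    intro a
    rw [map_mul, MvPolynomial.aeval_X, ← mul_assoc, Polynomial.coeff_mul_X_pow']
    split_ifs with h
    · rw [Polynomial.coeff_mul_C]
      have := LamChern.hom_mul G (hp (a - ((i : ℕ) + 1))) (hc i)
      rwa [Nat.sub_add_cancel h] at this
    · exact zero_mem _

/-- A relation between the roots without terms of degree `≤ d` holds between the Chern classes. -/
theorem aeval_eq_zero {d m : ℕ} (hd : gammaFiltration P (d + 1) = ⊥) (c : Fin m → A)
    (hc : ∀ i : Fin m, c i ∈ LamChern.hom G ((i : ℕ) + 1)) (q : MvPolynomial (Fin m) ℚ)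
    (hq : ∀ a ≤ d, (grd m q).coeff a = 0) : MvPolynomial.aeval c q = 0 := by
  classical
  let Qq : MvPolynomial (Fin m) ℚ →ₐ[ℚ] Polynomial (MvPolynomial (Fin m) ℚ) :=
    MvPolynomial.aeval fun i : Fin m => Polynomial.C (MvPolynomial.X i) * Polynomial.X ^ ((i : ℕ) + 1)
  let es : MvPolynomial (Fin m) ℚ →ₐ[ℚ] MvPolynomial (Fin m) ℚ :=
    MvPolynomial.aeval fun i : Fin m => MvPolynomial.esymm (Fin m) ℚ (i + 1)
  have h1 : (Polynomial.mapAlgHom es).comp Qq = grd m := MvPolynomial.algHom_ext fun i => by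
    simp [Qq, es, grd_X]
  have hinj : Function.Injective es := by
    have h := MvPolynomial.esymmAlgHom_injective (σ := Fin m) ℚ (n := m) (by simp)
    intro a b hab
    refine h (Subtype.ext ?_)
    rw [MvPolynomial.esymmAlgHom_apply, MvPolynomial.esymmAlgHom_apply]
    exact hab
  have h2 : ∀ a ≤ d, (Qq q).coeff a = 0 := fun a ha => by
    refine hinj ?_
    have := hq a ha
    rw [← h1] at this
    rw [map_zero]
    simpa [Polynomial.coe_mapAlgHom] using this
  let π : MvPolynomial (Fin m) ℚ →ₐ[ℚ] A := MvPolynomial.aeval c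
  have h3 : (Polynomial.mapAlgHom π).comp Qq =
      MvPolynomial.aeval (fun i : Fin m => Polynomial.C (c i) * Polynomial.X ^ ((i : ℕ) + 1)) :=
    MvPolynomial.algHom_ext fun i => by simp [Qq, π]
  have h4 : MvPolynomial.aeval (fun i : Fin m => Polynomial.C (c i) * Polynomial.X ^ ((i : ℕ) + 1)) q = 0 := by
    ext a
    rw [Polynomial.coeff_zero]
    rcases le_or_gt a d with ha | ha
    · rw [← h3]
      simp [Polynomial.coe_mapAlgHom, h2 a ha]
    · have h := coeff_aeval_mem G c hc q a
      have hbot : LamChern.hom G a = ⊥ := by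
        rw [LamChern.hom, Submodule.span_eq_bot]
        rintro _ ⟨y, rfl⟩
        exact LamChern.qc_bot G hd ha y
      rwa [hbot, Submodule.mem_bot] at h
  have h5 : ((Polynomial.aeval (1 : A)).restrictScalars ℚ).comp (MvPolynomial.aeval (fun i : Fin m => Polynomial.C (c i) * Polynomial.X ^ ((i : ℕ) + 1))) =
        MvPolynomial.aeval c := MvPolynomial.algHom_ext fun i => by simp
  rw [← h5, AlgHom.comp_apply, h4, map_zero]

theorem isLine_prod {ι : Type} [DecidableEq ι] {L : Type u} [CommRing L] [LambdaOps L] {R : PosStructure L}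
    (s : Finset ι) (v : ι → L) (hv : ∀ i ∈ s, R.IsLine (v i)) : R.IsLine (∏ i ∈ s, v i) := by
  induction s using Finset.induction with
  | empty => simpa using isLine_one R
  | insert a s ha ih =>
    rw [prod_insert ha]
    exact isLine_mul (hv a (mem_insert_self a s)) (ih fun i hi => hv i (mem_insert_of_mem hi))

theorem main (hK : HasSplitting K P) (d : ℕ) (hd : gammaFiltration P (d + 1) = ⊥)
    (inv : K → K) (hV : IsInvolution P inv) (hS : HasInvSplitting P inv) (e : K) (he : e ∈ P.pos) :
    KGr.tdK P d e *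
        KGr.chK P d (∑ i ∈ range ((P.aug e).toNat + 1), (-1 : K) ^ i * LambdaOps.lam i (inv e)) =
      KGr.chern P (P.aug e).toNat e := by
  classical
  obtain ⟨L, _, _, R, f, s, g, hf, hs, ht, hg, hse, hte, hm⟩ := exists_inv_model hV hS he
  have hm0 : 0 < (P.aug e).toNat := by have := P.aug_pos e he; omega
  set m := (P.aug e).toNat with hmdef
  have hlen : s.toList.length = m := by rw [Multiset.length_toList, hm]
  let v : Fin m → L := fun i => s.toList[(i : ℕ)]'(by omega)
  have hvs : (univ : Finset (Fin m)).val.map v = s := by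
    conv_rhs => rw [← s.coe_toList, ← List.ofFn_getElem (xs := s.toList)]
    rw [Fin.univ_val_map, List.ofFn_congr hlen]
    rfl
  have hvl : ∀ i, R.IsLine (v i) := fun i => hs _ (by rw [← hvs]; exact Multiset.mem_map_of_mem v (mem_univ i))
  have hvg : ∀ i, R.IsLine (g (v i)) := fun i =>
    ht _ (Multiset.mem_map_of_mem g (by rw [← hvs]; exact Multiset.mem_map_of_mem v (mem_univ i)))
  have hgv : ∀ i, g (v i) * v i = 1 := fun i => hg _ (by rw [← hvs]; exact Multiset.mem_map_of_mem v (mem_univ i))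
  have haug : ((P.aug e : ℤ) : K) = (m : K) := by
    rw [← Int.toNat_of_nonneg (P.aug_pos e he).le, ← hmdef, Int.cast_natCast]
  have hγ : ∀ i, f (LambdaRing.gamma i (e - (P.aug e : K))) =
      ((univ : Finset (Fin m)).val.map fun t => v t - 1).esymm i := fun i => by
    have h' := gamma_sum_lines_sub hs i
    rw [← hm] at h'
    rw [haug, map_gamma hf.isLambdaHom, map_sub, map_natCast, ← hse, h']
    conv_lhs => rw [← hvs]
    rw [Multiset.map_map]
    rfl
  set z := ∑ i ∈ range (m + 1), (-1 : K) ^ i * LambdaOps.lam i (inv e) with hz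
  have hfz : f z = ∑ S : Finset (Fin m), (-1) ^ S.card * ∏ t ∈ S, g (v t) := by
    rw [hz, map_sum]
    simp only [map_mul, map_pow, map_neg, map_one, hf.isLambdaHom _ (inv e), ← hte, lam_sum_lines ht]
    have h' := prod_one_sub_eq (s.map g)
    rw [Multiset.card_map, ← hm] at h'
    rw [← h', Multiset.map_map]
    conv_lhs => rw [← hvs, Multiset.map_map]
    show ∏ t : Fin m, (1 - g (v t)) = _
    simp only [sub_eq_neg_add]
    rw [prod_add, powerset_univ]
    exact sum_congr rfl fun S _ => by rw [prod_const_one, mul_one, prod_neg]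
  have hfu : f (LambdaOps.lam m e) = ∏ t, v t := by
    have h' : s.esymm m = s.prod := by
      have h'' : s.esymm (Multiset.card s) = s.prod := by
        rw [Multiset.esymm, Multiset.powersetCard_self]
        simp
      rwa [← hm] at h''
    rw [hf.isLambdaHom, ← hse, lam_sum_lines hs, h']
    conv_lhs => rw [← hvs]
    rfl
  have hu1 : LambdaOps.lam m e - 1 ∈ gammaFiltration P 1 := by
    rw [gammaFiltration_eq, ← gamma_one (LambdaOps.lam m e - 1)]
    refine gamma_mem_gammaFil P.aug 1 ?_
    rw [map_sub, map_one, ← hf.aug_comp, hfu, (isLine_prod univ v fun i _ => hvl i).2, sub_self]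
  have hun : ∀ n : ℕ, LambdaOps.lam m e ^ n - 1 ∈ gammaFiltration P 1 := fun n => by
    rw [gammaFiltration_eq] at hu1 ⊢
    obtain ⟨r, hr⟩ := sub_dvd_pow_sub_pow (LambdaOps.lam m e) 1 n
    rw [one_pow] at hr
    rw [hr]
    exact Ideal.mul_mem_right _ _ hu1
  -- the components of `ch z`
  have hL : ∀ (n : ℕ), f (ChernMul.L P n z * LambdaOps.lam m e ^ n) = ∑ S : Finset (Fin m), (-1) ^ S.card * (∏ t ∈ Sᶜ, v t - ∏ t, v t) ^ n := by
    intro n
    rw [map_mul, map_pow, hfu, map_L hf.isLambdaHom hf.aug_comp, hfz,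
      show ChernMul.L R n (∑ S : Finset (Fin m), (-1) ^ S.card * ∏ t ∈ S, g (v t)) =
        AddMonoidHom.mk' (ChernMul.L R n) (L_add R n)
          (∑ S : Finset (Fin m), ((-1 : ℤ) ^ S.card) • ∏ t ∈ S, g (v t)) by
        rw [AddMonoidHom.mk'_apply]
        congr 1
        exact sum_congr rfl fun S _ => by rw [zsmul_eq_mul]; push_cast; rfl, map_sum, sum_mul]
    refine sum_congr rfl fun S _ => ?_
    rw [map_zsmul, AddMonoidHom.mk'_apply, L_line (isLine_prod S _ fun i _ => hvg i), zsmul_eq_mul,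
      mul_assoc, ← mul_pow]
    push_cast
    congr 2
    rw [sub_mul, one_mul, ← prod_mul_prod_compl S v, ← mul_assoc, ← prod_mul_distrib,
      prod_eq_one (fun t _ => hgv t), one_mul, prod_mul_prod_compl]
  have hcomp : ∀ n, comp (LamChern.grData P) hK n z = MvPolynomial.aeval (cpt P m e) (Psi0 m n) := fun n => by
    have hmem : ChernMul.L P n z * LambdaOps.lam m e ^ n ∈ gammaFiltration P n := by
      have := H22Alg.LamGr.mul_mem_fil (L_mem hK n z) (show LambdaOps.lam m e ^ n ∈ gammaFiltration P 0 by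
        simp [gammaFiltration]) (k := n) le_rfl
      exact this
    rw [← qcls_eq_aeval f hf.isLambdaHom hf.injective e v hγ ⟨_, hmem⟩ (hL n)]
    show LamGr.qcls P n ⟨_, L_mem hK n z⟩ = _
    rw [← sub_eq_zero, ← map_sub]
    refine LamGr.qcls_eq_zero_of_mem_succ _ ?_
    show ChernMul.L P n z - ChernMul.L P n z * LambdaOps.lam m e ^ n ∈ _
    rw [show ChernMul.L P n z - ChernMul.L P n z * LambdaOps.lam m e ^ n =
      -(ChernMul.L P n z * (LambdaOps.lam m e ^ n - 1)) by ring]
    exact neg_mem (H22Alg.LamGr.mul_mem_fil (L_mem hK n z) (hun n) le_rfl)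
  have hch : KGr.chK P d z =
      MvPolynomial.aeval (cpt P m e) (∑ n ∈ range (d + 1), (1 / (n.factorial : ℚ)) • Psi0 m n) := by
    rw [LamChern.chK_eq_ch, ch_eq_sum (LamChern.grData P) hK hd, map_sum]
    exact sum_congr rfl fun n _ => by rw [map_smul, hcomp]
  have hchern : ∀ i, KGr.chern P i e = LamGr.qcls P i ⟨_, LamChern.gamma_mem e i⟩ := fun i => LamGr.grK_eq _
  rw [hch]
  rcases le_or_gt m d with hmd | hmd
  · have htd : KGr.tdK P d e = MvPolynomial.aeval (cpt P m e) (res m d (KGr.toddPoly d)) := by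
      rw [KGr.tdK, ← AlgHom.comp_apply]
      congr 1
      refine MvPolynomial.algHom_ext fun j => ?_
      rw [AlgHom.comp_apply, res, MvPolynomial.aeval_X, MvPolynomial.aeval_X]
      split_ifs with h
      · rw [MvPolynomial.aeval_X, hchern]; rfl
      · rw [map_zero, hchern]
        rw [show (⟨_, LamChern.gamma_mem e ((j : ℕ) + 1)⟩ : gammaFiltration P ((j : ℕ) + 1)) = 0 from
          Subtype.ext (hf.injective (by
            rw [hγ]
            simp [Multiset.esymm, Multiset.powersetCard_eq_empty, show m < (j : ℕ) + 1 by omega])), map_zero]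
    rw [htd, ← map_mul, ← sub_eq_zero]
    have hX : KGr.chern P m e = MvPolynomial.aeval (cpt P m e) (MvPolynomial.X (⟨m - 1, by omega⟩ : Fin m) : MvPolynomial (Fin m) ℚ) := by
      rw [MvPolynomial.aeval_X, hchern, cpt]
      have key : ∀ i k, i = k → LamGr.qcls P i ⟨_, LamChern.gamma_mem e i⟩ =
          LamGr.qcls P k ⟨_, LamChern.gamma_mem e k⟩ := by rintro i _ rfl; rfl
      exact key _ _ (show m = m - 1 + 1 by omega)
    rw [hX, ← map_sub]
    exact aeval_eq_zero (LamChern.grData P) hd (cpt P m e)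
      (fun i => Submodule.subset_span ⟨_, rfl⟩) _ fun a ha => coeff_grd_eq_zero m hmd hm0 ha
  · rw [hchern, show (⟨_, LamChern.gamma_mem e m⟩ : gammaFiltration P m) = 0 from
      Subtype.ext (LamChern.fil_bot hd hmd (LamChern.gamma_mem e m)), map_zero]
    have h0 : ∀ n ∈ range (d + 1), Psi0 m n = 0 := fun n hn => by
      refine (MvPolynomial.esymmAlgHom_injective (σ := Fin m) ℚ (n := m) (by simp)) (Subtype.ext ?_)
      rw [MvPolynomial.esymmAlgHom_apply, map_zero, ZeroMemClass.coe_zero]
      exact (aeval_Psi0 m n).trans (hsum_eq_zero m (by simp only [mem_range] at hn; omega))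
    rw [sum_congr rfl fun n hn => by rw [h0 n hn, smul_zero], sum_const_zero, map_zero, mul_zero]

end Groth.Agent.H27Lambda.ToddTop
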