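import Groth.Prelude.Def_KGr
import Groth.Agent.H27Lambda.Inv
import Mathlib

/-!
# Universal identities for the Todd class of the top Chern class

Formal roots `W_i`: the product `∏ β(W_i) (1 - exp(-W_i))` is `∏ W_i`.
-/

set_option autoImplicit false

open Finset

noncomputable section

namespace Groth.Agent.H27Lambda.ToddUniv

variable (m : ℕ)

/-- Evaluation at `T = 0`. -/
abbrev ev0 : Polynomial ℤ →+* ℤ := Polynomial.evalRingHom 0

/-- `1 + T W_i`. -/
def V (i : Fin m) : MvPolynomial (Fin m) (Polynomial ℤ) :=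
  1 + MvPolynomial.C Polynomial.X * MvPolynomial.X i

theorem exists_D (S : Finset (Fin m)) : ∃ D : MvPolynomial (Fin m) (Polynomial ℤ),
    ∏ i ∈ S, V m i - 1 = MvPolynomial.C Polynomial.X * D ∧
      MvPolynomial.map ev0 D = ∑ i ∈ S, MvPolynomial.X i := by
  induction S using Finset.induction with
  | empty => exact ⟨0, by simp, by simp⟩
  | insert a S ha ih =>
    obtain ⟨D, hD, hD0⟩ := ih
    refine ⟨MvPolynomial.X a + V m a * D, ?_, ?_⟩
    · rw [prod_insert ha, show ∏ i ∈ S, V m i = MvPolynomial.C Polynomial.X * D + 1 by rw [← hD]; ring, V]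
      ring
    · rw [sum_insert ha, map_add, map_mul, hD0, V]
      simp [ev0]

/-- The divided difference `(∏_S (1 + T W) - 1) / T`. -/
def D (S : Finset (Fin m)) : MvPolynomial (Fin m) (Polynomial ℤ) := (exists_D m S).choose

theorem D_spec (S : Finset (Fin m)) : ∏ i ∈ S, V m i - 1 = MvPolynomial.C Polynomial.X * D m S :=
  (exists_D m S).choose_spec.1

theorem map_D (S : Finset (Fin m)) : MvPolynomial.map ev0 (D m S) = ∑ i ∈ S, MvPolynomial.X i :=
  (exists_D m S).choose_spec.2

/-- `T⁻ⁿ Σ_S ± (∏_{Sᶜ}(1+TW) - ∏(1+TW))ⁿ`. -/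
def Q (n : ℕ) : MvPolynomial (Fin m) (Polynomial ℤ) :=
  ∑ S : Finset (Fin m), (-1) ^ S.card * (-((∏ i ∈ Sᶜ, V m i) * D m S)) ^ n

theorem T_pow_mul_Q (n : ℕ) :
    MvPolynomial.C Polynomial.X ^ n * Q m n =
      ∑ S : Finset (Fin m), (-1) ^ S.card * (∏ i ∈ Sᶜ, V m i - ∏ i, V m i) ^ n := by
  rw [Q, mul_sum]
  refine sum_congr rfl fun S _ => ?_
  rw [← prod_mul_prod_compl S (fun i => V m i),
    show ∏ i ∈ Sᶜ, V m i - (∏ i ∈ S, V m i) * ∏ i ∈ Sᶜ, V m i =
      MvPolynomial.C Polynomial.X * -((∏ i ∈ Sᶜ, V m i) * D m S) by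
      linear_combination -(∏ i ∈ Sᶜ, V m i) * D_spec m S]
  ring

theorem isSymmetric_Q (n : ℕ) : (Q m n).IsSymmetric := by
  intro e
  have hT : (MvPolynomial.C Polynomial.X : MvPolynomial (Fin m) (Polynomial ℤ)) ^ n ≠ 0 :=
    pow_ne_zero _ (by simp [Polynomial.X_ne_zero])
  refine mul_left_cancel₀ hT ?_
  have hV : ∀ i, MvPolynomial.rename e (V m i) = V m (e i) := fun i => by simp [V]
  have h := congrArg (MvPolynomial.rename e) (T_pow_mul_Q m n)
  simp only [map_mul, map_pow, MvPolynomial.rename_C, map_sum, map_neg, map_one, map_sub, map_prod, hV] at h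
  rw [h, T_pow_mul_Q]
  refine Fintype.sum_equiv e.finsetCongr _ _ fun S => ?_
  rw [Equiv.finsetCongr_apply, card_map, Equiv.prod_comp e (fun i => V m i)]
  congr 3
  rw [show (S.map e.toEmbedding)ᶜ = Sᶜ.map e.toEmbedding by
    ext x
    simp [Finset.mem_map_equiv], prod_map]
  rfl

/-- Its expression in the elementary symmetric polynomials. -/
def Psi (n : ℕ) : MvPolynomial (Fin m) (Polynomial ℤ) :=
  (MvPolynomial.esymmAlgEquiv (Fin m) (Polynomial ℤ) (Fintype.card_fin m)).symm ⟨Q m n, isSymmetric_Q m n⟩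

theorem aeval_Psi (n : ℕ) :
    MvPolynomial.aeval (fun i : Fin m => MvPolynomial.esymm (Fin m) (Polynomial ℤ) (i + 1)) (Psi m n) = Q m n := by
  have h := congrArg Subtype.val
    ((MvPolynomial.esymmAlgEquiv (Fin m) (Polynomial ℤ) (Fintype.card_fin m)).apply_symm_apply
      ⟨Q m n, isSymmetric_Q m n⟩)
  simp only at h
  rw [← h]
  exact (MvPolynomial.esymmAlgHom_apply _).symm

/-- The rational specialisation at `T = 0`. -/
def Psi0 (n : ℕ) : MvPolynomial (Fin m) ℚ :=
  MvPolynomial.map ((Int.castRingHom ℚ).comp ev0) (Psi m n)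

/-- The power sums with signs `Σ_S (-1)^|S| (-Σ_S W)ⁿ`. -/
def hsum (n : ℕ) : MvPolynomial (Fin m) ℚ :=
  ∑ S : Finset (Fin m), (-1) ^ S.card * (-∑ i ∈ S, MvPolynomial.X i) ^ n

theorem aeval_Psi0 (n : ℕ) :
    MvPolynomial.aeval (fun i : Fin m => MvPolynomial.esymm (Fin m) ℚ (i + 1)) (Psi0 m n) = hsum m n := by
  have h := congrArg (MvPolynomial.map ((Int.castRingHom ℚ).comp ev0)) (aeval_Psi m n)
  rw [MvPolynomial.aeval_def, MvPolynomial.eval₂_comp_left] at h
  have hV : ∀ i, MvPolynomial.map ((Int.castRingHom ℚ).comp ev0) (V m i) = 1 := fun i => by simp [V, ev0]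
  have hD : ∀ S, MvPolynomial.map ((Int.castRingHom ℚ).comp ev0) (D m S) = ∑ i ∈ S, MvPolynomial.X i := fun S => by
    rw [← MvPolynomial.map_map, map_D, map_sum]
    simp
  rw [MvPolynomial.aeval_def, Psi0, MvPolynomial.eval₂_map]
  simp only [Q, map_sum, map_mul, map_pow, map_neg, map_one, map_prod, hV, hD, prod_const_one, one_mul] at h
  rw [hsum, ← h]
  congr 1
  · ext x <;> simp [ev0]
  · funext i
    exact (MvPolynomial.map_esymm _ _ _ _).symm

section Series

variable {M : Type*} [CommRing M] [Algebra ℚ M]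

/-- `exp (a t)`. -/
def E (a : M) : PowerSeries M := PowerSeries.rescale a (PowerSeries.exp M)

theorem E_zero : E (0 : M) = 1 := by simp [E, PowerSeries.rescale_zero]

theorem E_sum {ι : Type*} [DecidableEq ι] (s : Finset ι) (a : ι → M) : ∏ i ∈ s, E (a i) = E (∑ i ∈ s, a i) := by
  induction s using Finset.induction with
  | empty => simp [E_zero]
  | insert b s hb ih =>
    rw [prod_insert hb, sum_insert hb, ih, E, E, E, PowerSeries.exp_mul_exp_eq_exp_add]

theorem bern_mul (w : M) :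
    PowerSeries.rescale w (bernoulli'PowerSeries M) * (1 - E (-w)) = PowerSeries.C w * PowerSeries.X := by
  have h := congrArg (PowerSeries.rescale w) (bernoulli'PowerSeries_mul_exp_sub_one M)
  rw [map_mul, map_sub, map_one, map_mul, PowerSeries.rescale_X, ← E] at h
  have h1 : E w * E (-w) = 1 := by
    rw [E, E, PowerSeries.exp_mul_exp_eq_exp_add, add_neg_cancel, ← E, E_zero]
  linear_combination E (-w) * h - (PowerSeries.rescale w (bernoulli'PowerSeries M) - PowerSeries.C w * PowerSeries.X) * h1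

end Series

theorem prod_one_sub_exp :
    ∏ i : Fin m, (1 - E (-(MvPolynomial.X i : MvPolynomial (Fin m) ℚ))) =
      ∑ S : Finset (Fin m), (-1) ^ S.card * E (-∑ i ∈ S, MvPolynomial.X i) := by
  classical
  simp only [sub_eq_neg_add]
  rw [prod_add, powerset_univ]
  refine sum_congr rfl fun S _ => ?_
  rw [prod_const_one, mul_one, prod_neg, E_sum, sum_neg_distrib]

theorem coeff_prod_one_sub_exp (n : ℕ) :
    PowerSeries.coeff n (∏ i : Fin m, (1 - E (-(MvPolynomial.X i : MvPolynomial (Fin m) ℚ)))) =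
      (1 / (n.factorial : ℚ)) • hsum m n := by
  rw [prod_one_sub_exp, map_sum, hsum, smul_sum]
  refine sum_congr rfl fun S _ => ?_
  have h : ((-1 : PowerSeries (MvPolynomial (Fin m) ℚ)) ^ S.card) =
      PowerSeries.C ((-1 : MvPolynomial (Fin m) ℚ) ^ S.card) := by simp
  rw [h, PowerSeries.coeff_C_mul, E, PowerSeries.coeff_rescale, PowerSeries.coeff_exp, Algebra.smul_def]
  ring

theorem hsum_eq_zero {n : ℕ} (hn : n < m) : hsum m n = 0 := by
  have h := coeff_prod_one_sub_exp m n
  have hd : (PowerSeries.X : PowerSeries (MvPolynomial (Fin m) ℚ)) ^ m ∣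
      ∏ i : Fin m, (1 - E (-(MvPolynomial.X i : MvPolynomial (Fin m) ℚ))) := by
    have h2 := prod_dvd_prod_of_dvd (s := (Finset.univ : Finset (Fin m)))
      (fun _ => (PowerSeries.X : PowerSeries (MvPolynomial (Fin m) ℚ)))
      (fun i => 1 - E (-(MvPolynomial.X i : MvPolynomial (Fin m) ℚ))) fun i _ => PowerSeries.X_dvd_iff.2 (by
        rw [← PowerSeries.coeff_zero_eq_constantCoeff_apply, map_sub, E, PowerSeries.coeff_rescale]
        simp)
    simpa using h2
  rw [PowerSeries.X_pow_dvd_iff.1 hd n hn] at h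
  exact (smul_eq_zero.1 h.symm).resolve_left (by simp [Nat.factorial_ne_zero])

/-- `W_i ↦ W_i t`. -/
def sc : MvPolynomial (Fin m) ℚ →ₐ[ℚ] Polynomial (MvPolynomial (Fin m) ℚ) :=
  MvPolynomial.aeval fun i => Polynomial.C (MvPolynomial.X i) * Polynomial.X

theorem sc_esymm (k : ℕ) :
    sc m (MvPolynomial.esymm (Fin m) ℚ k) = Polynomial.C (MvPolynomial.esymm (Fin m) ℚ k) * Polynomial.X ^ k := by
  rw [MvPolynomial.esymm, map_sum, map_sum, sum_mul]
  refine sum_congr rfl fun t ht => ?_
  simp only [sc, map_prod, MvPolynomial.aeval_X, prod_mul_distrib, prod_const, (mem_powersetCard.1 ht).2]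

theorem sc_hsum (n : ℕ) : sc m (hsum m n) = Polynomial.C (hsum m n) * Polynomial.X ^ n := by
  rw [hsum, map_sum, map_sum, sum_mul]
  refine sum_congr rfl fun S _ => ?_
  rw [map_mul, map_pow, map_pow, map_neg, map_neg, map_one, map_mul, map_pow, map_pow, map_neg, map_neg, map_one,
    map_sum, map_sum]
  simp only [sc, MvPolynomial.aeval_X, ← sum_mul]
  ring

/-- The weighted grading map `σ_i ↦ e_i t^i`. -/
def grd : MvPolynomial (Fin m) ℚ →ₐ[ℚ] Polynomial (MvPolynomial (Fin m) ℚ) :=
  (sc m).comp (MvPolynomial.aeval fun i : Fin m => MvPolynomial.esymm (Fin m) ℚ (i + 1))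

theorem grd_X (i : Fin m) :
    grd m (MvPolynomial.X i) = Polynomial.C (MvPolynomial.esymm (Fin m) ℚ (i + 1)) * Polynomial.X ^ ((i : ℕ) + 1) := by
  rw [grd, AlgHom.comp_apply, MvPolynomial.aeval_X, sc_esymm]

/-- Restriction from `d` to `m` variables. -/
def res (d : ℕ) : MvPolynomial (Fin d) ℚ →ₐ[ℚ] MvPolynomial (Fin m) ℚ :=
  MvPolynomial.aeval fun j : Fin d => if h : (j : ℕ) < m then MvPolynomial.X ⟨j, h⟩ else 0

theorem esymm_eq_zero {k : ℕ} (h : m < k) : MvPolynomial.esymm (Fin m) ℚ k = 0 := by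
  simp [MvPolynomial.esymm, powersetCard_eq_empty.2 (show (univ : Finset (Fin m)).card < k by simpa using h)]

theorem aeval_res_toddPoly {d : ℕ} (hmd : m ≤ d) :
    MvPolynomial.aeval (fun i : Fin m => MvPolynomial.esymm (Fin m) ℚ (i + 1)) (res m d (KGr.toddPoly d)) =
      ∏ i : Fin m, Polynomial.aeval (MvPolynomial.X i : MvPolynomial (Fin m) ℚ) (KGr.toddTrunc d) := by
  classical
  obtain ⟨k, rfl⟩ : ∃ k, d = m + k := ⟨d - m, by omega⟩
  let z : Fin (m + k) → MvPolynomial (Fin m) ℚ := fun j => Fin.addCases (fun i => MvPolynomial.X i) (fun _ => 0) j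
  have hz : ∀ r, MvPolynomial.aeval z (MvPolynomial.esymm (Fin (m + k)) ℚ r) = MvPolynomial.esymm (Fin m) ℚ r := by
    intro r
    rw [MvPolynomial.aeval_esymm_eq_multiset_esymm, MvPolynomial.esymm_eq_multiset_esymm,
      ← coeff_prod_one_add_mul_X, ← coeff_prod_one_add_mul_X, Multiset.map_map, Multiset.map_map]
    congr 1
    show ∏ j : Fin (m + k), (1 + PowerSeries.C (z j) * PowerSeries.X) =
      ∏ i : Fin m, (1 + PowerSeries.C (MvPolynomial.X i) * PowerSeries.X)
    rw [Fin.prod_univ_add]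
    simp [z]
  have h1 : (MvPolynomial.aeval (fun i : Fin m => MvPolynomial.esymm (Fin m) ℚ (i + 1))).comp (res m (m + k)) =
      (MvPolynomial.aeval z).comp (MvPolynomial.aeval fun j : Fin (m + k) => MvPolynomial.esymm (Fin (m + k)) ℚ (j + 1)) := by
    refine MvPolynomial.algHom_ext fun j => ?_
    rw [AlgHom.comp_apply, AlgHom.comp_apply, MvPolynomial.aeval_X, hz, res, MvPolynomial.aeval_X]
    split_ifs with h
    · rw [MvPolynomial.aeval_X]
    · rw [map_zero, esymm_eq_zero m (by omega)]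
  have h2 := congrArg Subtype.val
    ((MvPolynomial.esymmAlgEquiv (Fin (m + k)) ℚ (Fintype.card_fin (m + k))).apply_symm_apply
      ⟨∏ i : Fin (m + k), Polynomial.aeval (MvPolynomial.X i) (KGr.toddTrunc (m + k)),
        KGr.isSymmetric_prod_aeval (m + k) (KGr.toddTrunc (m + k))⟩)
  simp only at h2
  have h3 : MvPolynomial.aeval (fun j : Fin (m + k) => MvPolynomial.esymm (Fin (m + k)) ℚ (j + 1))
      (KGr.toddPoly (m + k)) = ∏ i : Fin (m + k), Polynomial.aeval (MvPolynomial.X i) (KGr.toddTrunc (m + k)) := by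
    rw [← h2]
    exact (MvPolynomial.esymmAlgHom_apply _).symm
  rw [← AlgHom.comp_apply, h1, AlgHom.comp_apply, h3, map_prod, Fin.prod_univ_add]
  simp only [← Polynomial.aeval_algHom_apply, MvPolynomial.aeval_X, z, Fin.addCases_left, Fin.addCases_right]
  rw [mul_eq_left₀ ?_]
  · refine prod_eq_one fun i _ => ?_
    rw [Polynomial.aeval_def, Polynomial.eval₂_at_zero, KGr.toddTrunc, Polynomial.finsetSum_coeff,
      sum_eq_single 0]
    · simp
    · intro b _ hb
      simp [Polynomial.coeff_X_pow, Ne.symm hb]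
    · simp
  · refine prod_ne_zero_iff.2 fun i _ h => ?_
    have h0 := congrArg MvPolynomial.constantCoeff h
    rw [KGr.toddTrunc, map_sum, map_sum, sum_eq_single 0] at h0
    · simp at h0
    · intro b _ hb
      simp [zero_pow hb]
    · simp

/-- The universal relation `td · ch(λ₋₁ dual) - c_top` has no terms of degree at most `d`. -/
theorem coeff_grd_eq_zero {d : ℕ} (hmd : m ≤ d) (hm : 0 < m) {a : ℕ} (ha : a ≤ d) :
    (grd m (res m d (KGr.toddPoly d) * (∑ n ∈ range (d + 1), (1 / (n.factorial : ℚ)) • Psi0 m n) -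
      MvPolynomial.X (⟨m - 1, by omega⟩ : Fin m))).coeff a = 0 := by
  classical
  rw [map_sub, map_mul, map_sum, grd_X]
  simp only [map_smul]
  have e1 : ∀ n, grd m (Psi0 m n) = Polynomial.C (hsum m n) * Polynomial.X ^ n := fun n => by
    rw [grd, AlgHom.comp_apply, aeval_Psi0, sc_hsum]
  have e2 : grd m (res m d (KGr.toddPoly d)) =
      ∏ i : Fin m, Polynomial.aeval (Polynomial.C (MvPolynomial.X i : MvPolynomial (Fin m) ℚ) * Polynomial.X)
        (KGr.toddTrunc d) := by
    rw [grd, AlgHom.comp_apply, aeval_res_toddPoly m hmd, map_prod]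
    refine prod_congr rfl fun i _ => ?_
    rw [← Polynomial.aeval_algHom_apply, sc, MvPolynomial.aeval_X]
  simp only [e1, e2, show m - 1 + 1 = m by omega]
  let π : PowerSeries (MvPolynomial (Fin m) ℚ) →+*
      PowerSeries (MvPolynomial (Fin m) ℚ) ⧸ Ideal.span {(PowerSeries.X : PowerSeries (MvPolynomial (Fin m) ℚ)) ^ (d + 1)} :=
    Ideal.Quotient.mk _
  have hπ : ∀ u v : PowerSeries (MvPolynomial (Fin m) ℚ),
      (∀ b, b ≤ d → PowerSeries.coeff b u = PowerSeries.coeff b v) → π u = π v := fun u v h => by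
    refine Ideal.Quotient.eq.2 (Ideal.mem_span_singleton.2 (PowerSeries.X_pow_dvd_iff.2 fun b hb => ?_))
    rw [map_sub, h b (by omega), sub_self]
  rw [← Polynomial.coeff_coe]
  suffices hzero : π ((_ : Polynomial (MvPolynomial (Fin m) ℚ)) : PowerSeries (MvPolynomial (Fin m) ℚ)) = 0 from
    PowerSeries.X_pow_dvd_iff.1 (Ideal.mem_span_singleton.1 (Ideal.Quotient.eq_zero_iff_mem.1 hzero)) a (by omega)
  rw [← Polynomial.coeToPowerSeries.ringHom_apply, map_sub, map_mul, map_prod, map_sub, map_mul, map_prod, sub_eq_zero]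
  have hb : ∀ i : Fin m, π (Polynomial.coeToPowerSeries.ringHom
      (Polynomial.aeval (Polynomial.C (MvPolynomial.X i : MvPolynomial (Fin m) ℚ) * Polynomial.X) (KGr.toddTrunc d))) =
      π (PowerSeries.rescale (MvPolynomial.X i) (bernoulli'PowerSeries (MvPolynomial (Fin m) ℚ))) := by
    intro i
    refine hπ _ _ fun b hb => ?_
    rw [Polynomial.coeToPowerSeries.ringHom_apply, Polynomial.coeff_coe, PowerSeries.coeff_rescale, KGr.toddTrunc,
      map_sum, Polynomial.finsetSum_coeff, sum_eq_single b, bernoulli'PowerSeries, PowerSeries.coeff_mk]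
    · rw [map_mul, Polynomial.aeval_C, map_pow, Polynomial.aeval_X, mul_pow, ← map_pow,
        Polynomial.algebraMap_apply, ← mul_assoc, ← map_mul, Polynomial.coeff_C_mul, Polynomial.coeff_X_pow, if_pos rfl]
      ring
    · intro c _ hc
      rw [map_mul, Polynomial.aeval_C, map_pow, Polynomial.aeval_X, mul_pow, ← map_pow,
        Polynomial.algebraMap_apply, ← mul_assoc, ← map_mul, Polynomial.coeff_C_mul, Polynomial.coeff_X_pow,
        if_neg (Ne.symm hc), mul_zero]
    · intro h; exact absurd (mem_range.2 (by omega)) h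
  have hh : π (Polynomial.coeToPowerSeries.ringHom
      (∑ n ∈ range (d + 1), (1 / (n.factorial : ℚ)) • (Polynomial.C (hsum m n) * Polynomial.X ^ n))) =
      π (∏ i : Fin m, (1 - E (-(MvPolynomial.X i : MvPolynomial (Fin m) ℚ)))) := by
    refine hπ _ _ fun b hb => ?_
    rw [Polynomial.coeToPowerSeries.ringHom_apply, Polynomial.coeff_coe, coeff_prod_one_sub_exp,
      Polynomial.finsetSum_coeff, sum_eq_single b]
    · rw [Polynomial.coeff_smul, Polynomial.coeff_C_mul, Polynomial.coeff_X_pow, if_pos rfl, mul_one]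
    · intro c _ hc
      rw [Polynomial.coeff_smul, Polynomial.coeff_C_mul, Polynomial.coeff_X_pow, if_neg (Ne.symm hc), mul_zero,
        smul_zero]
    · intro h; exact absurd (mem_range.2 (by omega)) h
  rw [hh, map_prod, prod_congr rfl fun i _ => hb i, ← prod_mul_distrib]
  simp only [← map_mul, bern_mul]
  rw [← map_prod, prod_mul_distrib, prod_const, card_univ, Fintype.card_fin, ← map_prod]
  congr 1
  have hesymm : MvPolynomial.esymm (Fin m) ℚ m = ∏ i : Fin m, MvPolynomial.X i := by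
    rw [MvPolynomial.esymm]
    conv_lhs => enter [1, 1]; rw [show m = (univ : Finset (Fin m)).card by simp]
    rw [powersetCard_self, sum_singleton]
  rw [hesymm]
  simp only [← Polynomial.coeToPowerSeries.ringHom_apply, map_mul, map_prod, map_pow]
  simp [Polynomial.coeToPowerSeries.ringHom_apply]

end Groth.Agent.H27Lambda.ToddUniv
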