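import Groth.Agent.H27Lambda.Ghost
import Mathlib.RingTheory.MvPolynomial.Symmetric.FundamentalTheorem
import Mathlib.Algebra.MvPolynomial.Equiv
import Mathlib.Algebra.MvPolynomial.Variables
import Mathlib.Algebra.Order.Monoid.Prod

/-! The universal polynomials P_n and Q_{i,j}: existence, uniqueness, stability. -/

universe u

open MvPolynomial Finset LambdaRing

noncomputable section

namespace Groth.Agent.H27Lambda

variable {R : Type u} [CommRing R]

/-- The map X_k ↦ e_(k+1). -/
abbrev esHom (R : Type u) [CommRing R] (n : ℕ) : MvPolynomial (Fin n) R →ₐ[R] MvPolynomial (Fin n) R :=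
  aeval fun k : Fin n => esymm (Fin n) R ((k : ℕ) + 1)

lemma esHom_injective (n : ℕ) : Function.Injective (esHom R n) := by
  intro p q h
  refine (esymmAlgHom_fin_bijective (R := R) n).1 (Subtype.ext ?_)
  simpa [esymmAlgHom_apply] using h

lemma exists_esHom_eq {n : ℕ} {f : MvPolynomial (Fin n) R} (hf : f.IsSymmetric) :
    ∃ P, esHom R n P = f := by
  obtain ⟨P, hP⟩ := (esymmAlgHom_fin_bijective (R := R) n).2 ⟨f, hf⟩
  exact ⟨P, by simpa [esymmAlgHom_apply] using congrArg Subtype.val hP⟩

lemma map_esHom {S : Type*} [CommRing S] (f : R →+* S) {n : ℕ} (P : MvPolynomial (Fin n) R) :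
    MvPolynomial.map f (esHom R n P) =
      aeval (fun k : Fin n => esymm (Fin n) S ((k : ℕ) + 1)) (MvPolynomial.map f P) := by
  induction P using MvPolynomial.induction_on with
  | C a => simp
  | add p q hp hq => simp [map_add, hp, hq]
  | mul_X p k hp => simp [map_mul, hp, map_esymm]

/-! ### Two families -/

/-- The substitution e_k(T), e_k(U). -/
def eFam (n : ℕ) : Fin n ⊕ Fin n → MvPolynomial (Fin n ⊕ Fin n) ℤ :=
  Sum.elim (fun k : Fin n => rename Sum.inl (esymm (Fin n) ℤ ((k : ℕ) + 1)))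
    (fun k : Fin n => rename Sum.inr (esymm (Fin n) ℤ ((k : ℕ) + 1)))

lemma sumAlgEquiv_aeval_eFam (n : ℕ) (P : MvPolynomial (Fin n ⊕ Fin n) ℤ) :
    sumAlgEquiv ℤ (Fin n) (Fin n) (aeval (eFam n) P) =
      esHom (MvPolynomial (Fin n) ℤ) n
        (MvPolynomial.map (esHom ℤ n).toRingHom (sumAlgEquiv ℤ (Fin n) (Fin n) P)) := by
  induction P using MvPolynomial.induction_on with
  | C a => simp
  | add p q hp hq => simp [map_add, hp, hq]
  | mul_X p i hp =>
    simp only [map_mul, hp, aeval_X]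
    congr 1
    rcases i with k | k
    · have h := AlgHom.congr_fun (sumAlgEquiv_comp_rename_inl (R := ℤ) (S₁ := Fin n) (S₂ := Fin n))
        (esymm (Fin n) ℤ ((k : ℕ) + 1))
      simp only [AlgHom.comp_apply] at h
      simp only [eFam, Sum.elim_inl, sumAlgEquiv_X_inl, map_X, aeval_X]
      exact h.trans (map_esymm (Fin n) ℤ _ _)
    · have h := AlgHom.congr_fun (sumAlgEquiv_comp_rename_inr (R := ℤ) (S₁ := Fin n) (S₂ := Fin n))
        (esymm (Fin n) ℤ ((k : ℕ) + 1))
      simp only [AlgHom.comp_apply] at h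
      simp only [eFam, Sum.elim_inr, sumAlgEquiv_X_inr, map_C]
      exact h.trans (by simp)

lemma aeval_eFam_injective (n : ℕ) :
    Function.Injective (aeval (eFam n) : MvPolynomial (Fin n ⊕ Fin n) ℤ →ₐ[ℤ] _) := by
  intro p q h
  have h' := congrArg (sumAlgEquiv ℤ (Fin n) (Fin n)) h
  rw [sumAlgEquiv_aeval_eFam, sumAlgEquiv_aeval_eFam] at h'
  exact (sumAlgEquiv ℤ (Fin n) (Fin n)).injective
    (MvPolynomial.map_injective _ (esHom_injective n) (esHom_injective n h'))

/-! ### Weights -/

lemma isWH_aeval {σ τ M : Type*} [AddCommMonoid M] {w : σ → M} {w' : τ → M}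
    {g : σ → MvPolynomial τ R} (hg : ∀ i, IsWeightedHomogeneous w' (g i) (w i))
    (d : σ →₀ ℕ) (r : R) :
    IsWeightedHomogeneous w' (aeval g (monomial d r)) (Finsupp.weight w d) := by
  rw [aeval_monomial, algebraMap_eq, Finsupp.weight_apply]
  exact (IsWeightedHomogeneous.prod d.support (fun i => g i ^ d i) (fun i => d i • w i)
    fun i _ => (hg i).pow (d i)).C_mul r

lemma component_aeval {σ τ M : Type*} [AddCommMonoid M] [DecidableEq M] {w : σ → M} {w' : τ → M}
    {g : σ → MvPolynomial τ R} (hg : ∀ i, IsWeightedHomogeneous w' (g i) (w i))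
    (m : M) (P : MvPolynomial σ R) :
    weightedHomogeneousComponent w' m (aeval g P) =
      aeval g (weightedHomogeneousComponent w m P) := by
  induction P using MvPolynomial.induction_on' with
  | monomial d r =>
    rw [weightedHomogeneousComponent_of_mem (isWH_aeval hg d r),
      weightedHomogeneousComponent_of_mem
        (isWeightedHomogeneous_monomial w d r rfl)]
    split_ifs <;> simp
  | add p q hp hq => simp only [map_add, hp, hq]

lemma isWH_esymm {σ : Type*} [Fintype σ] {τ M : Type*} [AddCommMonoid M] {w : τ → M} {c : M}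
    {f : σ → τ} (hf : ∀ a, w (f a) = c) (k : ℕ) :
    IsWeightedHomogeneous w (rename f (esymm σ R k)) (k • c) := by
  rw [esymm, map_sum]
  refine IsWeightedHomogeneous.sum _ _ _ fun t ht => ?_
  rw [map_prod]
  have := IsWeightedHomogeneous.prod t (fun a => rename f (X a : MvPolynomial σ R)) (fun _ => c)
    (fun a _ => by rw [rename_X, ← hf a]; exact isWeightedHomogeneous_X R w (f a))
  rwa [sum_const, (mem_powersetCard.1 ht).2] at this

/-! ### The series of products -/

/-- ∏ (1 + T_a U_b t). -/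
def mulEl (N : ℕ) : PowerSeries (MvPolynomial (Fin N ⊕ Fin N) ℤ) :=
  eSer ((Finset.univ : Finset (Fin N × Fin N)).val.map
    fun ab => (X (Sum.inl ab.1) * X (Sum.inr ab.2)))

lemma coeff_mulEl (N k : ℕ) : PowerSeries.coeff k (mulEl N) = mulGen N k := by
  rw [mulEl, coeff_eSer]; rfl

lemma eSer_univ {ι : Type*} [Fintype ι] (f : ι → R) :
    eSer ((univ : Finset ι).val.map f) = ∏ a, (1 + PowerSeries.C (f a) * PowerSeries.X) := by
  simp only [eSer, Multiset.map_map]; rfl

lemma rescale_eSer (a : R) (s : Multiset R) :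
    PowerSeries.rescale a (eSer s) = eSer (s.map (a * ·)) := by
  simp only [eSer, map_multiset_prod, Multiset.map_map]
  congr 2
  ext v : 1
  have : PowerSeries.rescale a (PowerSeries.C v) = PowerSeries.C v := by
    ext n; rw [PowerSeries.coeff_rescale]; cases n <;> simp [PowerSeries.coeff_C]
  simp only [Function.comp_apply, map_add, map_one, map_mul, PowerSeries.rescale_X, this]
  ring

theorem exists_mulGen_eq (N m : ℕ) :
    ∃ P : MvPolynomial (Fin N ⊕ Fin N) ℤ, aeval (eFam N) P = mulGen N m ∧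
      IsWeightedHomogeneous
        (Sum.elim (fun k : Fin N => (((k : ℕ) + 1, 0) : ℕ × ℕ))
          (fun k : Fin N => ((0, (k : ℕ) + 1) : ℕ × ℕ))) P ((m, m) : ℕ × ℕ) := by
  classical
  let S := symmetricSubalgebra (Fin N) ℤ
  let EY : PowerSeries S := PowerSeries.mk fun k => ⟨esymm (Fin N) ℤ k, esymm_isSymmetric _ _ k⟩
  let F : MvPolynomial (Fin N) S :=
    PowerSeries.coeff m (∏ a : Fin N, PowerSeries.rescale (X a : MvPolynomial (Fin N) S)
      (PowerSeries.map (C : S →+* MvPolynomial (Fin N) S) EY))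
  have hF : F.IsSymmetric := by
    intro e
    change (rename e).toRingHom F = F
    simp only [F]
    rw [← PowerSeries.coeff_map, map_prod]
    congr 1
    refine Fintype.prod_equiv e _ _ fun a => ?_
    ext k : 1
    simp
  obtain ⟨P1, hP1⟩ := exists_esHom_eq hF
  have hval : MvPolynomial.map S.val.toRingHom F =
      sumAlgEquiv ℤ (Fin N) (Fin N) (mulGen N m) := by
    change _ = (sumAlgEquiv ℤ (Fin N) (Fin N)).toAlgHom.toRingHom (mulGen N m)
    simp only [F]
    rw [← coeff_mulEl, ← PowerSeries.coeff_map, ← PowerSeries.coeff_map, map_prod, mulEl, map_eSer,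
      Multiset.map_map, eSer_univ, Fintype.prod_prod_type]
    congr 1
    refine Finset.prod_congr rfl fun a _ => ?_
    have h1 : PowerSeries.map (MvPolynomial.map S.val.toRingHom)
        (PowerSeries.map (C : S →+* MvPolynomial (Fin N) S) EY) =
        eSer ((univ : Finset (Fin N)).val.map
          fun b => (C (X b) : MvPolynomial (Fin N) (MvPolynomial (Fin N) ℤ))) := by
      have : eSer ((univ : Finset (Fin N)).val.map fun b => (X b : MvPolynomial (Fin N) ℤ)) =
          PowerSeries.mk fun k => esymm (Fin N) ℤ k := by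
        ext k : 1; rw [coeff_eSer, PowerSeries.coeff_mk, esymm_eq_multiset_esymm]
      rw [show ((univ : Finset (Fin N)).val.map
          fun b => (C (X b) : MvPolynomial (Fin N) (MvPolynomial (Fin N) ℤ))) =
          ((univ : Finset (Fin N)).val.map fun b => (X b : MvPolynomial (Fin N) ℤ)).map C by
        rw [Multiset.map_map]; rfl, ← map_eSer, this]
      ext k : 1
      simp [EY]
    rw [← PowerSeries.rescale_map, h1, map_X, rescale_eSer, Multiset.map_map, eSer_univ]
    refine Finset.prod_congr rfl fun b _ => ?_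
    simp
  have hsurj : Function.Surjective (esymmAlgHom (Fin N) ℤ N).toRingHom :=
    (esymmAlgHom_fin_bijective (R := ℤ) N).2
  obtain ⟨Q, hQ⟩ := MvPolynomial.map_surjective _ hsurj P1
  have hQ' : MvPolynomial.map S.val.toRingHom P1 = MvPolynomial.map (esHom ℤ N).toRingHom Q := by
    rw [← hQ, MvPolynomial.map_map]
    congr 2
    exact RingHom.ext fun x => esymmAlgHom_apply x
  set w : Fin N ⊕ Fin N → ℕ × ℕ :=
    Sum.elim (fun _ => (1, 0)) (fun _ => (0, 1)) with hw
  refine ⟨weightedHomogeneousComponent _ (m, m) ((sumAlgEquiv ℤ (Fin N) (Fin N)).symm Q), ?_,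
    weightedHomogeneousComponent_isWeightedHomogeneous _ _⟩
  rw [← component_aeval (w' := w) (g := eFam N)]
  · have hA : aeval (eFam N) ((sumAlgEquiv ℤ (Fin N) (Fin N)).symm Q) = mulGen N m := by
      apply (sumAlgEquiv ℤ (Fin N) (Fin N)).injective
      rw [sumAlgEquiv_aeval_eFam, AlgEquiv.apply_symm_apply, ← hval, ← hP1, map_esHom, ← hQ']
    rw [hA]
    refine IsWeightedHomogeneous.weightedHomogeneousComponent_same ?_
    rw [mulGen, Finset.esymm_map_val]
    refine IsWeightedHomogeneous.sum _ _ _ fun t ht => ?_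
    have := IsWeightedHomogeneous.prod t
      (fun ab => (X (Sum.inl ab.1) * X (Sum.inr ab.2) : MvPolynomial (Fin N ⊕ Fin N) ℤ))
      (fun _ => ((1, 1) : ℕ × ℕ))
      (fun ab _ => (isWeightedHomogeneous_X ℤ w (Sum.inl ab.1)).mul
        (isWeightedHomogeneous_X ℤ w (Sum.inr ab.2)))
    rw [sum_const, (mem_powersetCard.1 ht).2] at this
    simpa using this
  · rintro (k | k)
    · simpa [eFam] using isWH_esymm (R := ℤ) (w := w) (c := ((1, 0) : ℕ × ℕ))
        (f := Sum.inl) (fun _ : Fin N => rfl) ((k : ℕ) + 1)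
    · simpa [eFam] using isWH_esymm (R := ℤ) (w := w) (c := ((0, 1) : ℕ × ℕ))
        (f := Sum.inr) (fun _ : Fin N => rfl) ((k : ℕ) + 1)

theorem exists_isMulPoly' (n : ℕ) : ∃ P, IsMulPoly n P := exists_mulGen_eq n n

lemma isMulPoly_unique {n : ℕ} {P Q : MvPolynomial (Fin n ⊕ Fin n) ℤ}
    (hP : IsMulPoly n P) (hQ : IsMulPoly n Q) : P = Q :=
  aeval_eFam_injective n (hP.1.trans hQ.1.symm)

lemma rename_esymm_eq {σ τ : Type*} [Fintype σ] (f : σ → τ) (k : ℕ) :
    rename f (esymm σ ℤ k) =
      PowerSeries.coeff k (eSer ((univ : Finset σ).val.map fun a => (X (f a) : MvPolynomial τ ℤ))) := by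
  rw [coeff_eSer, ← aeval_esymm_eq_multiset_esymm σ ℤ]
  have : rename f = aeval (R := ℤ) (fun a => (X (f a) : MvPolynomial τ ℤ)) := by ext; simp
  rw [this]

/-- Stability of P_m under adding variables. -/
theorem mulPoly_stable {m N : ℕ} (hN : m ≤ N) {P : MvPolynomial (Fin m ⊕ Fin m) ℤ}
    (hP : IsMulPoly m P) :
    aeval (fun i => eFam N (Sum.map (Fin.castLE hN) (Fin.castLE hN) i)) P = mulGen N m := by
  classical
  obtain ⟨Q, hQ, hQh⟩ := exists_mulGen_eq N m
  obtain ⟨Q', rfl⟩ := exists_rename_eq_of_vars_subset_range Q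
    (Sum.map (Fin.castLE hN) (Fin.castLE hN))
    ((Fin.castLE_injective hN).sumMap (Fin.castLE_injective hN)) (by
      intro i hi
      obtain ⟨d, hd, hid⟩ := (mem_vars i).1 hi
      have hle := Finsupp.le_weight_of_ne_zero (w := Sum.elim (fun k : Fin N => (((k : ℕ) + 1, 0) : ℕ × ℕ))
          (fun k : Fin N => ((0, (k : ℕ) + 1) : ℕ × ℕ))) (fun _ => zero_le)
        (Finsupp.mem_support_iff.1 hid)
      rw [hQh (mem_support_iff.1 hd), Prod.mk_le_mk] at hle
      rcases i with k | k
      · exact ⟨Sum.inl ⟨k, by simp at hle; omega⟩, rfl⟩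
      · exact ⟨Sum.inr ⟨k, by simp at hle; omega⟩, rfl⟩)
  rw [aeval_rename] at hQ
  suffices h : Q' = P by subst h; exact hQ
  apply aeval_eFam_injective m
  rw [show aeval (eFam m) P = mulGen m m from hP.1]
  let g : Fin N → Option (Fin m) := fun i => if h : (i : ℕ) < m then some ⟨i, h⟩ else none
  let κ : MvPolynomial (Fin N ⊕ Fin N) ℤ →ₐ[ℤ] MvPolynomial (Fin m ⊕ Fin m) ℤ :=
    aeval (Sum.elim (fun i => (g i).elim 0 (X ∘ Sum.inl)) (fun i => (g i).elim 0 (X ∘ Sum.inr)))
  have hg : ∀ a : Fin m, g (Fin.castLE hN a) = some a := fun a => by simp [g]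
  have hg' : ∀ i : Fin N, i ∉ Set.range (Fin.castLE hN) → g i = none := fun i hi => by
    simp only [g]
    exact dif_neg fun h => hi ⟨⟨i, h⟩, rfl⟩
  have hk : ∀ (c : Fin m ⊕ Fin m → MvPolynomial (Fin m ⊕ Fin m) ℤ)
      (f : Fin N → Fin N ⊕ Fin N) (f' : Fin m → Fin m ⊕ Fin m)
      (_ : ∀ i, κ (X (f i)) = (g i).elim 0 (X ∘ f')),
      ∀ k, κ (rename f (esymm (Fin N) ℤ k)) = rename f' (esymm (Fin m) ℤ k) := by
    intro _ f f' hff k
    rw [rename_esymm_eq, rename_esymm_eq]
    change κ.toRingHom (PowerSeries.coeff k _) = _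
    rw [← PowerSeries.coeff_map, map_eSer, Multiset.map_map, eSer_univ, eSer_univ]
    congr 1
    refine (Fintype.prod_of_injective _ (Fin.castLE_injective hN) _ _ (fun i hi => ?_)
      (fun a => ?_)).symm
    · simp [hff, hg' i hi]
    · simp [hff, hg a]
  have hκ : ∀ i, κ (eFam N (Sum.map (Fin.castLE hN) (Fin.castLE hN) i)) = eFam m i := by
    rintro (k | k)
    · simpa [eFam] using hk (fun x => X x) Sum.inl Sum.inl (fun i => by simp [κ]) ((k : ℕ) + 1)
    · simpa [eFam] using hk (fun x => X x) Sum.inr Sum.inr (fun i => by simp [κ]) ((k : ℕ) + 1)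
  have := congrArg κ hQ
  rw [comp_aeval_apply] at this
  simp only [Function.comp_apply, hκ] at this
  rw [this, ← coeff_mulEl, ← coeff_mulEl]
  change κ.toRingHom (PowerSeries.coeff m _) = _
  rw [← PowerSeries.coeff_map, mulEl, map_eSer, Multiset.map_map, mulEl, eSer_univ, eSer_univ]
  congr 1
  refine (Fintype.prod_of_injective (Prod.map (Fin.castLE hN) (Fin.castLE hN))
    ((Fin.castLE_injective hN).prodMap (Fin.castLE_injective hN)) _ _ (fun i hi => ?_)
    (fun a => ?_)).symm
  · by_cases h1 : i.1 ∈ Set.range (Fin.castLE hN)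
    · have h2 : i.2 ∉ Set.range (Fin.castLE hN) := by
        rintro ⟨b, hb⟩
        obtain ⟨a, ha⟩ := h1
        exact hi ⟨(a, b), Prod.ext ha hb⟩
      simp [κ, hg' i.2 h2]
    · simp [κ, hg' i.1 h1]
  · simp [κ, hg a.1, hg a.2]

/-! ### One family -/

/-- ∏ over the i-element subsets s of (1 + (∏_{a∈s} T_a) t). -/
def compEl (N i : ℕ) : PowerSeries (MvPolynomial (Fin N) ℤ) :=
  ∏ s ∈ (univ : Finset (Fin N)).powersetCard i,
    (1 + PowerSeries.C (∏ a ∈ s, X a) * PowerSeries.X)

lemma compEl_eq (N i : ℕ) : compEl N i = eSer (((univ : Finset (Fin N)).powersetCard i).val.map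
    fun s => (∏ a ∈ s, X a : MvPolynomial (Fin N) ℤ)) := by
  simp only [eSer, Multiset.map_map]; rfl

lemma coeff_compEl (N i j : ℕ) : PowerSeries.coeff j (compEl N i) = compGen N i j := by
  rw [compEl_eq, coeff_eSer]; rfl

theorem exists_compGen_eq (N i j : ℕ) :
    ∃ P : MvPolynomial (Fin N) ℤ, esHom ℤ N P = compGen N i j ∧
      IsWeightedHomogeneous (fun k : Fin N => (k : ℕ) + 1) P (i * j) := by
  classical
  have hsym : (compGen N i j).IsSymmetric := by
    intro e
    change (rename e).toRingHom (compGen N i j) = compGen N i j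
    rw [← coeff_compEl, ← PowerSeries.coeff_map, compEl, map_prod]
    congr 1
    refine Finset.prod_equiv e.finsetCongr (fun s => by simp) fun s _ => ?_
    simp [Equiv.finsetCongr_apply]
  obtain ⟨P, hP⟩ := exists_esHom_eq hsym
  refine ⟨weightedHomogeneousComponent _ (i * j) P, ?_,
    weightedHomogeneousComponent_isWeightedHomogeneous _ _⟩
  rw [esHom, ← component_aeval (w' := fun _ : Fin N => (1 : ℕ))]
  · rw [show aeval (fun k : Fin N => esymm (Fin N) ℤ ((k : ℕ) + 1)) P = _ from hP]
    refine IsWeightedHomogeneous.weightedHomogeneousComponent_same ?_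
    rw [compGen, Finset.esymm_map_val]
    refine IsWeightedHomogeneous.sum _ _ _ fun t ht => ?_
    have := IsWeightedHomogeneous.prod t (fun s => (∏ a ∈ s, X a : MvPolynomial (Fin N) ℤ))
      (fun _ => i) (fun s hs => by
        have h2 := IsWeightedHomogeneous.prod s (fun a => (X a : MvPolynomial (Fin N) ℤ))
          (fun _ => (1 : ℕ)) (fun a _ => isWeightedHomogeneous_X ℤ (fun _ : Fin N => (1 : ℕ)) a)
        have hsi : s.card = i :=
          (mem_powersetCard.1 ((mem_powersetCard.1 ht).1 hs)).2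
        simpa [hsi] using h2)
    rw [sum_const, (mem_powersetCard.1 ht).2] at this
    simpa [mul_comm] using this
  · intro k
    simpa using isWH_esymm (R := ℤ) (w := fun _ : Fin N => (1 : ℕ)) (c := (1 : ℕ))
      (f := id) (fun _ : Fin N => rfl) ((k : ℕ) + 1)

theorem exists_isCompPoly' (i j : ℕ) : ∃ Q, IsCompPoly i j Q := exists_compGen_eq (i * j) i j

lemma isCompPoly_unique {i j : ℕ} {P Q : MvPolynomial (Fin (i * j)) ℤ}
    (hP : IsCompPoly i j P) (hQ : IsCompPoly i j Q) : P = Q :=
  esHom_injective (i * j) (hP.1.trans hQ.1.symm)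

/-- Stability of Q_{i,j} under adding variables. -/
theorem compPoly_stable {i j N : ℕ} (hN : i * j ≤ N) {P : MvPolynomial (Fin (i * j)) ℤ}
    (hP : IsCompPoly i j P) :
    aeval (fun k : Fin (i * j) => esymm (Fin N) ℤ ((k : ℕ) + 1)) P = compGen N i j := by
  classical
  obtain ⟨Q, hQ, hQh⟩ := exists_compGen_eq N i j
  obtain ⟨Q', rfl⟩ := exists_rename_eq_of_vars_subset_range Q (Fin.castLE hN)
    (Fin.castLE_injective hN) (by
      intro k hk
      obtain ⟨d, hd, hid⟩ := (mem_vars k).1 hk
      have hle := Finsupp.le_weight_of_ne_zero (w := fun k : Fin N => (k : ℕ) + 1)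
        (fun _ => Nat.zero_le _) (Finsupp.mem_support_iff.1 hid)
      rw [hQh (mem_support_iff.1 hd)] at hle
      exact ⟨⟨k, by omega⟩, rfl⟩)
  rw [esHom, aeval_rename] at hQ
  suffices h : Q' = P by subst h; exact hQ
  apply esHom_injective (i * j)
  rw [show esHom ℤ (i * j) P = compGen (i * j) i j from hP.1]
  let κ : MvPolynomial (Fin N) ℤ →ₐ[ℤ] MvPolynomial (Fin (i * j)) ℤ :=
    aeval fun a : Fin N => if h : (a : ℕ) < i * j then X ⟨a, h⟩ else 0
  have hκ : ∀ k : ℕ, κ (esymm (Fin N) ℤ k) = esymm (Fin (i * j)) ℤ k := by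
    intro k
    have e1 := rename_esymm_eq (id : Fin N → Fin N) k
    have e2 := rename_esymm_eq (id : Fin (i * j) → Fin (i * j)) k
    rw [rename_id_apply] at e1 e2
    rw [e1, e2]
    change κ.toRingHom (PowerSeries.coeff k _) = _
    rw [← PowerSeries.coeff_map, map_eSer, Multiset.map_map, eSer_univ, eSer_univ]
    congr 1
    refine (Fintype.prod_of_injective _ (Fin.castLE_injective hN) _ _ (fun a ha => ?_)
      (fun a => ?_)).symm
    · have : ¬ (a : ℕ) < i * j := fun h => ha ⟨⟨a, h⟩, rfl⟩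
      simp [κ, this]
    · simp [κ]
  have := congrArg κ hQ
  rw [comp_aeval_apply] at this
  simp only [Function.comp_apply, hκ] at this
  refine Eq.trans this ?_
  rw [← coeff_compEl, ← coeff_compEl]
  change κ.toRingHom (PowerSeries.coeff j _) = _
  rw [← PowerSeries.coeff_map, compEl, map_prod, compEl]
  congr 1
  refine (Finset.prod_of_injOn (fun s : Finset (Fin (i * j)) => s.map (Fin.castLEEmb hN))
    (fun s _ t _ h => Finset.map_injective _ h) (fun s hs => ?_) (fun s hs hs' => ?_)
    (fun s _ => ?_)).symm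
  · rw [mem_coe, mem_powersetCard] at hs ⊢
    exact ⟨subset_univ _, by simpa using hs.2⟩
  · have : ∃ a ∈ s, ¬ (a : ℕ) < i * j := by
      by_contra hcon
      push Not at hcon
      apply hs'
      refine ⟨s.preimage (Fin.castLE hN) (Fin.castLE_injective hN).injOn, ?_, ?_⟩
      · rw [mem_coe, mem_powersetCard]
        refine ⟨subset_univ _, ?_⟩
        rw [Finset.card_preimage, Finset.filter_true_of_mem, (mem_powersetCard.1 hs).2]
        exact fun a ha => ⟨⟨a, hcon a ha⟩, rfl⟩
      · ext a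
        simp only [mem_map, mem_preimage, Fin.castLEEmb_apply]
        exact ⟨fun ⟨b, hb, e⟩ => e ▸ hb, fun ha => ⟨⟨a, hcon a ha⟩, ha, rfl⟩⟩
    obtain ⟨a, ha, hlt⟩ := this
    have h0 : (∏ x ∈ s, PowerSeries.C (κ (X x))) = 0 :=
      Finset.prod_eq_zero ha (by simp [κ, hlt])
    simp [h0]
  · simp [κ]

end Groth.Agent.H27Lambda
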